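import Cfsg.Agent.Lib.InvolTimesSym.Patterns

/-!
# The action of `N(E) ∩ C(t)` on `E`
-/

set_option autoImplicit false

namespace Cfsg.Agent.InvolTimesSym

open Subgroup

/-- The linear parts induced by `N(E) ∩ C(t)` on `⟨p, z, a⟩`, with exponents of `σ` and `q`. -/
def cMaps : List (Fin 8 → Fin 8) :=
  [lin 1 2 4, lin 3 7 1, lin 4 5 3, lin 3 2 4, lin 4 7 1, lin 1 5 3]

/-- The four points `t π` with `π = {1, z, pa, pza}`. -/
def four : Fin 4 → Fin 8 := ![0, 2, 5, 7]

variable {G : Type*} [Group G] [Finite G] {t p q a b z σ τ : G}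

omit [Finite G] in
theorem cmap_mem_iff {g : G} {X : Subgroup G} (h : g ∈ normalizer (X : Set G)) (x : G) :
    x ∈ X ↔ g * x * g⁻¹ ∈ X := Subgroup.mem_normalizer_iff.mp h x

omit [Finite G] in
theorem conj_prod (g u v : G) : g * (u * v) * g⁻¹ = (g * u * g⁻¹) * (g * v * g⁻¹) := by group

namespace Base

variable (B : Base t p q a b z σ τ)
include B

omit [Finite G] in
theorem conj_uAt_of_u {x : G} (hx : x ∈ uList p z a) (n : Fin 8) :
    x * uAt p z a n * x⁻¹ = uAt p z a n := by
  obtain ⟨m, rfl⟩ := B.left.mem_uList_iff.mp hx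
  apply conj_of_comm'
  rw [B.left.uAt_mul, B.left.uAt_mul]
  congr 1
  exact (by decide : ∀ i j, xr i j = xr j i) m n

omit [Finite G] in
theorem conj_uAt_of_t (n : Fin 8) : t * uAt p z a n * t⁻¹ = uAt p z a n := by
  apply conj_of_comm'
  have c1 : Commute t p := B.left.tp
  have c2 : Commute t z := B.left.zt
  have c3 : Commute t a := B.left.ta
  exact (((c1.pow_right _).mul_right (c2.pow_right _)).mul_right (c3.pow_right _)).eq

omit [Group G] [Finite G] B in
theorem lin_id : ∀ n, lin 1 2 4 n = n := by decide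

/-- An element of `N(E) ∩ C(t)` acts on `⟨p, z, a⟩` by one of six maps, trivially only in `E`. -/
theorem normC_action {g : G}
    (hg : g ∈ normalizer (eG t p z a : Set G) ⊓ centralizer ({t} : Set G)) :
    ∃ f ∈ cMaps, (∀ n, g * uAt p z a n * g⁻¹ = uAt p z a (f n)) ∧
      (f = lin 1 2 4 → g ∈ eG t p z a) := by
  have hu : ∀ x ∈ uList p z a, ∀ n, x * uAt p z a n * x⁻¹ = uAt p z a (lin 1 2 4 n) :=
    fun x hx n => by rw [B.conj_uAt_of_u hx, lin_id]
  have hσ := B.conj_σ_uAt
  have hq := B.conj_q_uAt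
  have hcomp : ∀ {x y : G} {f f' : Fin 8 → Fin 8},
      (∀ n, x * uAt p z a n * x⁻¹ = uAt p z a (f n)) →
      (∀ n, y * uAt p z a n * y⁻¹ = uAt p z a (f' n)) →
      ∀ n, x * y * uAt p z a n * (x * y)⁻¹ = uAt p z a (f (f' n)) := by
    intro x y f f' hx hy n
    rw [← hx, ← hy]; group
  have key : ∀ x ∈ nList p q z a σ, ∃ f ∈ cMaps, (∀ n, x * uAt p z a n * x⁻¹ = uAt p z a (f n)) ∧
      (f = lin 1 2 4 → x ∈ uList p z a) := by
    intro x hx
    simp only [nList, mList, List.map_append, List.map_map, List.mem_append, List.mem_map,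
      Function.comp] at hx
    rcases hx with ((h | ⟨u, hu', rfl⟩) | (⟨u, hu', rfl⟩ | ⟨u, hu', rfl⟩)) |
      (⟨u, hu', rfl⟩ | ⟨u, hu', rfl⟩)
    · exact ⟨_, by simp [cMaps], hu x h, fun _ => h⟩
    · refine ⟨lin 3 2 4, by simp [cMaps], fun n => ?_, fun h => absurd h (by decide)⟩
      rw [hcomp hq (hu u hu') n, lin_id]
    · refine ⟨lin 3 7 1, by simp [cMaps], fun n => ?_, fun h => absurd h (by decide)⟩
      rw [hcomp hσ (hu u hu') n, lin_id]
    · refine ⟨lin 4 7 1, by simp [cMaps], fun n => ?_, fun h => absurd h (by decide)⟩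
      rw [hcomp hσ (hcomp hq (hu u hu')) n]
      congr 1; revert n; decide
    · refine ⟨lin 4 5 3, by simp [cMaps], fun n => ?_, fun h => absurd h (by decide)⟩
      rw [hcomp (hcomp hσ hσ) (hu u hu') n]
      congr 1; revert n; decide
    · refine ⟨lin 1 5 3, by simp [cMaps], fun n => ?_, fun h => absurd h (by decide)⟩
      rw [hcomp (hcomp hσ hσ) (hcomp hq (hu u hu')) n]
      congr 1; revert n; decide
  rcases mem_tList.mp (B.mem_normC.mp hg) with h | h
  · obtain ⟨f, hf, h1, h2⟩ := key g h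
    exact ⟨f, hf, h1, fun e => mem_sup_left (B.left.mem_uG.mpr (h2 e))⟩
  · obtain ⟨f, hf, h1, h2⟩ := key _ h
    refine ⟨f, hf, fun n => ?_, fun e => ?_⟩
    · calc g * uAt p z a n * g⁻¹ = t * ((t⁻¹ * g) * uAt p z a n * (t⁻¹ * g)⁻¹) * t⁻¹ := by group
        _ = _ := by rw [h1, B.conj_uAt_of_t]
    · rw [← mul_inv_cancel_left t g]
      exact mul_mem t_mem_eG (mem_sup_left (B.left.mem_uG.mpr (h2 e)))

theorem eG_comm {x y : G} (hx : x ∈ eG t p z a) (hy : y ∈ eG t p z a) :
    x * y = y * x := exp_two_comm (fun _ h => B.eG_sq h) hx hy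

theorem eG_le_cent {u : G} (hu : u ∈ eG t p z a) :
    eG t p z a ≤ centralizer ({u} : Set G) := fun _ hx =>
  mem_centralizer_singleton_iff.mpr (B.eG_comm hx hu)

omit [Finite G] in
theorem eG_le_normC :
    eG t p z a ≤ normalizer (eG t p z a : Set G) ⊓ centralizer ({t} : Set G) :=
  le_inf Subgroup.le_normalizer B.eG_le

theorem q_mem_normC : q ∈ normalizer (eG t p z a : Set G) ⊓ centralizer ({t} : Set G) :=
  B.mem_normC.mpr (mem_tList.mpr (Or.inl (List.mem_append_left _ (List.mem_append_left _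
    (B.mem_mG.mp (mem_sup_right (mem_zpowers q)))))))

theorem σ_mem_normC : σ ∈ normalizer (eG t p z a : Set G) ⊓ centralizer ({t} : Set G) :=
  B.mem_normC.mpr (mem_tList.mpr (Or.inl (List.mem_append_left _ (List.mem_append_right _
    (List.mem_map.mpr ⟨1, List.mem_append_left _ (by simp [uList]), mul_one σ⟩)))))

theorem uAt_mem (n : Fin 8) : uAt p z a n ∈ eG t p z a :=
  mem_sup_left (B.left.mem_uG.mpr (B.left.mem_uList_iff.mpr ⟨n, rfl⟩))

theorem t_uAt_mem (n : Fin 8) : t * uAt p z a n ∈ eG t p z a := mul_mem t_mem_eG (B.uAt_mem n)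

omit [Finite G] in
theorem t_uAt_inj {m n : Fin 8} (h : t * uAt p z a m = t * uAt p z a n) : m = n :=
  B.left.uAt_inj (mul_left_cancel h)

/-- `g t g⁻¹` cannot stay at `t` for all of `N(E)` if some `t u ≠ t` with `u` moved by `σ` is
conjugate to `t`. -/
theorem exists_move {n : Fin 8} (hn : lin 3 7 1 n ≠ n) (hK : IsConj t (t * uAt p z a n)) :
    ∃ g ∈ normalizer (eG t p z a : Set G), g * t * g⁻¹ ≠ t := by
  by_contra hcon
  push Not at hcon
  have hle : normalizer (eG t p z a : Set G) ≤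
      normalizer (eG t p z a : Set G) ⊓ centralizer ({t} : Set G) :=
    le_inf le_rfl fun g hg => mem_centralizer_singleton_iff.mpr (comm_of_conj (hcon g hg))
  have hcard : Nat.card (normalizer (eG t p z a : Set G)) = 96 := by
    rw [le_antisymm hle inf_le_left]; exact B.card_normC
  set u := t * uAt p z a n
  have h96 := B.card_stab hK (B.eG_le_cent (B.t_uAt_mem n))
  have heq : normalizer (eG t p z a : Set G) ⊓ centralizer ({u} : Set G) =
      normalizer (eG t p z a : Set G) := eq_of_card inf_le_left (by rw [h96, hcard])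
  have hσ := (Subgroup.mem_inf.mp B.σ_mem_normC).1
  rw [← heq, Subgroup.mem_inf, mem_centralizer_singleton_iff] at hσ
  have h1 := conj_of_comm' hσ.2
  rw [conj_prod, conj_of_comm' B.left.tσ.symm, B.conj_σ_uAt] at h1
  exact hn (B.t_uAt_inj h1)

end Base

end Cfsg.Agent.InvolTimesSym
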