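import Cfsg.Agent.Lib.InvolTimesSym.Config
import Cfsg.Agent.Lib.InvolTimesSym.Action

/-!
# The configuration `t·({1} ∪ involutions)`: `N(E)` on the eight points `t U`

`b` is central in `N(E)`, and `N(E)` is either transitive on the eight points or has the orbit
`t π` and an element of `N(T)` exchanging the two elementary abelian subgroups.
-/

set_option autoImplicit false
set_option maxRecDepth 20000

namespace Cfsg.Agent.InvolTimesSym

open Subgroup

/-- The six linear maps, indexed. -/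
def cMap : Fin 6 → Fin 8 → Fin 8 :=
  ![lin 1 2 4, lin 3 7 1, lin 4 5 3, lin 3 2 4, lin 4 7 1, lin 1 5 3]

theorem cMap_of_mem {f : Fin 8 → Fin 8} (h : f ∈ cMaps) : ∃ k, cMap k = f := by
  simp only [cMaps, List.mem_cons, List.not_mem_nil, or_false] at h
  rcases h with rfl | rfl | rfl | rfl | rfl | rfl
  exacts [⟨0, rfl⟩, ⟨1, rfl⟩, ⟨2, rfl⟩, ⟨3, rfl⟩, ⟨4, rfl⟩, ⟨5, rfl⟩]

theorem partner_fin : ∀ v v' : Fin 8, v' ≠ v →
    (∀ k : Fin 6, cMap k v = v ↔ cMap k v' = v') → v' = xr v 6 := by decide +kernel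

theorem orbit_eight : ∀ v w : Fin 8, v ≠ 0 → v ≠ 6 →
    w = 0 ∨ w = 6 ∨ w = v ∨ w = xr v 6 ∨ w = lin 3 7 1 v ∨ w = xr (lin 3 7 1 v) 6 ∨
      w = lin 3 7 1 (lin 3 7 1 v) ∨ w = xr (lin 3 7 1 (lin 3 7 1 v)) 6 := by decide +kernel

theorem lin_add : ∀ i j k m : Fin 8, lin i j k (xr m 6) = xr (lin i j k m) (lin i j k 6) := by
  decide +kernel

theorem xr_assoc : ∀ u v w : Fin 8, xr (xr u v) w = xr u (xr v w) := by decide +kernel
theorem xr_self : ∀ u : Fin 8, xr u u = 0 := by decide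
theorem xr_zero : ∀ u : Fin 8, xr u 0 = u := by decide
theorem zero_xr : ∀ u : Fin 8, xr 0 u = u := by decide
theorem xr_comm : ∀ u v : Fin 8, xr u v = xr v u := by decide

variable {G : Type*} [Group G] [Finite G] {t p q a b z σ τ : G}

/-- The eight points. -/
def eightPts (t p z a : G) (i : Fin 8) : G := t * uAt p z a i

namespace BCfg

variable (h : BCfg t p q a b z σ τ)
include h

omit [Finite G] in
theorem symm : BCfg t q p b a z τ σ where
  toBase := h.toBase.symm
  na := h.nb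
  nb := h.na
  bax := h.bax

theorem nK (n : Fin 8) : ¬ IsConj t (uAt p z a n) := by
  have B := h.toBase
  obtain ⟨v0, -, v2, -, v4, -, v6, -⟩ := B.uAt_vals
  rw [B.conj_class_one]
  rcases (by decide : ∀ m : Fin 8, rep m = 0 ∨ rep m = 2 ∨ rep m = 4 ∨ rep m = 6) n with
    hr | hr | hr | hr <;> rw [hr]
  · rw [v0]; exact B.not_conj_one
  · rw [v2]; exact B.not_conj_z
  · rw [v4]; exact h.na
  · rw [v6]; exact h.nb

theorem K_tu (n : Fin 8) : IsConj t (t * uAt p z a n) := by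
  have B := h.toBase
  by_cases hn : n = 0
  · rw [hn, B.uAt_vals.1, mul_one]
  have h1 : uAt p z a n ≠ 1 := fun e => hn (B.left.uAt_inj (e.trans B.uAt_vals.1.symm))
  refine (h.bax t _ (IsConj.refl t) (B.eG_sq (B.uAt_mem n)) h1 (fun e => ?_) ?_).mpr (h.nK n)
  · exact h.nK n (by rw [e])
  · exact B.eG_comm Base.t_mem_eG (B.uAt_mem n)

theorem K_eG_iff {x : G} (hx : x ∈ eG t p z a) : IsConj t x ↔ ∃ n, eightPts t p z a n = x := by
  constructor
  · intro hK
    obtain ⟨n, hn | hn⟩ := h.toBase.mem_E_iff.mp hx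
    · exact absurd (hn ▸ hK) (h.nK n)
    · exact ⟨n, hn⟩
  · rintro ⟨n, rfl⟩; exact h.K_tu n

theorem conj_tu {g : G} (hg : g ∈ normalizer (eG t p z a : Set G)) (n : Fin 8) :
    ∃ m, g * eightPts t p z a n * g⁻¹ = eightPts t p z a m := by
  obtain ⟨m, hm⟩ := (h.K_eG_iff ((cmap_mem_iff hg _).mp (h.toBase.t_uAt_mem n))).mp
    ((isConj_conj t g _).mpr (h.K_tu n))
  exact ⟨m, hm.symm⟩

theorem conj_u {g : G} (hg : g ∈ normalizer (eG t p z a : Set G)) (n : Fin 8) :
    ∃ m, g * uAt p z a n * g⁻¹ = uAt p z a m := by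
  obtain ⟨m, hm | hm⟩ := h.toBase.mem_E_iff.mp
    ((cmap_mem_iff hg _).mp (h.toBase.uAt_mem n))
  · exact ⟨m, hm.symm⟩
  · exact absurd ((isConj_conj t g _).mp (hm ▸ h.K_tu m)) (h.nK n)

theorem acts : ActsOn (normalizer (eG t p z a : Set G)) conjAct (eightPts t p z a) where
  act_one := conjAct_one
  act_mul := conjAct_mul
  inj := fun _ _ e => h.toBase.t_uAt_inj e
  maps _ hg i := h.conj_tu hg i

/-- The permutation of the eight points. -/
noncomputable def ρ : normalizer (eG t p z a : Set G) →* Equiv.Perm (Fin 8) := h.acts.hom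

theorem ρ_spec (g : normalizer (eG t p z a : Set G)) (n : Fin 8) :
    (g : G) * eightPts t p z a n * (g : G)⁻¹ = eightPts t p z a (h.ρ g n) := h.acts.hom_spec g n

theorem ρ_eq {g : normalizer (eG t p z a : Set G)} {m n : Fin 8}
    (e : (g : G) * eightPts t p z a n * (g : G)⁻¹ = eightPts t p z a m) : h.ρ g n = m :=
  h.acts.hom_eq g n m e

omit [Finite G] in
theorem eightPts_zero : eightPts t p z a 0 = t := by
  rw [eightPts, h.toBase.uAt_vals.1, mul_one]

theorem ρ_zero (g : normalizer (eG t p z a : Set G)) :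
    (g : G) * t * (g : G)⁻¹ = t * uAt p z a (h.ρ g 0) := by
  have e := h.ρ_spec g 0
  rwa [h.eightPts_zero] at e

/-- The linear part. -/
theorem affine (g : normalizer (eG t p z a : Set G)) : ∃ i j k,
    (∀ n, (g : G) * uAt p z a n * (g : G)⁻¹ = uAt p z a (lin i j k n)) ∧
      ∀ n, h.ρ g n = xr (h.ρ g 0) (lin i j k n) := by
  obtain ⟨i, hi⟩ := h.conj_u g.2 1
  obtain ⟨j, hj⟩ := h.conj_u g.2 2
  obtain ⟨k, hk⟩ := h.conj_u g.2 4
  obtain ⟨-, v1, v2, -, v4, -⟩ := h.toBase.uAt_vals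
  rw [v1] at hi; rw [v2] at hj; rw [v4] at hk
  have hlin := h.toBase.left.conj_uAt hi hj hk
  refine ⟨i, j, k, hlin, fun n => h.ρ_eq ?_⟩
  rw [eightPts, conj_prod, hlin, h.ρ_zero, eightPts, mul_assoc, h.toBase.left.uAt_mul]

theorem normC_real (k : Fin 6) :
    ∃ c ∈ normalizer (eG t p z a : Set G) ⊓ centralizer ({t} : Set G),
      ∀ n, c * uAt p z a n * c⁻¹ = uAt p z a (cMap k n) := by
  have B := h.toBase
  have hσ := B.conj_σ_uAt
  have hq := B.conj_q_uAt
  have hcomp : ∀ {x y : G} {f f' : Fin 8 → Fin 8},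
      (∀ n, x * uAt p z a n * x⁻¹ = uAt p z a (f n)) →
      (∀ n, y * uAt p z a n * y⁻¹ = uAt p z a (f' n)) →
      ∀ n, x * y * uAt p z a n * (x * y)⁻¹ = uAt p z a (f (f' n)) := by
    intro x y f f' hx hy n
    rw [← hx, ← hy]; group
  have mq := B.q_mem_normC
  have mσ := B.σ_mem_normC
  fin_cases k
  · exact ⟨1, one_mem _, fun n => by simp [cMap, Base.lin_id]⟩
  · exact ⟨σ, mσ, hσ⟩
  · refine ⟨σ * σ, mul_mem mσ mσ, fun n => ?_⟩
    rw [hcomp hσ hσ n]; congr 1; revert n; decide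
  · exact ⟨q, mq, hq⟩
  · refine ⟨σ * q, mul_mem mσ mq, fun n => ?_⟩
    rw [hcomp hσ hq n]; congr 1; revert n; decide
  · refine ⟨σ * σ * q, mul_mem (mul_mem mσ mσ) mq, fun n => ?_⟩
    rw [hcomp (hcomp hσ hσ) hq n]; congr 1; revert n; decide

theorem stab_card (n : Fin 8) :
    Nat.card (normalizer (eG t p z a : Set G) ⊓
      centralizer ({eightPts t p z a n} : Set G) : Subgroup G) = 96 :=
  h.toBase.card_stab (h.K_tu n) (h.toBase.eG_le_cent (h.toBase.t_uAt_mem n))

omit [Finite G] in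
theorem fix_iff {c : G} {f : Fin 8 → Fin 8} (hc : c * t = t * c)
    (hf : ∀ n, c * uAt p z a n * c⁻¹ = uAt p z a (f n)) (v : Fin 8) :
    c ∈ centralizer ({eightPts t p z a v} : Set G) ↔ f v = v := by
  rw [mem_centralizer_singleton_iff]
  constructor
  · intro e
    have e' := conj_of_comm' e
    rw [eightPts, conj_prod, conj_of_comm' hc, hf] at e'
    exact h.toBase.t_uAt_inj e'
  · intro e
    apply comm_of_conj
    rw [eightPts, conj_prod, conj_of_comm' hc, hf, e]

theorem stab_b : normalizer (eG t p z a : Set G) ⊓ centralizer ({eightPts t p z a 6} : Set G) =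
    normalizer (eG t p z a : Set G) ⊓ centralizer ({t} : Set G) := by
  refine (eq_of_card ?_ ?_).symm
  · intro c hc
    obtain ⟨f, hf, h1, -⟩ := h.toBase.normC_action hc
    refine ⟨hc.1, (h.fix_iff (mem_centralizer_singleton_iff.mp hc.2) h1 6).mpr ?_⟩
    obtain ⟨k, rfl⟩ := cMap_of_mem hf
    exact (by decide : ∀ k, cMap k 6 = 6) k
  · rw [h.stab_card, h.toBase.card_normC]

/-- The two points with the same stabiliser go to such a pair. -/
theorem ρ_six (g : normalizer (eG t p z a : Set G)) : h.ρ g 6 = xr (h.ρ g 0) 6 := by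
  refine partner_fin _ _ (fun e => absurd ((h.ρ g).injective e) (by decide)) fun k => ?_
  obtain ⟨c, hc, hcf⟩ := h.normC_real k
  have hct := mem_centralizer_singleton_iff.mp (Subgroup.mem_inf.mp hc).2
  rw [← h.fix_iff hct hcf, ← h.fix_iff hct hcf]
  have key : ∀ n, c ∈ centralizer ({eightPts t p z a (h.ρ g n)} : Set G) ↔
      (g : G)⁻¹ * c * g ∈
        normalizer (eG t p z a : Set G) ⊓ centralizer ({eightPts t p z a n} : Set G) := by
    intro n
    rw [← h.ρ_spec g n, Subgroup.mem_inf, mem_centralizer_singleton_iff,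
      mem_centralizer_singleton_iff]
    constructor
    · intro e
      exact ⟨mul_mem (mul_mem (inv_mem g.2) hc.1) g.2,
        by simpa [mul_assoc] using congrArg (fun w => (g : G)⁻¹ * w * g) e⟩
    · rintro ⟨-, e⟩
      simpa [mul_assoc] using congrArg (fun w => (g : G) * w * (g : G)⁻¹) e
  rw [key, key, h.stab_b, h.eightPts_zero]

/-- `b` is central in `N(E)`. -/
theorem conj_b {g : G} (hg : g ∈ normalizer (eG t p z a : Set G)) : g * b * g⁻¹ = b := by
  obtain ⟨i, j, k, hlin, haff⟩ := h.affine ⟨g, hg⟩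
  have e := haff 6
  rw [h.ρ_six] at e
  have e6 : lin i j k 6 = 6 := by
    have := congrArg (xr (h.ρ ⟨g, hg⟩ 0)) e
    rw [← xr_assoc, ← xr_assoc, xr_self, zero_xr, zero_xr] at this
    exact this.symm
  have h6 := hlin 6
  rw [e6, h.toBase.uAt_vals.2.2.2.2.2.2.1] at h6
  exact h6

theorem lin_six (g : normalizer (eG t p z a : Set G)) (n : Fin 8) :
    h.ρ g (xr n 6) = xr (h.ρ g n) 6 := by
  obtain ⟨i, j, k, -, haff⟩ := h.affine g
  have e := haff 6
  rw [h.ρ_six] at e
  have hl : ∀ m, lin i j k (xr m 6) = xr (lin i j k m) (lin i j k 6) := lin_add i j k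
  rw [haff (xr n 6), hl, ← xr_assoc, ← haff, show lin i j k 6 = 6 from by
    have := congrArg (xr (h.ρ g 0)) e
    rw [← xr_assoc, ← xr_assoc, xr_self, zero_xr, zero_xr] at this
    exact this.symm]

open scoped Classical in
/-- The orbit of a point. -/
noncomputable def orb (v : Fin 8) : Finset (Fin 8) :=
  Finset.univ.filter fun w => ∃ g, h.ρ g v = w

theorem mem_orb {v w : Fin 8} : w ∈ h.orb v ↔ ∃ g, h.ρ g v = w := by
  classical
  simp [orb]

theorem card_orb (v : Fin 8) :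
    Nat.card (normalizer (eG t p z a : Set G)) = 96 * (h.orb v).card := by
  classical
  set H := normalizer (eG t p z a : Set G)
  have := Fintype.ofFinite H
  rw [Nat.card_eq_fintype_card, ← Finset.card_univ,
    Finset.card_eq_sum_card_fiberwise (f := fun g : H => h.ρ g v) (t := h.orb v)
      (fun g _ => h.mem_orb.mpr ⟨g, rfl⟩)]
  have hfib : ∀ w ∈ h.orb v, (Finset.univ.filter fun g : H => h.ρ g v = w).card = 96 := by
    intro w hw
    obtain ⟨g₀, hg₀⟩ := h.mem_orb.mp hw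
    rw [← Fintype.card_subtype, ← Nat.card_eq_fintype_card, ← h.stab_card v]
    refine Nat.card_congr
      { toFun := fun g => ⟨((g₀⁻¹ * g.1 : H) : G), (g₀⁻¹ * g.1).2, ?_⟩
        invFun := fun c => ⟨g₀ * ⟨c.1, c.2.1⟩, ?_⟩
        left_inv := fun g => ?_
        right_inv := fun c => ?_ }
    · refine mem_centralizer_singleton_iff.mpr (comm_of_conj ?_)
      rw [h.ρ_spec, map_mul, Equiv.Perm.mul_apply, g.2, ← hg₀, ← Equiv.Perm.mul_apply, ← map_mul,
        inv_mul_cancel, map_one, Equiv.Perm.one_apply]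
    · rw [map_mul, Equiv.Perm.mul_apply, h.ρ_eq (m := v) (conj_of_comm'
        (mem_centralizer_singleton_iff.mp c.2.2)), hg₀]
    · ext; simp
    · ext; simp
  rw [Finset.sum_congr rfl hfib, Finset.sum_const, smul_eq_mul, mul_comm]

theorem orb_trans {u v w : Fin 8} (huv : v ∈ h.orb u) (hvw : w ∈ h.orb v) : w ∈ h.orb u := by
  obtain ⟨g, rfl⟩ := h.mem_orb.mp huv
  obtain ⟨k, rfl⟩ := h.mem_orb.mp hvw
  exact h.mem_orb.mpr ⟨k * g, by rw [map_mul, Equiv.Perm.mul_apply]⟩

theorem orb_symm {u v : Fin 8} (huv : v ∈ h.orb u) : u ∈ h.orb v := by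
  obtain ⟨g, rfl⟩ := h.mem_orb.mp huv
  exact h.mem_orb.mpr ⟨g⁻¹, by rw [map_inv, Equiv.Perm.inv_def, Equiv.symm_apply_apply]⟩

theorem orb_self (u : Fin 8) : u ∈ h.orb u :=
  h.mem_orb.mpr ⟨1, by rw [map_one, Equiv.Perm.one_apply]⟩

theorem orb_σ (v : Fin 8) : lin 3 7 1 v ∈ h.orb v := by
  refine h.mem_orb.mpr ⟨⟨σ, h.toBase.σ_mem_normC.1⟩, h.ρ_eq ?_⟩
  rw [eightPts, conj_prod, conj_of_comm' h.toBase.left.tσ.symm, h.toBase.conj_σ_uAt]
  rfl

theorem orb_card_eq (u v : Fin 8) : (h.orb u).card = (h.orb v).card :=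
  Nat.eq_of_mul_eq_mul_left (by norm_num : 0 < 96) ((h.card_orb u).symm.trans (h.card_orb v))

/-- The transitive case. -/
def Eight : Prop := ∀ v, v ∈ h.orb 0

theorem eight_of_six (h6 : 6 ∈ h.orb 0) : h.Eight := by
  obtain ⟨x, hx⟩ := h.mem_orb.mp h6
  have hcl : ∀ w ∈ h.orb 0, xr w 6 ∈ h.orb 0 := by
    intro w hw
    obtain ⟨g, hg⟩ := h.mem_orb.mp hw
    refine h.mem_orb.mpr ⟨g * x, ?_⟩
    rw [map_mul, Equiv.Perm.mul_apply, hx, h.ρ_six, hg]
  have h3 : 3 ≤ (h.orb 0).card := by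
    rw [h.orb_card_eq 0 2]
    have hsub : ({2, 7, 5} : Finset (Fin 8)) ⊆ h.orb 2 := by
      intro w hw
      simp only [Finset.mem_insert, Finset.mem_singleton] at hw
      have h7 : (7 : Fin 8) ∈ h.orb 2 := h.orb_σ 2
      rcases hw with rfl | rfl | rfl
      exacts [h.orb_self 2, h7, h.orb_trans h7 (h.orb_σ 7)]
    exact le_trans (by decide) (Finset.card_le_card hsub)
  obtain ⟨v, hv, hv'⟩ : ∃ v ∈ h.orb 0, v ∉ ({0, 6} : Finset (Fin 8)) := by
    by_contra hcon
    push Not at hcon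
    have := le_trans h3 (Finset.card_le_card (t := ({0, 6} : Finset (Fin 8))) fun w hw => hcon w hw)
    simp at this
  simp only [Finset.mem_insert, Finset.mem_singleton, not_or] at hv'
  have h1 := h.orb_trans hv (h.orb_σ v)
  have h2 := h.orb_trans h1 (h.orb_σ _)
  intro w
  rcases orbit_eight v w hv'.1 hv'.2 with e | e | e | e | e | e | e | e <;> rw [e]
  exacts [h.orb_self 0, h6, hv, hcl v hv, h1, hcl _ h1, h2, hcl _ h2]

theorem normT_conj_b {g : G} (hT : cmap g (tG t p q z a) = tG t p q z a)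
    (hE : cmap g (eG t p z a) = eG t q z b) : g * b * g⁻¹ = a ∧ g * a * g⁻¹ = b := by
  have B := h.toBase
  have hcen : ∀ x ∈ normalizer (eG t q z b : Set G), g * b * g⁻¹ * x = x * (g * b * g⁻¹) := by
    intro x hx
    have hx' : g⁻¹ * x * g ∈ normalizer (eG t p z a : Set G) := by
      rw [mem_normalizer_iff_cmap, cmap_mul, cmap_mul, hE, mem_normalizer_iff_cmap.mp hx, ← hE,
        ← cmap_mul, inv_mul_cancel, cmap_one]
    have e := comm_of_conj (h.conj_b hx')
    simpa [mul_assoc] using (congrArg (fun w => g * w * g⁻¹) e).symm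
  have hτ := hcen τ B.symm.σ_mem_normC.1
  have hz := B.conj_z hT
  have hgb : g * b * g⁻¹ = a := by
    rcases Base.mem_four B (B.conj_centre hT B.a_central_mem.2 B.central_b) with
      e | e | e | e | e | e | e | e
    · have e1 : b = 1 := by simpa [mul_assoc] using congrArg (fun w => g⁻¹ * w * g) e
      exact absurd (B.left.uAt_inj (B.uAt_vals.2.2.2.2.2.2.1.trans
        (e1.trans B.uAt_vals.1.symm))) (by decide)
    · have e1 : b = z := mul_left_cancel (mul_right_cancel (e.trans hz.symm))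
      exact absurd (B.left.uAt_inj (B.uAt_vals.2.2.2.2.2.2.1.trans
        (e1.trans B.uAt_vals.2.2.1.symm))) (by decide)
    · exact e
    · exfalso
      rw [e] at hτ
      have e2 := B.symm.conj_σ_uAt 4
      rw [B.symm.uAt_vals.2.2.2.2.1, conj_of_comm' hτ.symm] at e2
      exact absurd (B.right.uAt_inj (B.symm.uAt_vals.2.2.2.2.1.trans e2)) (by decide)
    all_goals exfalso
    all_goals refine h.nb ((isConj_conj t g b).mp ?_)
    all_goals rw [e]
    · rw [← B.uAt_vals.2.2.1]; exact h.K_tu 2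
    · rw [← B.uAt_vals.2.2.2.2.1]; exact h.K_tu 4
    · rw [← B.uAt_vals.2.2.2.2.2.2.1]; exact h.K_tu 6
  refine ⟨hgb, ?_⟩
  have e : a = b * z := B.right.az.symm
  conv_lhs => rw [e]
  rw [conj_prod, hgb, hz, B.left.az]

/-- The intransitive case: the orbit is `t π`, and `E`, `E'` are exchanged in `N(T)`. -/
theorem four_of_not_eight (h8 : ¬ h.Eight) :
    h.orb 0 = {0, 2, 5, 7} ∧ ∃ g, cmap g (tG t p q z a) = tG t p q z a ∧
      cmap g (eG t p z a) = eG t q z b ∧ g * t * g⁻¹ = t * b ∧ g * a * g⁻¹ = b ∧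
      g * b * g⁻¹ = a := by
  classical
  have B := h.toBase
  have h6 : 6 ∉ h.orb 0 := fun e => h8 (h.eight_of_six e)
  obtain ⟨g, hg, hT⟩ := B.exists_normT (s := t * b)
    (by rw [← B.uAt_vals.2.2.2.2.2.2.1]; exact h.K_tu 6) (Base.central_mul B.central_t B.central_b)
  have hE : cmap g (eG t p z a) = eG t q z b := by
    refine (B.eG_swap hT).resolve_left fun e => h6 (h.mem_orb.mpr
      ⟨⟨g, mem_normalizer_iff_cmap.mpr e⟩, h.ρ_eq ?_⟩)
    rw [h.eightPts_zero, eightPts, B.uAt_vals.2.2.2.2.2.2.1]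
    exact hg
  obtain ⟨hgb, hga⟩ := h.normT_conj_b hT hE
  refine ⟨?_, g, hT, hE, hg, hga, hgb⟩
  have hE' : cmap g (eG t q z b) = eG t p z a := by
    rcases B.symm.eG_swap (by rw [B.tG_symm, hT]) with e | e
    · have e' := congrArg (cmap g⁻¹) (hE.trans e.symm)
      rw [← cmap_mul, ← cmap_mul, inv_mul_cancel, cmap_one, cmap_one] at e'
      exact absurd e'.symm B.e2_ne
    · exact e
  have h2 : (2 : Fin 8) ∈ h.orb 0 := by
    refine h.mem_orb.mpr ⟨⟨g * g, mem_normalizer_iff_cmap.mpr (by rw [cmap_mul, hE, hE'])⟩,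
      h.ρ_eq ?_⟩
    rw [h.eightPts_zero, eightPts, B.uAt_vals.2.2.1]
    calc g * g * t * (g * g)⁻¹ = g * (g * t * g⁻¹) * g⁻¹ := by group
      _ = t * (b * a) := by rw [hg, conj_prod, hg, hgb, mul_assoc]
      _ = t * z := by rw [B.b_eq, (show Commute a z from B.left.za.symm).eq, mul_assoc,
          B.left.a2, mul_one]
  have h7 : (7 : Fin 8) ∈ h.orb 0 := h.orb_trans h2 (h.orb_σ 2)
  have h5 : (5 : Fin 8) ∈ h.orb 0 := h.orb_trans h7 (h.orb_σ 7)
  have hsub : ({0, 2, 5, 7} : Finset (Fin 8)) ⊆ h.orb 0 := by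
    intro w hw
    simp only [Finset.mem_insert, Finset.mem_singleton] at hw
    rcases hw with rfl | rfl | rfl | rfl
    exacts [h.orb_self 0, h2, h5, h7]
  refine (Finset.eq_of_subset_of_card_le hsub ?_).symm
  -- the orbit of `6` is disjoint and of the same size
  have hdisj : Disjoint (h.orb 0) (h.orb 6) := by
    rw [Finset.disjoint_left]
    exact fun w hw hw' => h6 (h.orb_trans hw (h.orb_symm hw'))
  have hle := Finset.card_le_univ (h.orb 0 ∪ h.orb 6)
  rw [Finset.card_union_of_disjoint hdisj, h.orb_card_eq 6 0, Fintype.card_fin] at hle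
  have : ({0, 2, 5, 7} : Finset (Fin 8)).card = 4 := rfl
  omega

/-- In the transitive case `N(T)` fixes `E`. -/
theorem eight_fix (h8 : h.Eight) {g : G} (hT : cmap g (tG t p q z a) = tG t p q z a) :
    cmap g (eG t p z a) = eG t p z a := by
  have B := h.toBase
  refine (B.eG_swap hT).resolve_right fun hE => ?_
  have hgt := B.conj_centre hT (mem_sup_right (mem_zpowers t)) B.central_t
  have hK := (isConj_conj t g t).mpr (IsConj.refl t)
  obtain ⟨v0, -, v2, -, v4, -, v6, -⟩ := B.uAt_vals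
  obtain ⟨n, hn⟩ : ∃ n, g * t * g⁻¹ = t * uAt p z a n := by
    rcases Base.mem_four B hgt with e | e | e | e | e | e | e | e
    · exact absurd (e ▸ hK) B.not_conj_one
    · exact absurd (e ▸ hK) B.not_conj_z
    · exact absurd (e ▸ hK) h.na
    · exact absurd (e ▸ hK) h.nb
    · exact ⟨0, by rw [e, v0, mul_one]⟩
    · exact ⟨2, by rw [e, v2]⟩
    · exact ⟨4, by rw [e, v4]⟩
    · exact ⟨6, by rw [e, v6]⟩
  obtain ⟨g', hg'⟩ := h.mem_orb.mp (h8 n)
  have hg't := h.ρ_zero g'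
  rw [hg', ← hn] at hg't
  have hc : (g'.1⁻¹ * g)⁻¹ * t = t * (g'.1⁻¹ * g)⁻¹ := by
    have e : (g'.1⁻¹ * g) * t * (g'.1⁻¹ * g)⁻¹ = t := by
      calc g'.1⁻¹ * g * t * (g'.1⁻¹ * g)⁻¹ = g'.1⁻¹ * (g * t * g⁻¹) * g'.1 := by group
        _ = t := by rw [← hg't]; group
    exact ((show Commute (g'.1⁻¹ * g) t from comm_of_conj e).inv_left).eq
  -- `c = g⁻¹ g'` centralises `t` and maps `E` to `g⁻¹ E = E'`
  have hg'E := mem_normalizer_iff_cmap.mp g'.2
  have hE' : cmap g (eG t q z b) = eG t p z a := by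
    rcases B.symm.eG_swap (by rw [B.tG_symm, hT]) with e | e
    · have e' := congrArg (cmap g⁻¹) (hE.trans e.symm)
      rw [← cmap_mul, ← cmap_mul, inv_mul_cancel, cmap_one, cmap_one] at e'
      exact absurd e'.symm B.e2_ne
    · exact e
  refine B.not_conj_eG hc ?_
  rw [mul_inv_rev, inv_inv, cmap_mul, hg'E, ← hE', ← cmap_mul, inv_mul_cancel, cmap_one]

theorem eight_symm (h8 : h.Eight) : h.symm.Eight := by
  by_contra hn
  obtain ⟨-, g, hT, hE, -⟩ := h.symm.four_of_not_eight hn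
  have hT' : cmap g (tG t p q z a) = tG t p q z a := by rwa [h.toBase.tG_symm] at hT
  have hfix := h.eight_fix h8 hT'
  rcases h.toBase.symm.eG_swap hT with e | e
  · exact h.toBase.e2_ne (e.symm.trans hE)
  · have e' := congrArg (cmap g⁻¹) (hfix.trans e.symm)
    rw [← cmap_mul, ← cmap_mul, inv_mul_cancel, cmap_one, cmap_one] at e'
    exact h.toBase.e2_ne e'.symm

end BCfg

end Cfsg.Agent.InvolTimesSym
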