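import Cfsg.Agent.Lib.InvolTimesSym.BBasic

/-!
# Conjugates of `t` in `T` in the configuration `t·({1} ∪ involutions)`
-/

set_option autoImplicit false

namespace Cfsg.Agent.InvolTimesSym

open Subgroup

variable {G : Type*} [Group G] [Finite G] {t p q a b z σ τ : G}

namespace BCfg

variable (h : BCfg t p q a b z σ τ)
include h

omit [Finite G] in
theorem sq_of_K {s : G} (hs : IsConj t s) : s * s = 1 := by
  obtain ⟨g, rfl⟩ := isConj_iff.mp hs
  calc g * t * g⁻¹ * (g * t * g⁻¹) = g * (t * t) * g⁻¹ := by group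
    _ = 1 := by rw [h.toBase.t2]; group

theorem nK_M {m : G} (hm : m ∈ mG p q z a) : ¬ IsConj t m := by
  intro hK
  rcases h.toBase.left.invM m (h.toBase.mem_mG.mp hm) (h.sq_of_K hK) with hu | hu
  · obtain ⟨n, hn⟩ := h.toBase.left.mem_uList_iff.mp hu
    exact h.nK n (hn ▸ hK)
  · obtain ⟨n, hn⟩ := h.toBase.right.mem_uList_iff.mp hu
    exact h.symm.nK n (hn ▸ hK)

theorem K_tM {m : G} (hm : m ∈ mG p q z a) (h2 : m * m = 1) : IsConj t (t * m) := by
  by_cases h1 : m = 1
  · rw [h1, mul_one]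
  exact (h.bax t m (IsConj.refl t) h2 h1 (fun e => h.toBase.t_not_mem_mG (e ▸ hm))
    (h.toBase.t_comm_m hm)).mpr (h.nK_M hm)

omit [Finite G] h in
theorem sq_one_conj {g x : G} (hx : x * x = 1) : g * x * g⁻¹ * (g * x * g⁻¹) = 1 := by
  calc g * x * g⁻¹ * (g * x * g⁻¹) = g * (x * x) * g⁻¹ := by group
    _ = 1 := by rw [hx]; group

/-- `N(T)` normalises `M`. -/
theorem conj_M {g : G} (hT : cmap g (tG t p q z a) = tG t p q z a) :
    cmap g (mG p q z a) = mG p q z a := by
  have B := h.toBase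
  refine eq_of_card ?_ (card_cmap _ _)
  have key : ∀ x ∈ mG p q z a, x * x = 1 → x ∈ cmap g⁻¹ (mG p q z a) := by
    intro x hx hx2
    rw [mem_cmap, inv_inv]
    have hgx : g * x * g⁻¹ ∈ tG t p q z a := by
      rw [← hT]; exact conj_mem_cmap (Base.mG_le_tG hx)
    rcases mem_tList.mp (B.mem_tG.mp hgx) with e | e
    · exact B.mem_mG.mpr e
    · exfalso
      have hm := B.mem_mG.mpr e
      have h2 : t⁻¹ * (g * x * g⁻¹) * (t⁻¹ * (g * x * g⁻¹)) = 1 := by
        have hc : Commute t (g * x * g⁻¹) := B.central_t _ hgx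
        rw [inv_of_sq B.t2, hc.symm.mul_mul_mul_comm, B.t2, sq_one_conj hx2, one_mul]
      have := h.K_tM hm h2
      rw [mul_inv_cancel_left] at this
      exact h.nK_M hx ((isConj_conj t g x).mp this)
  have hle : mG p q z a ≤ cmap g⁻¹ (mG p q z a) := by
    simp only [mG, uG, sup_le_iff, zpowers_le]
    exact ⟨⟨⟨key _ (Base.uG_le_mG Side.p_mem) B.left.p2,
      key _ (Base.uG_le_mG Side.z_mem) B.left.z2⟩, key _ (Base.uG_le_mG Side.a_mem) B.left.a2⟩,
      key _ (mem_sup_right (mem_zpowers q)) B.right.p2⟩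
  intro x hx
  have := cmap_mono (g := g) hle hx
  rwa [← cmap_mul, mul_inv_cancel, cmap_one] at this

/-- The centre of `T` outside `M` is `tW`. -/
theorem conj_t_T {g : G} (hT : cmap g (tG t p q z a) = tG t p q z a) :
    ∃ w ∈ ([1, z, a, b] : List G), g * t * g⁻¹ = t * w := by
  have B := h.toBase
  have hK := (isConj_conj t g t).mpr (IsConj.refl t)
  rcases Base.mem_four B (B.conj_centre hT (mem_sup_right (mem_zpowers t)) B.central_t) with
    e | e | e | e | e | e | e | e
  · exact absurd (e ▸ hK) B.not_conj_one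
  · exact absurd (e ▸ hK) B.not_conj_z
  · exact absurd (e ▸ hK) h.na
  · exact absurd (e ▸ hK) h.nb
  · exact ⟨1, by simp, by rw [e, mul_one]⟩
  · exact ⟨z, by simp, e⟩
  · exact ⟨a, by simp, e⟩
  · exact ⟨b, by simp, e⟩

end BCfg

end Cfsg.Agent.InvolTimesSym
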