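import Cfsg.Agent.Lib.InvolTimesSym.BEightOctets

/-!
# The mixed configuration is impossible

The stabiliser `H` of the union of the four octets has order `4·768` and acts on them as `S₄`; the
odd permutations give `96` conjugates of `t` outside a subgroup of index two, against the count.
-/

set_option autoImplicit false
set_option maxRecDepth 20000

namespace Cfsg.Agent.InvolTimesSym

open Subgroup Equiv

variable {G : Type*} [Group G]

/-- Conjugation of subsets. -/
def setConj (g : G) (X : Set G) : Set G := {y | g⁻¹ * y * g ∈ X}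

theorem setConj_one (X : Set G) : setConj 1 X = X := by ext; simp [setConj]

theorem setConj_mul (g k : G) (X : Set G) : setConj (g * k) X = setConj g (setConj k X) := by
  ext; simp [setConj, mul_assoc]

theorem odd_invol_four : ∀ π : Perm (Fin 4), π * π = 1 → Perm.sign π = -1 →
    (Finset.univ.filter fun i => π i = i).card = 2 := by decide +kernel

theorem perm_linear : ∀ π : Perm (Fin 4), π 0 = 0 → ∃ k : Fin 6,
    cMap k 1 = octL 0 (π 2) ∧ cMap k 3 = octL 0 (π 3) ∧ cMap k 4 = octL 0 (π 1) ∧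
      (3 ≤ k.val ↔ Perm.sign π = -1) := by decide +kernel

theorem cMap_lin : ∀ (k : Fin 6) (n : Fin 8),
    lin (cMap k 1) (xr (cMap k 1) (cMap k 3)) (cMap k 4) n = cMap k n := by decide +kernel

theorem cMap_inj : ∀ k k' : Fin 6, (∀ n, cMap k n = cMap k' n) → k = k' := by decide +kernel

variable [Finite G] {t p q a b z σ τ s x : G}

omit [Finite G] in
theorem mem_octet_self {r : Fin 4 → G} (h : BCfg t p q a b z σ τ) (i : Fin 4) :
    r i ∈ octet p z a r i := ⟨0, by rw [h.toBase.uAt_vals.1, mul_one]⟩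

namespace BCfg

/-- Into itself suffices for normalising a finite set. -/
theorem normalizer_of_maps {S : Set G} {g : G} (hg : ∀ y ∈ S, g * y * g⁻¹ ∈ S) :
    g ∈ normalizer S := by
  rw [Subgroup.mem_set_normalizer_iff]
  intro y
  refine ⟨hg y, fun hy => ?_⟩
  let f : S → S := fun v => ⟨g * v.1 * g⁻¹, hg v.1 v.2⟩
  have hf : Function.Surjective f := Finite.injective_iff_surjective.mp fun u v e =>
    Subtype.ext (mul_left_cancel (mul_right_cancel (congrArg Subtype.val e)))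
  obtain ⟨⟨v, hv⟩, e⟩ := hf ⟨_, hy⟩
  exact (mul_left_cancel (mul_right_cancel (congrArg Subtype.val e)) : v = y) ▸ hv

variable (h : BCfg t p q a b z σ τ)
include h

omit [Finite G] in
/-- The stabiliser of the four octets permutes them. -/
theorem acts_oct {r : Fin 4 → G} (D : OctData h r x) :
    ActsOn (normalizer (octSet p z a r)) setConj (octet p z a r) where
  act_one := setConj_one
  act_mul := setConj_mul
  inj i j e := (h.oct_comm D (mem_octet_self h i) (e ▸ mem_octet_self h i)).mp rfl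
  maps g hg i := by
    have hiff := Subgroup.mem_set_normalizer_iff.mp hg
    obtain ⟨j, hj⟩ := (hiff _).mp ⟨i, mem_octet_self h i⟩
    refine ⟨j, Set.ext fun y => ⟨fun hy => ?_, fun hy => ?_⟩⟩
    · obtain ⟨k, hk⟩ := (hiff _).mp ⟨i, (hy : g⁻¹ * y * g ∈ octet p z a r i)⟩
      rw [show g * (g⁻¹ * y * g) * g⁻¹ = y by group] at hk
      have hc := (h.oct_comm D hy (mem_octet_self h i)).mpr rfl
      have hc' : y * (g * r i * g⁻¹) = g * r i * g⁻¹ * y := by
        simpa [mul_assoc] using congrArg (fun v => g * v * g⁻¹) hc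
      exact (h.oct_comm D hk hj).mp hc' ▸ hk
    · have hw : g⁻¹ * y * g ∈ octSet p z a r := (hiff _).mpr (by
        rw [show g * (g⁻¹ * y * g) * g⁻¹ = y by group]; exact ⟨j, hy⟩)
      obtain ⟨k, hk⟩ := hw
      have hc := (h.oct_comm D hy hj).mpr rfl
      have hc' : g⁻¹ * y * g * r i = r i * (g⁻¹ * y * g) := by
        simpa [mul_assoc] using congrArg (fun v => g⁻¹ * v * g) hc
      exact ((h.oct_comm D hk (mem_octet_self h i)).mp hc' ▸ hk :)

open MixedFacts in
set_option maxHeartbeats 1600000 in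
/-- The mixed configuration does not occur. -/
theorem mixed_false (M : Mixed h s x) : False := by
  classical
  have B := h.toBase
  obtain ⟨v0, v1, v2, v3, v4, v5, v6, v7⟩ := B.uAt_vals
  set r := octRep t q σ s with hr
  have D : OctData h r x := data h M
  have hlab : ∀ i, r i * t * (r i)⁻¹ = t * uAt p z a (octL 0 i) := rep_lab h M
  obtain ⟨g, hg, hgU⟩ := exists_g h M
  set E0 := normalizer (eG t p z a : Set G)
  set H := normalizer (octSet p z a r)
  have hr0 : r 0 = t := rfl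
  have hr1 : r 1 = s := rfl
  -- the displacement of an element of an octet
  have hoct : ∀ {y : G} {i : Fin 4}, y ∈ octet p z a r i →
      y ∈ cU p z a ∧ IsConj t y ∧ y * t * y⁻¹ = t * uAt p z a (octL 0 i) := by
    rintro y i ⟨m, rfl⟩
    refine ⟨mul_mem (D.mem i) (h.uAt_mem_cU m), h.K_mul_u (D.K i) (D.mem i) m, ?_⟩
    calc r i * uAt p z a m * t * (r i * uAt p z a m)⁻¹
        = r i * (uAt p z a m * t * (uAt p z a m)⁻¹) * (r i)⁻¹ := by group
      _ = _ := by rw [conj_of_comm' (mem_cU.mp h.t_mem_cU m).symm, hlab]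
  -- `N(E)` and `g` permute the octets
  have hE0H : E0 ≤ H := fun n hn => by
    refine normalizer_of_maps ?_
    rintro y ⟨i, hy⟩
    obtain ⟨hyc, hyK, hyl⟩ := hoct hy
    obtain ⟨m, hm⟩ := h.conj_u hn (octL 0 i)
    obtain ⟨m', hm'⟩ := h.conj_tu hn 0
    rw [h.eightPts_zero] at hm'
    have hy' : n * y * n⁻¹ ∈ cU p z a := h.cU_conj (fun k => h.conj_u hn k) hyc
    refine h.quad_mem D ((isConj_conj t n y).mpr hyK) hy' (n := m) ?_
    rw [hr0]
    have e1 := lab_conj (n := octL 0 i) hm' hm hyl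
    have e2 : n * y * n⁻¹ * eightPts t p z a m' * (n * y * n⁻¹)⁻¹ =
        n * y * n⁻¹ * t * (n * y * n⁻¹)⁻¹ * uAt p z a m' := by
      rw [eightPts, conj_prod, conj_of_comm' (mem_cU.mp hy' m')]
    rw [e2, eightPts, mul_assoc t, B.left.uAt_mul, xr_comm, ← B.left.uAt_mul, ← mul_assoc] at e1
    exact mul_right_cancel e1
  have hgH : g ∈ H := normalizer_of_maps (by
    rintro y ⟨i, hy⟩
    obtain ⟨hyc, hyK, hyl⟩ := hoct hy
    obtain ⟨m, hm⟩ := hgU (octL 0 i)
    rw [← octSet_swap r]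
    refine h.quad_mem D.swap ((isConj_conj t g y).mpr hyK) (h.cU_conj hgU hyc) (n := m) ?_
    exact lab_conj hg hm hyl)
  have hH := h.acts_oct D
  set φ := hH.hom
  have hφ : ∀ (n : H) (i : Fin 4), (n : G) * r i * (n : G)⁻¹ ∈ octet p z a r (φ n i) := by
    intro n i
    rw [← hH.hom_spec n i]
    change (n : G)⁻¹ * ((n : G) * r i * (n : G)⁻¹) * n ∈ octet p z a r i
    rw [show (n : G)⁻¹ * ((n : G) * r i * (n : G)⁻¹) * n = r i by group]
    exact mem_octet_self h i
  have hφeq : ∀ (n : H) (i j : Fin 4), (n : G) * r i * (n : G)⁻¹ ∈ octet p z a r j → φ n i = j :=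
    fun n i j e => (h.oct_comm D (hφ n i) e).mp rfl
  -- the stabiliser of the first octet
  have hstab : ∀ n : H, φ n 0 = 0 ↔ (n : G) ∈ E0 := by
    intro n
    constructor
    · intro e
      rw [mem_normalizer_iff_cmap]
      refine eq_of_card ?_ (card_cmap _ _)
      have hT : ∀ m, ∃ k, (n : G) * (t * uAt p z a m) * (n : G)⁻¹ = t * uAt p z a k := fun m => by
        have hy : t * uAt p z a m ∈ setConj (n : G)⁻¹ (octet p z a r (φ n 0)) := by
          rw [← hH.hom_spec n 0, ← setConj_mul, inv_mul_cancel, setConj_one]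
          exact ⟨m, rfl⟩
        rw [e] at hy
        obtain ⟨k, hk⟩ := hy
        exact ⟨k, by simpa [hr0, mul_assoc] using hk⟩
      obtain ⟨k₀, hk₀⟩ := hT 0
      rw [v0, mul_one] at hk₀
      intro v hv
      obtain ⟨m, hm | hm⟩ := B.mem_E_iff.mp (mem_cmap.mp hv)
      all_goals obtain ⟨k, hk⟩ := hT m
      · have e1 : v = (n : G) * uAt p z a m * (n : G)⁻¹ := by rw [hm]; group
        have e2 : v = ((n : G) * t * (n : G)⁻¹)⁻¹ *
            ((n : G) * (t * uAt p z a m) * (n : G)⁻¹) := by rw [e1]; group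
        rw [e2, hk, hk₀]
        exact mul_mem (inv_mem (B.t_uAt_mem k₀)) (B.t_uAt_mem k)
      · have e1 : v = (n : G) * (t * uAt p z a m) * (n : G)⁻¹ := by rw [hm]; group
        rw [e1, hk]; exact B.t_uAt_mem k
    · intro hn
      obtain ⟨m, hm⟩ := h.conj_tu hn 0
      rw [h.eightPts_zero] at hm
      exact hφeq n 0 0 ⟨m, by rw [hr0]; exact hm⟩
  -- transitivity
  have hσ0 : σ ∈ E0 := B.σ_mem_normC.1
  have hq0 : q ∈ E0 := B.q_mem_normC.1
  obtain ⟨-, hq1, -⟩ := q_facts h M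
  set σH : H := ⟨σ, hE0H hσ0⟩
  set gH : H := ⟨g, hgH⟩
  set qH : H := ⟨q, hE0H hq0⟩
  have pg : φ gH 0 = 1 := hφeq _ _ _ ⟨0, by rw [hr0, hr1, v0, mul_one]; exact hg⟩
  have pσ1 : φ σH 1 = 2 := hφeq _ _ _ (mem_octet_self h 2)
  have pσ2 : φ σH 2 = 3 := by
    obtain ⟨j, hj⟩ := (Subgroup.mem_set_normalizer_iff.mp (hE0H hσ0) (r 2)).mp ⟨2, mem_octet_self h 2⟩
    have hl := lab_conj (conj_of_comm' B.left.tσ.symm) (B.conj_σ_uAt _) (hlab 2)
    have h3 := h.lab_ne hl (hoct hj).2.2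
    rw [hφeq σH 2 j hj]
    exact (by decide : ∀ j, lin 3 7 1 (octL 0 2) = octL 0 j → j = 3) j h3
  have hq_fix : ∀ i, φ qH i = Equiv.swap 2 3 i := by
    intro i
    fin_cases i
    · exact (hstab qH).mpr hq0
    · exact hφeq qH 1 1 ⟨0, by
        rw [hr1, v0, mul_one]; exact (q_facts h M).1⟩
    · exact hφeq qH 2 3 (mem_octet_self h 3)
    · refine hφeq qH 3 2 ⟨0, ?_⟩
      rw [v0, mul_one]; exact hq1
  set w : Fin 4 → H := ![1, gH, σH * gH, σH * (σH * gH)]
  have hw : ∀ i, φ (w i) 0 = i := by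
    intro i
    fin_cases i
    · change φ 1 0 = 0; rw [map_one]; rfl
    · exact pg
    · change φ (σH * gH) 0 = 2
      rw [map_mul, Perm.mul_apply, pg, pσ1]
    · change φ (σH * (σH * gH)) 0 = 3
      rw [map_mul, map_mul, Perm.mul_apply, Perm.mul_apply, pg, pσ1, pσ2]
  -- the order of `H`
  have hcardE : Nat.card E0 = 768 := by
    have : h.orb 0 = Finset.univ := Finset.eq_univ_of_forall M.eight
    rw [h.card_orb 0, this, Finset.card_univ, Fintype.card_fin]
  have hcardH : Nat.card H = 4 * 768 := by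
    let F : Fin 4 × E0 → H := fun v => w v.1 * ⟨v.2, hE0H v.2.2⟩
    have hF0 : ∀ v, φ (F v) 0 = v.1 := fun v => by
      rw [map_mul, Perm.mul_apply, (hstab _).mpr v.2.2, hw]
    have hbij : Function.Bijective F := by
      constructor
      · rintro ⟨i, n⟩ ⟨j, n'⟩ e
        obtain rfl : i = j := by
          have h1 := hF0 (i, n)
          rw [e, hF0] at h1
          exact h1.symm
        exact Prod.ext rfl (Subtype.ext (congrArg Subtype.val (mul_left_cancel e) :))
      · intro n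
        have hn : φ ((w (φ n 0))⁻¹ * n) 0 = 0 := by
          rw [map_mul, Perm.mul_apply, map_inv, Perm.inv_def, Equiv.symm_apply_eq, hw]
        exact ⟨(φ n 0, ⟨_, (hstab _).mp hn⟩), mul_inv_cancel_left _ _⟩
    rw [← Nat.card_eq_of_bijective F hbij, Nat.card_prod, hcardE, Nat.card_eq_fintype_card,
      Fintype.card_fin]
  -- the subgroup of index two
  set ε : H →* ℤˣ := Perm.sign.comp φ
  set N := ε.ker.map H.subtype
  have hN : ∀ y, y ∈ N ↔ ∃ hy : y ∈ H, ε ⟨y, hy⟩ = 1 := by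
    intro y
    constructor
    · rintro ⟨n, hn, rfl⟩; exact ⟨n.2, hn⟩
    · rintro ⟨hy, e⟩; exact ⟨⟨y, hy⟩, e, rfl⟩
  have hεq : ε qH = -1 := by
    have e : φ qH = Equiv.swap 2 3 := Equiv.ext hq_fix
    change Perm.sign (φ qH) = -1
    rw [e, Perm.sign_swap (by decide)]
  have hcard2 : Nat.card H = 2 * Nat.card N := by
    refine card_eq_two_mul (fun y hy => ((hN y).mp hy).1) qH.2 (fun hin => ?_) fun y hy => ?_
    · obtain ⟨_, e⟩ := (hN _).mp hin
      exact absurd (hεq.symm.trans e) (by decide)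
    · rcases Int.units_eq_one_or (ε ⟨y, hy⟩) with e | e
      · exact Or.inl ((hN y).mpr ⟨hy, e⟩)
      · refine Or.inr ((hN _).mpr ⟨mul_mem (inv_mem qH.2) hy, ?_⟩)
        rw [show (⟨q⁻¹ * y, _⟩ : H) = qH⁻¹ * ⟨y, hy⟩ from rfl, map_mul, map_inv, hεq, e,
          inv_mul_cancel]
  have hd := two_mul_card_dvd B.no B.t2 (fun y hy => ((hN y).mp hy).1) hcard2
  -- the odd elements fixing the first octet
  have hodd : ∀ y : G, (y ∈ E0 ∧ OddU p z a y) ↔
      ∃ hy : y ∈ H, ε ⟨y, hy⟩ = -1 ∧ φ ⟨y, hy⟩ 0 = 0 := by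
    have key : ∀ (y : G) (hy : y ∈ E0), ∃ k : Fin 6,
        (∀ n, y * uAt p z a n * y⁻¹ = uAt p z a (cMap k n)) ∧
          (3 ≤ k.val ↔ ε ⟨y, hE0H hy⟩ = -1) := by
      intro y hy
      set yH : H := ⟨y, hE0H hy⟩
      obtain ⟨k, k1, k3, k4, hk⟩ := perm_linear (φ yH) ((hstab yH).mpr hy)
      refine ⟨k, ?_, hk⟩
      have hu : ∀ i, y * uAt p z a (octL 0 i) * y⁻¹ = uAt p z a (octL 0 (φ yH i)) := by
        intro i
        obtain ⟨m, hm⟩ := h.conj_u hy (octL 0 i)
        obtain ⟨m', hm'⟩ := h.conj_tu hy 0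
        rw [h.eightPts_zero] at hm'
        obtain ⟨hyc, -, hyl⟩ := hoct (hφ yH i)
        have e1 := lab_conj (n := octL 0 i) hm' hm (hlab i)
        have e2 : y * r i * y⁻¹ * eightPts t p z a m' * (y * r i * y⁻¹)⁻¹ =
            y * r i * y⁻¹ * t * (y * r i * y⁻¹)⁻¹ * uAt p z a m' := by
          rw [eightPts, conj_prod, conj_of_comm' (mem_cU.mp hyc m')]
        rw [e2, eightPts, mul_assoc t, B.left.uAt_mul, xr_comm, ← B.left.uAt_mul, ← mul_assoc,
          hyl] at e1
        rw [hm, ← h.toBase.left.uAt_inj (mul_left_cancel (mul_right_cancel e1))]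
      have u1 : y * p * y⁻¹ = uAt p z a (cMap k 1) := by
        rw [k1, ← hu 2, show octL 0 2 = 1 from rfl, v1]
      have u4 : y * a * y⁻¹ = uAt p z a (cMap k 4) := by
        rw [k4, ← hu 1, show octL 0 1 = 4 from rfl, v4]
      have u3 : y * uAt p z a 3 * y⁻¹ = uAt p z a (cMap k 3) := by
        rw [k3, ← hu 3]; rfl
      have u2 : y * z * y⁻¹ = uAt p z a (xr (cMap k 1) (cMap k 3)) := by
        conv_lhs => rw [show z = p * (p * z) by rw [← mul_assoc, B.left.p2, one_mul]]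
        rw [conj_prod, u1, ← v3, u3, B.left.uAt_mul]
      intro n
      rw [← cMap_lin k n]
      exact B.left.conj_uAt u1 u2 u4 n
    intro y
    constructor
    · rintro ⟨hy, k', hk', hk'n⟩
      obtain ⟨k, hkn, hk⟩ := key y hy
      obtain rfl : k = k' := cMap_inj k k' fun n => B.left.uAt_inj ((hkn n).symm.trans (hk'n n))
      exact ⟨hE0H hy, hk.mp hk', (hstab ⟨y, hE0H hy⟩).mpr hy⟩
    · rintro ⟨hyH, he, h0⟩
      have hy : y ∈ E0 := (hstab ⟨y, hyH⟩).mp h0
      obtain ⟨k, hkn, hk⟩ := key y hy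
      exact ⟨hy, k, hk.mpr he, hkn⟩
  -- the count
  let P : Fin 4 → G → Prop := fun i y =>
    (∃ hy : y ∈ H, ε ⟨y, hy⟩ = -1 ∧ φ ⟨y, hy⟩ i = i) ∧ IsConj t y
  have hP0 : Nat.card {y // P 0 y} = 48 := by
    rw [← M.odd48]
    exact Nat.card_congr (Equiv.subtypeEquivRight fun y => and_congr_left fun _ => (hodd y).symm)
  have hPc : ∀ i, Nat.card {y // P i y} = 48 := by
    intro i
    rw [← hP0]
    refine (Nat.card_congr (Equiv.subtypeEquiv (MulAut.conj (w i : G)).toEquiv fun y => ?_)).symm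
    change P 0 y ↔ P i ((w i : G) * y * (w i : G)⁻¹)
    refine and_congr ?_ (isConj_conj t _ y).symm
    have hwi : ∀ (hy : y ∈ H) (hy' : (w i : G) * y * (w i : G)⁻¹ ∈ H),
        (ε ⟨_, hy'⟩ = ε ⟨y, hy⟩) ∧ (φ ⟨_, hy'⟩ i = i ↔ φ ⟨y, hy⟩ 0 = 0) := by
      intro hy hy'
      have e : (⟨_, hy'⟩ : H) = w i * ⟨y, hy⟩ * (w i)⁻¹ := rfl
      constructor
      · rw [e, map_mul, map_mul, map_inv, mul_comm, ← mul_assoc, inv_mul_cancel, one_mul]
      · have hi : (φ (w i))⁻¹ i = 0 := by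
          rw [Perm.inv_def, Equiv.symm_apply_eq, hw]
        rw [e, map_mul, map_mul, map_inv, Perm.mul_apply, Perm.mul_apply, hi]
        conv_lhs => rhs; rw [← hw i]
        exact (φ (w i)).injective.eq_iff
    constructor
    · rintro ⟨hy, e1, e2⟩
      have hy' : (w i : G) * y * (w i : G)⁻¹ ∈ H :=
        mul_mem (mul_mem (w i).2 hy) (inv_mem (w i).2)
      exact ⟨hy', (hwi hy hy').1.trans e1, (hwi hy hy').2.mpr e2⟩
    · rintro ⟨hy', e1, e2⟩
      have hy : y ∈ H := by
        have := mul_mem (mul_mem (inv_mem (w i).2) hy') (w i).2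
        simpa [mul_assoc] using this
      exact ⟨hy, (hwi hy hy').1.symm.trans e1, (hwi hy hy').2.mp e2⟩
  have := Fintype.ofFinite G
  set A : Finset G := Finset.univ.filter fun y => (y ∈ (H : Set G) \ (N : Set G)) ∧ IsConj t y
  have hA : conjCount t ((H : Set G) \ (N : Set G)) = A.card := by
    rw [conjCount, Nat.card_eq_fintype_card, Fintype.card_subtype]
  have hfix : ∀ y ∈ A, (Finset.univ.filter fun i : Fin 4 => P i y).card = 2 := by
    intro y hy
    obtain ⟨-, ⟨hyH, hyN⟩, hyK⟩ := Finset.mem_filter.mp hy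
    have he : ε ⟨y, hyH⟩ = -1 :=
      (Int.units_eq_one_or _).resolve_left fun e => hyN ((hN y).mpr ⟨hyH, e⟩)
    have hinv : φ ⟨y, hyH⟩ * φ ⟨y, hyH⟩ = 1 := by
      rw [← map_mul]
      exact (congrArg φ (Subtype.ext (h.sq_of_K hyK))).trans (map_one _)
    rw [← odd_invol_four _ hinv he]
    congr 1
    refine Finset.filter_congr fun i _ => ?_
    exact ⟨fun e => e.1.2.2, fun e => ⟨⟨hyH, he, e⟩, hyK⟩⟩
  have hPA : ∀ i, (A.filter fun y => P i y).card = 48 := by
    intro i
    rw [← hPc i, Nat.card_eq_fintype_card, Fintype.card_subtype]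
    congr 1
    ext y
    simp only [A, Finset.mem_filter, Finset.mem_univ, true_and]
    refine ⟨fun e => e.2, fun e => ?_⟩
    obtain ⟨⟨hy, e1, -⟩, hK⟩ := id e
    refine ⟨⟨⟨hy, fun hin => ?_⟩, hK⟩, e⟩
    obtain ⟨_, e2⟩ := (hN y).mp hin
    exact absurd (e1.symm.trans e2) (by decide)
  have hsum : (∑ i : Fin 4, (A.filter fun y => P i y).card) =
      ∑ y ∈ A, (Finset.univ.filter fun i : Fin 4 => P i y).card := by
    simp only [Finset.card_filter]
    exact Finset.sum_comm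
  rw [Finset.sum_congr rfl (fun i _ => hPA i), Finset.sum_congr rfl hfix, Finset.sum_const,
    Finset.sum_const, Finset.card_univ, Fintype.card_fin, smul_eq_mul, smul_eq_mul] at hsum
  have h96 : A.card = 96 := by omega
  obtain ⟨m, hm, hC⟩ := B.card
  rw [hA, h96, hC, hcardH] at hd
  obtain ⟨d, hd'⟩ := hd
  obtain ⟨j, hj⟩ := hm
  omega

end BCfg

end Cfsg.Agent.InvolTimesSym
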