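import Cfsg.Agent.Lib.InvolTimesSym.BEightCount
import Cfsg.Agent.Lib.InvolTimesSym.BEightMixed

/-!
# The transitive case is impossible
-/

set_option autoImplicit false
set_option maxRecDepth 20000
set_option linter.unusedSectionVars false

namespace Cfsg.Agent.InvolTimesSym

open Subgroup

theorem linF_b : ∀ n : Fin 8, linF (fun m => xr 6 m) n = n := by decide +kernel

theorem fix_six_three : ∀ ε, ∀ n : Fin 8, el8 ε (6, 3) n ≠ n ∧
    (linF (el8 ε (6, 3)) n = n → n = 0 ∨ n = 2 ∨ n = 4 ∨ n = 6) := by decide +kernel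

theorem el8_b : ∀ ε, ∀ n : Fin 8, el8 ε (6, 0) n = xr 6 n ∧
    el8 ε (6, 3) (el8 ε (0, 3) n) = xr 6 n ∧ el8 ε (0, 3) n = lin 3 2 4 n ∧
    lin 3 7 1 (xr 6 (lin 4 5 3 n)) = xr 6 n := by decide +kernel

variable {G : Type*} [Group G] [Finite G] {t p q a b z σ τ : G}

namespace BCfg

variable (h : BCfg t p q a b z σ τ)
include h

theorem ρ_six_map {g : G} (hg : g ∈ normalizer (eG t p z a : Set G))
    (hU : ∀ n, g * uAt p z a n * g⁻¹ = uAt p z a n) (ht : g * t * g⁻¹ = t * b) (n : Fin 8) :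
    h.ρ ⟨g, hg⟩ n = xr 6 n :=
  h.ρ_of_action hg (v := 6) (L := fun n => n) (by rw [h.toBase.uAt_vals.2.2.2.2.2.2.1]; exact ht)
    hU n

/-- An element `x'` of `N(T)` centralising `U`, moving `t` by `b`, with `x'q` conjugate to `t`. -/
theorem core (h8 : h.Eight) {ε : Bool} {r : Fin 8 × Fin 6 → normalizer (eG t p z a : Set G)}
    (K : h.Kind ε r) :
    cosetCount t (eG t p z a) (r (6, 3) : G) = 4 ∧
    ∃ x, cmap x (tG t p q z a) = tG t p q z a ∧ (∀ n, x * uAt p z a n * x⁻¹ = uAt p z a n) ∧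
      x * t * x⁻¹ = t * b ∧ IsConj t (x * q) ∧
      ((x * x = 1 ∧ x * q * x⁻¹ = q) ∨ (x * x = b ∧ x * q * x⁻¹ = q * b)) := by
  classical
  have B := h.toBase
  obtain ⟨v0, v1, v2, v3, v4, v5, v6, v7⟩ := B.uAt_vals
  have hd := h.dvd_count K h8 oddF (oddF_comp ε) (0, 3)
    ((by decide +kernel : ∀ ε, oddF (el8 ε (0, 3)) = true) ε)
  rw [h.count_odd K, h.count_q K] at hd
  have hle := h.cosetCount_le (r (6, 3))
  rw [h.ρ_fun K, (fix_vals ε).1] at hle
  have h4 : cosetCount t (eG t p z a) (r (6, 3) : G) = 4 := by omega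
  refine ⟨h4, ?_⟩
  obtain ⟨s, hsK, hsρ⟩ : ∃ s : normalizer (eG t p z a : Set G), IsConj t (s : G) ∧
      ∀ n, h.ρ s n = el8 ε (6, 3) n := by
    by_contra hcon
    push Not at hcon
    have h0 := h.cosetCount_eq (r (6, 3) : G) ∅ fun i => by
      simp only [Finset.notMem_empty, false_iff]
      intro hK
      obtain ⟨n, hn⟩ := hcon ⟨_, Subgroup.mul_mem _ (r (6, 3)).2
        (Subgroup.le_normalizer (h.eElt_mem i))⟩ hK
      refine hn ?_
      have e : (⟨(r (6, 3) : G) * eElt t p z a i, Subgroup.mul_mem _ (r (6, 3)).2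
          (Subgroup.le_normalizer (h.eElt_mem i))⟩ : normalizer (eG t p z a : Set G)) =
          r (6, 3) * ⟨_, Subgroup.le_normalizer (h.eElt_mem i)⟩ := rfl
      rw [e, map_mul, Equiv.Perm.mul_apply,
        (h.ker_ρ ⟨_, Subgroup.le_normalizer (h.eElt_mem i)⟩).mpr (h.eElt_mem i),
        Equiv.Perm.one_apply, K.spec]
    rw [h4, Finset.card_empty] at h0
    omega
  have hs2 : (s : G) * s = 1 := h.sq_of_K hsK
  have hsi : (s : G)⁻¹ = s := inv_of_sq hs2
  have hqN := B.q_mem_normC.1
  have hqρ : ∀ n, h.ρ ⟨q, hqN⟩ n = el8 ε (0, 3) n := fun n => by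
    rw [h.ρ_of_action hqN (v := 0) (by rw [v0, mul_one]; exact conj_of_comm' B.left.tq.symm)
      B.conj_q_uAt, zero_xr, (el8_b ε n).2.2.1]
  set x := (s : G) * q with hx
  have hxN : x ∈ normalizer (eG t p z a : Set G) := Subgroup.mul_mem _ s.2 hqN
  have hxρ : ∀ n, h.ρ ⟨x, hxN⟩ n = xr 6 n := fun n => by
    rw [show (⟨x, hxN⟩ : normalizer (eG t p z a : Set G)) = s * ⟨q, hqN⟩ from rfl, map_mul,
      Equiv.Perm.mul_apply, hqρ, hsρ, (el8_b ε n).2.1]
  have hxU : ∀ n, x * uAt p z a n * x⁻¹ = uAt p z a n := fun n => by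
    have := h.conj_uAt_ρ ⟨x, hxN⟩ n
    rw [show (h.ρ ⟨x, hxN⟩ : Fin 8 → Fin 8) = fun m => xr 6 m from funext hxρ, linF_b] at this
    exact this
  have hxt : x * t * x⁻¹ = t * b := by
    have := h.ρ_zero ⟨x, hxN⟩
    rw [hxρ, xr_zero, v6] at this
    exact this
  have hxT : cmap x (tG t p q z a) = tG t p q z a := by
    obtain ⟨x₀, hT₀, hU₀, ht₀⟩ := h.exists_x h8
    have hm := h.eq_mod_E (g := ⟨x₀, h.normT_mem h8 hT₀⟩) (g' := ⟨x, hxN⟩)
      fun n => by rw [h.ρ_six_map _ hU₀ ht₀, hxρ]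
    have hm' : x₀⁻¹ * x ∈ tG t p q z a := Base.eG_le_tG hm
    rw [show x = x₀ * (x₀⁻¹ * x) from (mul_inv_cancel_left _ _).symm, cmap_mul,
      mem_normalizer_iff_cmap.mp (Subgroup.le_normalizer hm'), hT₀]
  -- the square
  have hx2ρ : ∀ n, h.ρ (⟨x, hxN⟩ * ⟨x, hxN⟩) n = n := fun n => by
    rw [map_mul, Equiv.Perm.mul_apply, hxρ, hxρ, ← xr_assoc, xr_self, zero_xr]
  have hxE : x * x ∈ eG t p z a := (h.ker_ρ (⟨x, hxN⟩ * ⟨x, hxN⟩)).mp (Equiv.ext hx2ρ)
  obtain ⟨i, hi⟩ := h.eElt_surj hxE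
  have hinv : (x * x)⁻¹ = x * x := inv_of_sq (B.eG_sq hxE)
  have hsfix : (s : G) * eElt t p z a i * (s : G)⁻¹ = eElt t p z a i := by
    rw [hi]
    calc (s : G) * (x * x) * (s : G)⁻¹ = (s : G) * (s : G) * q * (s : G) * q * (s : G)⁻¹ := by
          rw [hx]; group
      _ = q⁻¹ * (s : G)⁻¹ * (q⁻¹ * (s : G)⁻¹) := by
          rw [hs2, one_mul, hsi, inv_of_sq B.right.p2]; simp only [mul_assoc]
      _ = (x * x)⁻¹ := by rw [hx]; group
      _ = _ := hinv
  rw [h.conj_eElt_fix, show (h.ρ s : Fin 8 → Fin 8) = el8 ε (6, 3) from funext hsρ] at hsfix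
  obtain ⟨d, hd', hxd⟩ : ∃ d, (d = 0 ∨ d = 2 ∨ d = 4 ∨ d = 6) ∧ x * x = uAt p z a d := by
    rcases i with ⟨_ | _, d⟩
    · exact ⟨d, (fix_six_three ε d).2 (by simpa using hsfix), hi.symm⟩
    · exact absurd (by simpa using hsfix) (fix_six_three ε d).1
  have hσd : lin 3 7 1 d = d ∨ lin 3 7 1 d = xr d 6 := by
    have hσN := B.σ_mem_normC.1
    have hσU := B.conj_σ_uAt
    have hσt : σ * t * σ⁻¹ = t := conj_of_comm' B.left.tσ.symm
    have hyN : σ * x * σ⁻¹ ∈ normalizer (eG t p z a : Set G) :=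
      Subgroup.mul_mem _ (Subgroup.mul_mem _ hσN hxN) (Subgroup.inv_mem _ hσN)
    have hσ2 : ∀ n, σ⁻¹ * uAt p z a n * σ = uAt p z a (lin 4 5 3 n) := fun n => by
      conv_lhs => rw [← (by decide : ∀ n, lin 3 7 1 (lin 4 5 3 n) = n) n, ← hσU]
      group
    have hyρ : ∀ n, h.ρ ⟨_, hyN⟩ n = xr 6 n := by
      refine h.ρ_six_map hyN (fun n => ?_) ?_
      · rw [show σ * x * σ⁻¹ * uAt p z a n * (σ * x * σ⁻¹)⁻¹ =
          σ * (x * (σ⁻¹ * uAt p z a n * σ) * x⁻¹) * σ⁻¹ by group, hσ2, hxU, hσU]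
        exact congrArg _ ((by decide : ∀ n, lin 3 7 1 (lin 4 5 3 n) = n) n)
      · have hσi : σ⁻¹ * t * σ = t := by
          conv_lhs => rw [← hσt]
          group
        rw [show σ * x * σ⁻¹ * t * (σ * x * σ⁻¹)⁻¹ = σ * (x * (σ⁻¹ * t * σ) * x⁻¹) * σ⁻¹ by group,
          hσi, hxt, conj_prod σ t b, hσt, h.conj_b hσN]
    have he := h.eq_mod_E (g := ⟨x, hxN⟩) (g' := ⟨_, hyN⟩) fun n => by rw [hxρ, hyρ]
    obtain ⟨j, hj⟩ := h.eElt_surj he
    have ey : σ * x * σ⁻¹ = x * eElt t p z a j := by rw [hj]; exact (mul_inv_cancel_left _ _).symm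
    have hsq : σ * (x * x) * σ⁻¹ = x * x * (x⁻¹ * eElt t p z a j * x * eElt t p z a j) := by
      rw [show σ * (x * x) * σ⁻¹ = σ * x * σ⁻¹ * (σ * x * σ⁻¹) by group, ey]
      group
    have hxi : ∀ n, x⁻¹ * uAt p z a n * x = uAt p z a n := fun n => by
      conv_lhs => rw [← hxU n]
      group
    rcases j with ⟨_ | _, n⟩
    · have e : x⁻¹ * eElt t p z a (false, n) * x * eElt t p z a (false, n) = 1 := by
        change x⁻¹ * uAt p z a n * x * uAt p z a n = 1
        rw [hxi, B.eG_sq (B.uAt_mem n)]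
      rw [e, mul_one, hxd, hσU] at hsq
      exact Or.inl (B.left.uAt_inj hsq)
    · have hxit : x⁻¹ * t * x = t * b := by
        have e1 : x⁻¹ * (t * b) * x = t := by rw [← hxt]; group
        calc x⁻¹ * t * x = x⁻¹ * (t * b) * x * (x⁻¹ * b * x)⁻¹ := by group
          _ = t * b := by rw [e1, ← v6, hxi, v6, inv_of_sq (B.eG_sq (v6 ▸ B.uAt_mem 6))]
      have e : x⁻¹ * eElt t p z a (true, n) * x * eElt t p z a (true, n) = b := by
        change x⁻¹ * (t * uAt p z a n) * x * (t * uAt p z a n) = b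
        rw [show x⁻¹ * (t * uAt p z a n) * x = (x⁻¹ * t * x) * (x⁻¹ * uAt p z a n * x) by group,
          hxit, hxi, ← v6, mul_assoc t, B.left.uAt_mul]
        have hc : Commute (uAt p z a (xr 6 n)) t := B.eG_comm (B.uAt_mem _) Base.t_mem_eG
        rw [hc.mul_mul_mul_comm, B.t2, one_mul, B.left.uAt_mul]
        exact congrArg _ ((by decide : ∀ n, xr (xr 6 n) n = 6) n)
      rw [e, hxd, hσU, ← v6, B.left.uAt_mul] at hsq
      exact Or.inr (B.left.uAt_inj hsq)
  have hd6 : d = 0 ∨ d = 6 :=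
    (by decide : ∀ d : Fin 8, (d = 0 ∨ d = 2 ∨ d = 4 ∨ d = 6) →
      (lin 3 7 1 d = d ∨ lin 3 7 1 d = xr d 6) → d = 0 ∨ d = 6) d hd' hσd
  have hqx : x * q * x⁻¹ = x * x * q := by
    rw [hx, mul_inv_rev, inv_of_sq B.right.p2, hsi]
    have e : (s : G) * q * q = s := by rw [mul_assoc, B.right.p2, mul_one]
    calc (s : G) * q * q * (q * s) = (s : G) * (q * q) * q * s := by group
      _ = (s : G) * q * s * (q * q) := by rw [B.right.p2]; group
      _ = _ := by group
  refine ⟨x, hxT, hxU, hxt, ?_, ?_⟩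
  · rw [hx, mul_assoc, B.right.p2, mul_one]; exact hsK
  rcases hd6 with rfl | rfl
  · exact Or.inl ⟨hxd.trans v0, by rw [hqx, hxd, v0, one_mul]⟩
  · refine Or.inr ⟨hxd.trans v6, ?_⟩
    rw [hqx, hxd, v6, B.central_b q (Base.mG_le_tG (mem_sup_right (mem_zpowers q)))]

/-- An element conjugate to `t` times a commuting non-conjugate involution. -/
theorem K_mul {y u : G} (hy : IsConj t y) (hu : u * u = 1) (hnK : ¬ IsConj t u)
    (hc : y * u = u * y) : IsConj t (y * u) := by
  by_cases h1 : u = 1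
  · rwa [h1, mul_one]
  exact (h.bax y u hy hu h1 (fun e => hnK (e ▸ hy)) hc).mpr hnK

/-- The case where `N(T)` fixes `p` up to `z`. -/
theorem pure_false (h8 : h.Eight) (hp : Pure t p q a z) : False := by
  classical
  have B := h.toBase
  obtain ⟨v0, v1, v2, v3, v4, v5, v6, v7⟩ := B.uAt_vals
  obtain ⟨x₀, hx₀T, hx₀U, hx₀t⟩ := h.exists_x h8
  obtain ⟨g, hgT, hgt, ε, hgU⟩ := h.exists_g h8
  have hε : ε = false := by
    cases ε with
    | false => rfl
    | true =>
      exfalso
      have e := hgU 1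
      rw [v1] at e
      rcases hp g hgT with e' | e' <;> rw [e'] at e
      · exact absurd (B.left.uAt_inj (v1.trans e)) (by decide)
      · exact absurd (B.left.uAt_inj (v3.trans e)) (by decide)
  subst hε
  obtain ⟨r, K⟩ := h.exists_kind h8 hx₀T hx₀U hx₀t hgT hgt hgU
  obtain ⟨h4, x', hxT, hxU, hxt, hxqK, hcase⟩ := h.core h8 K
  -- the element `s` centralising `M` with `t ↦ ta`
  have h8' := h.eight_symm h8
  obtain ⟨y₀, hy₀T, hy₀U, hy₀t⟩ := h.symm.exists_x h8'
  obtain ⟨g', hg'T, hg't, ε', hg'U⟩ := h.symm.exists_g h8'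
  obtain ⟨r', K'⟩ := h.symm.exists_kind h8' hy₀T hy₀U hy₀t hg'T hg't hg'U
  obtain ⟨-, s, hsT', hsU, hst, hspK, hcase'⟩ := h.symm.core h8' K'
  have hsT : cmap s (tG t p q z a) = tG t p q z a := by rwa [B.tG_symm] at hsT'
  have hs : s * s = 1 ∧ s * p * s⁻¹ = p := by
    rcases hcase' with e | ⟨-, e⟩
    · exact e
    · exfalso
      rcases hp s hsT with e' | e' <;> rw [e] at e'
      · have := mul_eq_left.mp e'
        rw [← v4, ← v0] at this
        exact absurd (B.left.uAt_inj this) (by decide)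
      · exact absurd (B.left.uAt_inj (v4.trans ((mul_left_cancel e').trans v2.symm))) (by decide)
  obtain ⟨w0, w1, w2, -, w4, -, w6, -⟩ := B.symm.uAt_vals
  have hsq : s * q = q * s := comm_of_conj (by have := hsU 1; rwa [w1] at this)
  have hsa : s * a = a * s := comm_of_conj (by have := hsU 6; rwa [w6] at this)
  have hsz : s * z = z * s := comm_of_conj (by have := hsU 2; rwa [w2] at this)
  have hsp : s * p = p * s := comm_of_conj hs.2
  have hsM : ∀ m ∈ mG p q z a, s * m = m * s := by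
    intro m hm
    have hle : mG p q z a ≤ centralizer ({s} : Set G) := by
      simp only [mG, uG, sup_le_iff, zpowers_le, mem_centralizer_singleton_iff]
      exact ⟨⟨⟨hsp.symm, hsz.symm⟩, hsa.symm⟩, hsq.symm⟩
    exact (mem_centralizer_singleton_iff.mp (hle hm)).symm
  have hsK : IsConj t s := by
    have hc : s * p * p = p * (s * p) := by rw [← mul_assoc, ← hsp]
    have e := h.K_mul hspK B.left.p2 (h.nK_M (Base.uG_le_mG Side.p_mem)) hc
    rwa [mul_assoc, B.left.p2, mul_one] at e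
  rcases hcase with ⟨hx2, hxq⟩ | ⟨hx2, hxq⟩
  · -- `x'` centralises `M` and is conjugate to `t`
    have hxN := h.normT_mem h8 hxT
    have hxK : IsConj t x' := by
      have hc : x' * q * q = q * (x' * q) := by rw [← mul_assoc, ← comm_of_conj hxq]
      have e := h.K_mul hxqK B.right.p2 (h.nK_M (mem_sup_right (mem_zpowers q))) hc
      rwa [mul_assoc, B.right.p2, mul_one] at e
    have hb8 : 8 ≤ cosetCount t (eG t p z a) (r (6, 0) : G) := by
      rw [h.cosetCount_ρ (g' := ⟨x', hxN⟩) fun n => by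
        rw [K.spec, h.ρ_six_map _ hxU hxt, (el8_b false n).1]]
      rw [h.cosetCount_eq x' (Finset.univ.filter fun i => IsConj t (x' * eElt t p z a i)) (by simp)]
      refine le_trans (le_of_eq (Finset.card_fin 8).symm) ?_
      refine Finset.card_le_card_of_injOn (fun n => ((false, n) : Bool × Fin 8)) (fun n _ => ?_)
        (fun m _ n _ e => congrArg Prod.snd e)
      simp only [Finset.coe_filter, Finset.mem_univ, true_and, Set.mem_ofPred_eq]
      exact h.K_mul hxK (B.eG_sq (B.uAt_mem n)) (h.nK n) (comm_of_conj (hxU n))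
    have hb := h.cosetCount_le (r (6, 0))
    rw [h.ρ_fun K, (fix_vals false).2.1] at hb
    have hDle := h.cosetCount_le (r (repD false))
    rw [h.ρ_fun K, (fix_vals false).2.2.2] at hDle
    have hsN := h.normT_mem h8 hsT
    have hD1 : 1 ≤ cosetCount t (eG t p z a) (r (repD false) : G) := by
      have hsρ : ∀ n, h.ρ ⟨s, hsN⟩ n = xr 4 n := h.ρ_of_action hsN (v := 4) (L := fun n => n)
        (by rw [v4]; exact hst) (fun n => conj_of_comm' (hsM _ (Base.uG_le_mG
          (B.left.mem_uG.mpr (B.left.mem_uList_iff.mpr ⟨n, rfl⟩)))))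
      rw [h.cosetCount_ρ (g' := ⟨s, hsN⟩) fun n => by
        rw [K.spec, hsρ]
        exact (by decide +kernel : ∀ n, el8 false (repD false) n = xr 4 n) n]
      rw [h.cosetCount_eq s (Finset.univ.filter fun i => IsConj t (s * eElt t p z a i)) (by simp)]
      refine Finset.card_pos.mpr ⟨(false, 0), ?_⟩
      simpa [eElt, v0] using hsK
    have hd := h.dvd_count K h8 (swapF false) (swapF_comp false) (6, 0) (by decide +kernel)
    rw [h.count_swap K, h4] at hd
    omega
  · -- the mixed configuration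
    have hxN := h.normT_mem h8 hxT
    set x := x' * t with hxdef
    have htT : t ∈ tG t p q z a := mem_sup_right (mem_zpowers t)
    have hxx : ∀ y, x * y * x⁻¹ = x' * (t * y * t⁻¹) * x'⁻¹ := fun y => by rw [hxdef]; group
    have hxU' : ∀ n, x * uAt p z a n * x⁻¹ = uAt p z a n := fun n => by
      rw [hxx, B.conj_uAt_of_t, hxU]
    have hxt' : x * t * x⁻¹ = t * b := by
      rw [hxx, show t * t * t⁻¹ = t by group, hxt]
    have hxq' : x * q * x⁻¹ = q * b := by
      rw [hxx, conj_of_comm' B.left.tq, hxq]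
    have hx22 : x * x = 1 := by
      calc x * x = (x' * t * x'⁻¹) * (x' * x') * t := by rw [hxdef]; group
        _ = t * (b * b) * t := by rw [hxt, hx2, mul_assoc t b b]
        _ = 1 := by rw [B.eG_sq (v6 ▸ B.uAt_mem 6), mul_one, B.t2]
    have hy : x * (t * q) = x' * q := by
      calc x * (t * q) = x' * (t * t) * q := by rw [hxdef]; group
        _ = _ := by rw [B.t2, mul_one]
    have hqm : q ∈ mG p q z a := mem_sup_right (mem_zpowers q)
    have hxK : ¬ IsConj t x := by
      intro hK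
      have htq2 : t * q * (t * q) = 1 := by
        rw [(show Commute q t from B.left.tq.symm).mul_mul_mul_comm, B.t2, B.right.p2, mul_one]
      have hne : t * q ≠ 1 := fun e => B.not_conj_one (e ▸ h.K_tM hqm B.right.p2)
      have hcomm : x * (t * q) = t * q * x := by
        refine comm_of_conj ?_
        rw [conj_prod, hxt', hxq']
        have hbq : b * q = q * b := B.central_b q (Base.mG_le_tG hqm)
        rw [mul_assoc t b, ← mul_assoc b q b, hbq, mul_assoc q b b,
          B.eG_sq (v6 ▸ B.uAt_mem 6), mul_one]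
      have hne2 : t * q ≠ x := by
        intro e
        have hb1 : b ≠ 1 := by
          rw [← v6, ← v0]; exact fun e => absurd (B.left.uAt_inj e) (by decide)
        refine hb1 (mul_eq_left.mp (hxt'.symm.trans ?_))
        rw [← e]
        exact conj_of_comm' (B.central_t _ (mul_mem htT (Base.mG_le_tG hqm))).symm
      have := (h.bax x (t * q) hK htq2 hne hne2 hcomm).mp (by rw [hy]; exact hxqK)
      exact this (h.K_tM hqm B.right.p2)
    have hxT' : cmap x (tG t p q z a) = tG t p q z a := by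
      rw [hxdef, cmap_mul, mem_normalizer_iff_cmap.mp (Subgroup.le_normalizer htT), hxT]
    have hodd : conjCount t {g | g ∈ normalizer (eG t p z a : Set G) ∧ OddU p z a g} = 48 := by
      have hset : {g | g ∈ normalizer (eG t p z a : Set G) ∧ OddU p z a g} = h.predSet oddF := by
        ext g
        simp only [BCfg.predSet, Set.mem_ofPred_eq, OddU]
        constructor
        · rintro ⟨hg, k, hk, hk'⟩
          obtain ⟨⟨v, k'⟩, hi⟩ := K.cover ⟨g, hg⟩
          refine ⟨hg, ?_⟩
          rw [show (h.ρ ⟨g, hg⟩ : Fin 8 → Fin 8) = el8 false (v, k') from funext hi, oddF_cMap,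
            decide_eq_true_eq]
          have : ∀ n, cMap k' n = cMap k n := fun n => by
            refine B.left.uAt_inj ?_
            rw [← linF_pure k' v n, ← hk', ← show (h.ρ ⟨g, hg⟩ : Fin 8 → Fin 8) = el8 false (v, k')
              from funext hi]
            exact (h.conj_uAt_ρ ⟨g, hg⟩ n).symm
          rw [cMap_unique k' k this]; exact hk
        · rintro ⟨hg, hP⟩
          obtain ⟨⟨v, k⟩, hi⟩ := K.cover ⟨g, hg⟩
          have hfun : (h.ρ ⟨g, hg⟩ : Fin 8 → Fin 8) = el8 false (v, k) := funext hi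
          rw [hfun, oddF_cMap, decide_eq_true_eq] at hP
          refine ⟨hg, k, hP, fun n => ?_⟩
          have := h.conj_uAt_ρ ⟨g, hg⟩ n
          rw [hfun, linF_pure] at this
          exact this
      rw [hset, h.count_odd K, h.count_q K, h4]
    exact h.mixed_false (s := s) (x := x)
      { eight := h8, pure := hp, sK := hsK, sM := hsM, st := hst, sT := hsT, xK := hxK, x2 := hx22,
        xU := fun n => comm_of_conj (hxU' n), xt := hxt', xq := hxq', xT := hxT',
        yK := by rw [hy]; exact hxqK, odd48 := hodd }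

/-- The transitive case is impossible. -/
theorem eight_false (h8 : h.Eight) : False := by
  classical
  have B := h.toBase
  obtain ⟨v0, v1, v2, v3, v4, v5, v6, v7⟩ := B.uAt_vals
  obtain ⟨x₀, hx₀T, hx₀U, hx₀t⟩ := h.exists_x h8
  obtain ⟨g, hgT, hgt, ε, hgU⟩ := h.exists_g h8
  obtain ⟨r, K⟩ := h.exists_kind h8 hx₀T hx₀U hx₀t hgT hgt hgU
  cases ε with
  | false =>
    refine h.pure_false h8 (h.pure_of h8 hgT hgt (Or.inl ?_) hx₀T hx₀t (Or.inl ?_))
    · have := hgU 1
      rw [show gK false 1 = 1 from by decide, v1] at this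
      exact this
    · have := hx₀U 1
      rwa [v1] at this
  | true =>
    obtain ⟨h4, x', hxT, hxU, hxt, hxqK, hcase⟩ := h.core h8 K
    have hxN := h.normT_mem h8 hxT
    rcases hcase with ⟨hx2, hxq⟩ | ⟨hx2, hxq⟩
    · -- the other side is pure
      have h8' := h.eight_symm h8
      obtain ⟨y₀, hy₀T, hy₀U, hy₀t⟩ := h.symm.exists_x h8'
      obtain ⟨w0, w1, w2, -, w4, -, w6, -⟩ := B.symm.uAt_vals
      have hyq : y₀ * q * y₀⁻¹ = q := by have := hy₀U 1; rwa [w1] at this
      have hyb : y₀ * b * y₀⁻¹ = b := by have := hy₀U 4; rwa [w4] at this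
      have hab : a * b = z := by
        rw [B.b_eq, ← mul_assoc, B.left.a2, one_mul]
      refine h.symm.pure_false h8' (h.symm.pure_of h8' (f₂ := y₀ * x')
        ?_ ?_ (Or.inl ?_) hy₀T hy₀t (Or.inl hyq))
      · rw [cmap_mul, B.tG_symm, hxT, ← B.tG_symm, hy₀T]
      · rw [show y₀ * x' * t * (y₀ * x')⁻¹ = y₀ * (x' * t * x'⁻¹) * y₀⁻¹ by group, hxt, conj_prod,
          hy₀t, hyb, mul_assoc, hab]
      · rw [show y₀ * x' * q * (y₀ * x')⁻¹ = y₀ * (x' * q * x'⁻¹) * y₀⁻¹ by group, hxq, hyq]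
    · -- no conjugates of `t` in the coset of `x'`
      have htT : t ∈ tG t p q z a := mem_sup_right (mem_zpowers t)
      set x := x' * t with hxdef
      have hxx : ∀ y, x * y * x⁻¹ = x' * (t * y * t⁻¹) * x'⁻¹ := fun y => by rw [hxdef]; group
      have hxU' : ∀ n, x * uAt p z a n * x⁻¹ = uAt p z a n := fun n => by
        rw [hxx, B.conj_uAt_of_t, hxU]
      have hxt' : x * t * x⁻¹ = t * b := by rw [hxx, show t * t * t⁻¹ = t by group, hxt]
      have hqm : q ∈ mG p q z a := mem_sup_right (mem_zpowers q)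
      have hxq' : x * q * x⁻¹ = q * b := by rw [hxx, conj_of_comm' B.left.tq, hxq]
      have hy : x * (t * q) = x' * q := by
        calc x * (t * q) = x' * (t * t) * q := by rw [hxdef]; group
          _ = _ := by rw [B.t2, mul_one]
      have hbb : b * b = 1 := B.eG_sq (v6 ▸ B.uAt_mem 6)
      have hb1 : b ≠ 1 := by
        rw [← v6, ← v0]; exact fun e => absurd (B.left.uAt_inj e) (by decide)
      have hx22 : x * x = 1 := by
        calc x * x = (x' * t * x'⁻¹) * (x' * x') * t := by rw [hxdef]; group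
          _ = t * (b * b) * t := by rw [hxt, hx2, mul_assoc t b b]
          _ = 1 := by rw [hbb, mul_one, B.t2]
      have hxK : ¬ IsConj t x := by
        intro hK
        have htq2 : t * q * (t * q) = 1 := by
          rw [(show Commute q t from B.left.tq.symm).mul_mul_mul_comm, B.t2, B.right.p2, mul_one]
        have hne : t * q ≠ 1 := fun e => B.not_conj_one (e ▸ h.K_tM hqm B.right.p2)
        have hcomm : x * (t * q) = t * q * x := by
          refine comm_of_conj ?_
          rw [conj_prod, hxt', hxq']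
          have hbq : b * q = q * b := B.central_b q (Base.mG_le_tG hqm)
          rw [mul_assoc t b, ← mul_assoc b q b, hbq, mul_assoc q b b, hbb, mul_one]
        have hne2 : t * q ≠ x := by
          intro e
          refine hb1 (mul_eq_left.mp (hxt'.symm.trans ?_))
          rw [← e]
          exact conj_of_comm' (B.central_t _ (mul_mem htT (Base.mG_le_tG hqm))).symm
        have := (h.bax x (t * q) hK htq2 hne hne2 hcomm).mp (by rw [hy]; exact hxqK)
        exact this (h.K_tM hqm B.right.p2)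
      have hxN' : x ∈ normalizer (eG t p z a : Set G) :=
        Subgroup.mul_mem _ hxN (Subgroup.le_normalizer Base.t_mem_eG)
      have hb0 : cosetCount t (eG t p z a) (r (6, 0) : G) = 0 := by
        rw [h.cosetCount_ρ (g' := ⟨x, hxN'⟩) fun n => by
          rw [K.spec, h.ρ_six_map _ hxU' hxt', (el8_b true n).1]]
        rw [h.cosetCount_eq x ∅ fun i => ?_, Finset.card_empty]
        refine iff_of_false (by simp) fun hK => ?_
        have h2 := h.sq_of_K hK
        rcases i with ⟨_ | _, n⟩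
        · change IsConj t (x * uAt p z a n) at hK
          have hc : x * uAt p z a n * uAt p z a n = uAt p z a n * (x * uAt p z a n) := by
            rw [comm_of_conj (hxU' n), mul_assoc, ← comm_of_conj (hxU' n)]
          have := h.K_mul hK (B.eG_sq (B.uAt_mem n)) (h.nK n) hc
          rw [mul_assoc, B.eG_sq (B.uAt_mem n), mul_one] at this
          exact hxK this
        · change x * (t * uAt p z a n) * (x * (t * uAt p z a n)) = 1 at h2
          have e : x * (t * uAt p z a n) * (x * (t * uAt p z a n)) =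
              x * (t * uAt p z a n) * x⁻¹ * (x * x) * (t * uAt p z a n) := by group
          rw [e, hx22, mul_one, conj_prod, hxt', hxU'] at h2
          rw [← B.central_b t htT, mul_assoc b t, mul_assoc b, B.eG_sq (B.t_uAt_mem n),
            mul_one] at h2
          exact hb1 h2
      have hDle := h.cosetCount_le (r (repD true))
      rw [h.ρ_fun K, (fix_vals true).2.2.1] at hDle
      have hd := h.dvd_count K h8 (swapF true) (swapF_comp true) (6, 0) (by decide +kernel)
      rw [h.count_swap K, h4, hb0] at hd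
      omega

end BCfg

end Cfsg.Agent.InvolTimesSym
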