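import Cfsg.Agent.Lib.InvolTimesSym.Action

/-!
# `N(E)` permuting the four points `t π` as `S₄`
-/

set_option autoImplicit false
set_option maxRecDepth 20000

namespace Cfsg.Agent.InvolTimesSym

open Subgroup Equiv

variable {G : Type*} [Group G] [Finite G] {t p q a b z σ τ : G}

/-- The four points. -/
def fourPts (t p z a : G) (i : Fin 4) : G := t * uAt p z a (four i)

/-- Representatives of the stabiliser of the first point. -/
theorem stab_perms : ∀ π : Perm (Fin 4), π 0 = 0 →
    π = 1 ∨ π = swap 2 3 ∨ π = swap 1 2 ∨ π = swap 1 3 ∨ π = swap 1 3 * swap 1 2 ∨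
      π = swap 1 2 * swap 1 3 := by decide

theorem cMaps_four : ∀ f ∈ cMaps, (∀ i, f (four i) = four i) → f = lin 1 2 4 := by
  intro f hf h
  simp only [cMaps, List.mem_cons, List.not_mem_nil, or_false] at hf
  rcases hf with rfl | rfl | rfl | rfl | rfl | rfl <;>
    first | rfl | exact absurd h (by decide)

namespace Base

variable (B : Base t p q a b z σ τ)
include B

omit [Finite G] in
theorem fourPts_zero : fourPts t p z a 0 = t := by
  simp [fourPts, four, B.uAt_vals.1]

omit [Finite G] in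
theorem fourPts_inj : Function.Injective (fourPts t p z a) := fun _ _ h =>
  (by decide : Function.Injective four) (B.t_uAt_inj h)

theorem fourPts_mem (i : Fin 4) : fourPts t p z a i ∈ eG t p z a := B.t_uAt_mem _

omit [Finite G] in
theorem actsFour (hfour : ∀ g ∈ normalizer (eG t p z a : Set G), ∀ i,
    ∃ j, g * fourPts t p z a i * g⁻¹ = fourPts t p z a j) :
    ActsOn (normalizer (eG t p z a : Set G)) conjAct (fourPts t p z a) where
  act_one := conjAct_one
  act_mul := conjAct_mul
  inj := B.fourPts_inj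
  maps := hfour

variable (ha : ActsOn (normalizer (eG t p z a : Set G)) conjAct (fourPts t p z a))
include ha

theorem four_ker (g : normalizer (eG t p z a : Set G)) :
    ha.hom g = 1 ↔ (g : G) ∈ eG t p z a := by
  constructor
  · intro h
    have hfix : ∀ i, (g : G) * fourPts t p z a i * (g : G)⁻¹ = fourPts t p z a i := fun i =>
      (ha.hom_spec g i).trans (by rw [h]; rfl)
    have hgt : (g : G) * t = t * g := comm_of_conj (by simpa [B.fourPts_zero] using hfix 0)
    obtain ⟨f, hf, h1, h2⟩ :=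
      B.normC_action (g := (g : G)) ⟨g.2, mem_centralizer_singleton_iff.mpr hgt⟩
    refine h2 ?_
    have hf' : ∀ i, f (four i) = four i := fun i => by
      have h3 := hfix i
      rw [fourPts, conj_prod, conj_of_comm' hgt, h1] at h3
      exact B.t_uAt_inj h3
    exact cMaps_four f hf hf'
  · intro h
    refine Equiv.ext fun i => ha.hom_eq g i i ?_
    exact conj_of_comm' (B.eG_comm h (B.fourPts_mem i))

theorem four_q : ha.hom ⟨q, (B.q_mem_normC).1⟩ = swap 2 3 := by
  refine Equiv.ext fun i => ha.hom_eq _ _ _ ?_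
  rw [conjAct, fourPts, conj_prod, conj_of_comm' B.left.tq.symm, B.conj_q_uAt]
  congr 2
  revert i; decide

theorem four_σ : ha.hom ⟨σ, (B.σ_mem_normC).1⟩ = swap 1 2 * swap 1 3 := by
  refine Equiv.ext fun i => ha.hom_eq _ _ _ ?_
  rw [conjAct, fourPts, conj_prod, conj_of_comm' B.left.tσ.symm, B.conj_σ_uAt]
  congr 2
  revert i; decide

theorem four_surjective (hmove : ∃ g ∈ normalizer (eG t p z a : Set G), g * t * g⁻¹ ≠ t) :
    Function.Surjective ha.hom := by
  have hq : swap 2 3 ∈ ha.hom.range := ⟨_, B.four_q ha⟩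
  have hσ : swap 1 2 * swap 1 3 ∈ ha.hom.range := ⟨_, B.four_σ ha⟩
  have hstab : ∀ π : Perm (Fin 4), π 0 = 0 → π ∈ ha.hom.range := by
    intro π hπ
    have h12 : swap (1 : Fin 4) 2 = swap 1 2 * swap 1 3 * swap 2 3 * (swap 1 2 * swap 1 3) *
        (swap 1 2 * swap 1 3) := by decide
    have h13 : swap (1 : Fin 4) 3 = swap 1 2 * swap 1 3 * (swap 1 2 * swap 1 3) * swap 2 3 *
        (swap 1 2 * swap 1 3) := by decide
    have m12 : swap (1 : Fin 4) 2 ∈ ha.hom.range := by
      rw [h12]; exact mul_mem (mul_mem (mul_mem hσ hq) hσ) hσ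
    have m13 : swap (1 : Fin 4) 3 ∈ ha.hom.range := by
      rw [h13]; exact mul_mem (mul_mem (mul_mem hσ hσ) hq) hσ
    rcases stab_perms π hπ with rfl | rfl | rfl | rfl | rfl | rfl
    exacts [one_mem _, hq, m12, m13, mul_mem m13 m12, hσ]
  obtain ⟨g, hg, hgt⟩ := hmove
  have hg0 : ha.hom ⟨g, hg⟩ 0 ≠ 0 := fun h => hgt (by
    have h' := ha.hom_spec ⟨g, hg⟩ 0
    rw [h, conjAct, B.fourPts_zero] at h'
    exact h')
  set γ := ha.hom ⟨g, hg⟩
  intro π
  refine MonoidHom.mem_range.mp ?_
  by_cases h0 : π 0 = 0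
  · exact hstab π h0
  · have e : π = (swap (γ 0) (π 0)) * γ * ((swap (γ 0) (π 0) * γ)⁻¹ * π) := by group
    rw [e]
    refine mul_mem (mul_mem (hstab _ ?_) ⟨_, rfl⟩) (hstab _ ?_)
    · exact swap_apply_of_ne_of_ne hg0.symm (Ne.symm h0)
    · rw [Perm.mul_apply, Perm.inv_eq_iff_eq, Perm.mul_apply, swap_apply_left]

theorem four_card (hs : Function.Surjective ha.hom) :
    Nat.card (normalizer (eG t p z a : Set G)) = 384 := by
  have h1 : Nat.card ha.hom.ker = 16 := by
    have : ha.hom.ker = (eG t p z a).subgroupOf (normalizer (eG t p z a : Set G)) := by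
      ext g
      rw [MonoidHom.mem_ker, mem_subgroupOf, B.four_ker ha]
    rw [this, Nat.card_congr (Subgroup.subgroupOfEquivOfLe Subgroup.le_normalizer).toEquiv,
      B.card_eG]
  rw [Subgroup.card_eq_card_quotient_mul_card_subgroup ha.hom.ker, h1,
    Nat.card_congr (QuotientGroup.quotientKerEquivOfSurjective ha.hom hs).toEquiv,
    Nat.card_eq_fintype_card, Fintype.card_perm, Fintype.card_fin]
  rfl

end Base

end Cfsg.Agent.InvolTimesSym
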