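import Cfsg.Agent.Lib.InvolTimesSym.BCommon
import Cfsg.Agent.Lib.InvolTimesSym.FourPoints

/-!
# The intransitive case: the elements `k` and `h₀`

`k ∈ N(T)` exchanges `E` and `E'`, and `h₀` centralises `M`, takes `t` to `tz`, and `k² ∈ h₀ M`.
-/

set_option autoImplicit false
set_option maxRecDepth 20000

namespace Cfsg.Agent.InvolTimesSym

open Subgroup Equiv

variable {G : Type*} [Group G] [Finite G] {t p q a b z σ τ : G}

omit [Finite G] in
/-- Commutators in a group whose squares lie in `{1, z}`. -/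
theorem conj_of_squares {R : Subgroup G} (hsq : ∀ x ∈ R, x * x = 1 ∨ x * x = z) (hz : z * z = 1)
    (hzc : ∀ x ∈ R, z * x = x * z) {x y : G} (hx : x ∈ R) (hy : y ∈ R) :
    x * y * x⁻¹ = y ∨ x * y * x⁻¹ = y * z := by
  have hxy : x⁻¹ * y ∈ R := R.mul_mem (R.inv_mem hx) hy
  have e : x * y * x⁻¹ = x * x * (x⁻¹ * y * (x⁻¹ * y)) * (y * y)⁻¹ * y := by group
  have hyz : z * y = y * z := hzc y hy
  rw [e]
  rcases hsq x hx with e1 | e1 <;> rcases hsq _ hxy with e2 | e2 <;>
    rcases hsq y hy with e3 | e3 <;> rw [e1, e2, e3] <;>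
    simp only [one_mul, mul_one, inv_one, inv_of_sq hz, hz, hyz] <;> tauto

/-- The data of the intransitive case. -/
structure FourData (t p q a b z k h₀ : G) : Prop where
  kT : cmap k (tG t p q z a) = tG t p q z a
  kE : cmap k (eG t p z a) = eG t q z b
  kE' : cmap k (eG t q z b) = eG t p z a
  kt : k * t * k⁻¹ = t * b
  ka : k * a * k⁻¹ = b
  kb : k * b * k⁻¹ = a
  kz : k * z * k⁻¹ = z
  h₀t : h₀ * t * h₀⁻¹ = t * z
  h₀M : ∀ x ∈ mG p q z a, h₀ * x = x * h₀
  h₀E : h₀ ∈ normalizer (eG t p z a : Set G)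
  h₀T : cmap h₀ (tG t p q z a) = tG t p q z a
  h₀sq : h₀ * h₀ = 1 ∨ h₀ * h₀ = z
  k2 : ∃ m ∈ mG p q z a, k * k = h₀ * m

namespace BCfg

variable (h : BCfg t p q a b z σ τ)
include h

theorem acts_four (h8 : ¬ h.Eight) :
    ActsOn (normalizer (eG t p z a : Set G)) conjAct (fourPts t p z a) := by
  obtain ⟨horb, -⟩ := h.four_of_not_eight h8
  refine h.toBase.actsFour fun g hg i => ?_
  have hmem : h.ρ ⟨g, hg⟩ (four i) ∈ h.orb 0 := by
    refine h.orb_trans ?_ (h.mem_orb.mpr ⟨⟨g, hg⟩, rfl⟩)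
    rw [horb]
    revert i; decide
  rw [horb] at hmem
  obtain ⟨j, hj⟩ := (by decide : ∀ m ∈ ({0, 2, 5, 7} : Finset (Fin 8)), ∃ j, four j = m) _ hmem
  exact ⟨j, by rw [fourPts, fourPts, hj]; exact h.ρ_spec ⟨g, hg⟩ (four i)⟩

theorem four_surj (h8 : ¬ h.Eight) : Function.Surjective (h.acts_four h8).hom :=
  h.toBase.four_surjective (h.acts_four h8) (h.toBase.exists_move (n := 2) (by decide) (h.K_tu 2))

/-- Translations centralise `⟨p, z, a⟩`. -/
theorem pure_four {g : G} (hg : g ∈ normalizer (eG t p z a : Set G)) (v : Fin 8)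
    (ht : g * t * g⁻¹ = t * uAt p z a v)
    (hv : ∀ n ∈ ({2, 5} : Finset (Fin 8)),
      g * (t * uAt p z a n) * g⁻¹ = t * uAt p z a (xr v n)) :
    ∀ n, g * uAt p z a n * g⁻¹ = uAt p z a n := by
  have B := h.toBase
  have key : ∀ n ∈ ({2, 5} : Finset (Fin 8)), g * uAt p z a n * g⁻¹ = uAt p z a n := by
    intro n hn
    have e := hv n hn
    rw [conj_prod, ht, ← B.left.uAt_mul, mul_assoc] at e
    exact mul_left_cancel (mul_left_cancel e)
  have h6 : g * uAt p z a 6 * g⁻¹ = uAt p z a 6 := by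
    rw [B.uAt_vals.2.2.2.2.2.2.1]; exact h.conj_b hg
  have h2 := key 2 (by simp)
  have h5 := key 5 (by simp)
  have hp : g * p * g⁻¹ = uAt p z a 1 := by
    conv_lhs => rw [← B.uAt_vals.2.1, show (1 : Fin 8) = xr (xr 2 5) 6 from by decide,
      ← B.left.uAt_mul, ← B.left.uAt_mul, conj_prod, conj_prod, h2, h5, h6, B.left.uAt_mul,
      B.left.uAt_mul]
    rfl
  have ha : g * a * g⁻¹ = uAt p z a 4 := by
    conv_lhs => rw [← B.uAt_vals.2.2.2.2.1, show (4 : Fin 8) = xr 2 6 from by decide,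
      ← B.left.uAt_mul, conj_prod, h2, h6, B.left.uAt_mul]
    rfl
  have hz : g * z * g⁻¹ = uAt p z a 2 := by rw [← h2, B.uAt_vals.2.2.1]
  intro n
  rw [B.left.conj_uAt hp hz ha, Base.lin_id]

theorem exists_four_data (h8 : ¬ h.Eight) : ∃ k h₀, FourData t p q a b z k h₀ := by
  have B := h.toBase
  obtain ⟨-, k, hkT, hkE, hkt, hka, hkb⟩ := h.four_of_not_eight h8
  have hkz := B.conj_z hkT
  have hkE' : cmap k (eG t q z b) = eG t p z a := by
    rcases B.symm.eG_swap (by rw [B.tG_symm, hkT]) with e | e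
    · have e' := congrArg (cmap k⁻¹) (hkE.trans e.symm)
      rw [← cmap_mul, ← cmap_mul, inv_mul_cancel, cmap_one, cmap_one] at e'
      exact absurd e'.symm B.e2_ne
    · exact e
  have ha := h.acts_four h8
  obtain ⟨⟨g, hgN⟩, hg⟩ := h.four_surj h8 (swap 0 1 * swap 2 3)
  have hgi : ∀ i, g * fourPts t p z a i * g⁻¹ = fourPts t p z a ((swap 0 1 * swap 2 3 : Perm (Fin 4)) i) :=
    fun i => by rw [← hg]; exact (h.acts_four h8).hom_spec ⟨g, hgN⟩ i
  obtain ⟨v0, v1, v2, -, v4, -, v6, -⟩ := B.uAt_vals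
  have hgt : g * t * g⁻¹ = t * uAt p z a 2 := by
    have e := hgi 0
    rwa [B.fourPts_zero, show (swap 0 1 * swap 2 3 : Perm (Fin 4)) 0 = 1 from by decide] at e
  have hgU : ∀ n, g * uAt p z a n * g⁻¹ = uAt p z a n := by
    refine h.pure_four hgN 2 hgt fun n hn => ?_
    simp only [Finset.mem_insert, Finset.mem_singleton] at hn
    rcases hn with rfl | rfl
    · exact hgi 1
    · exact hgi 2
  rw [v2] at hgt
  have hgq : g * q * g⁻¹ ∈ tG t p q z a := by
    have e := (B.four_ker ha (⟨q, B.q_mem_normC.1⟩⁻¹ *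
      (⟨g, hgN⟩ * ⟨q, B.q_mem_normC.1⟩ * ⟨g, hgN⟩⁻¹))).mp (by
        rw [map_mul, map_mul, map_mul, map_inv, map_inv, B.four_q ha]
        change (swap 2 3 : Perm (Fin 4))⁻¹ * ((h.acts_four h8).hom ⟨g, hgN⟩ * swap 2 3 *
          ((h.acts_four h8).hom ⟨g, hgN⟩)⁻¹) = 1
        rw [hg]; decide)
    simp only [Subgroup.coe_mul, Subgroup.coe_inv] at e
    have e' : g * q * g⁻¹ = q * (q⁻¹ * (g * q * g⁻¹)) := by group
    rw [e']
    exact mul_mem (Base.mG_le_tG (mem_sup_right (mem_zpowers q))) (Base.eG_le_tG e)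
  have hgT : cmap g (tG t p q z a) = tG t p q z a := by
    refine eq_of_card ?_ (card_cmap _ _)
    have : tG t p q z a ≤ cmap g⁻¹ (tG t p q z a) := by
      simp only [tG, mG, uG, sup_le_iff, zpowers_le, mem_cmap, inv_inv]
      refine ⟨⟨⟨⟨?_, ?_⟩, ?_⟩, hgq⟩, ?_⟩
      · rw [← v1, hgU, v1]; exact Base.mG_le_tG (Base.uG_le_mG Side.p_mem)
      · rw [← v2, hgU, v2]; exact Base.mG_le_tG (Base.uG_le_mG Side.z_mem)
      · rw [← v4, hgU, v4]; exact Base.mG_le_tG (Base.uG_le_mG Side.a_mem)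
      · rw [hgt]
        exact mul_mem (mem_sup_right (mem_zpowers t))
          (Base.mG_le_tG (Base.uG_le_mG Side.z_mem))
    intro x hx
    have := cmap_mono (g := g) this hx
    rwa [← cmap_mul, mul_inv_cancel, cmap_one] at this
  -- the conjugate of `g` by `k` centralises `U'` and differs from `g` by an element of `T`
  have hkU : ∀ n, ∃ m, k⁻¹ * uAt q z b n * k = uAt p z a m := by
    intro n
    have hx : k⁻¹ * uAt q z b n * k ∈ eG t p z a := by
      rw [← mem_cmap, hkE]; exact B.symm.uAt_mem n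
    obtain ⟨m, hm | hm⟩ := B.mem_E_iff.mp hx
    · exact ⟨m, hm.symm⟩
    · refine absurd ?_ (h.symm.nK n)
      rw [← isConj_conj t k⁻¹, inv_inv, ← hm]
      exact h.K_tu m
  have hg'q : k * g * k⁻¹ * q * (k * g * k⁻¹)⁻¹ = q := by
    obtain ⟨m, hm⟩ := hkU 1
    rw [B.symm.uAt_vals.2.1] at hm
    calc k * g * k⁻¹ * q * (k * g * k⁻¹)⁻¹ = k * (g * (k⁻¹ * q * k) * g⁻¹) * k⁻¹ := by group
      _ = q := by rw [hm, hgU, ← hm]; group
  have hg't : k * g * k⁻¹ * t * (k * g * k⁻¹)⁻¹ = t * z := by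
    have hkinv : cmap k⁻¹ (tG t p q z a) = tG t p q z a := by
      conv_lhs => rw [← hkT]
      rw [← cmap_mul, inv_mul_cancel, cmap_one]
    obtain ⟨w, hw, hkw⟩ := h.conj_t_T hkinv
    rw [inv_inv] at hkw
    have hgw : g * w * g⁻¹ = w := by
      simp only [List.mem_cons, List.not_mem_nil, or_false] at hw
      rcases hw with rfl | rfl | rfl | rfl
      · group
      · rw [← v2, hgU]
      · rw [← v4, hgU]
      · rw [← v6, hgU]
    have e : k * (t * w) * k⁻¹ = t := by rw [← hkw]; group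
    calc k * g * k⁻¹ * t * (k * g * k⁻¹)⁻¹ = k * (g * (k⁻¹ * t * k) * g⁻¹) * k⁻¹ := by group
      _ = k * (t * z * w) * k⁻¹ := by rw [hkw, conj_prod g t w, hgt, hgw]
      _ = k * (t * w) * k⁻¹ * (k * (w⁻¹ * z * w) * k⁻¹) := by group
      _ = t * z := by
        have hwz : w⁻¹ * z * w = z := by
          have hwT : w ∈ tG t p q z a := by
            simp only [List.mem_cons, List.not_mem_nil, or_false] at hw
            rcases hw with rfl | rfl | rfl | rfl
            · exact one_mem _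
            · exact Base.mG_le_tG (Base.uG_le_mG Side.z_mem)
            · exact B.a_central_mem.1
            · exact B.a_central_mem.2
          rw [mul_assoc, B.central_z w hwT, inv_mul_cancel_left]
        rw [e, hwz, hkz]
  have hg'T : cmap (k * g * k⁻¹) (tG t p q z a) = tG t p q z a := by
    have hkinv : cmap k⁻¹ (tG t p q z a) = tG t p q z a := by
      conv_lhs => rw [← hkT]
      rw [← cmap_mul, inv_mul_cancel, cmap_one]
    rw [cmap_mul, cmap_mul, hkinv, hgT, hkT]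
  set τ' := g⁻¹ * (k * g * k⁻¹)
  have hτ'T : τ' ∈ tG t p q z a := by
    refine B.normC_T (comm_of_conj ?_) ?_
    · calc τ' * t * τ'⁻¹ = g⁻¹ * (k * g * k⁻¹ * t * (k * g * k⁻¹)⁻¹) * g := by
            simp only [τ']; group
        _ = t := by rw [hg't, ← hgt]; group
    · rw [show τ' = g⁻¹ * (k * g * k⁻¹) from rfl, cmap_mul, hg'T]
      conv_lhs => rw [← hgT]
      rw [← cmap_mul, inv_mul_cancel, cmap_one]
  have hsqT : ∀ x ∈ tG t p q z a, x * x = 1 ∨ x * x = z := fun x hx => B.sq_mem hx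
  have hgqz : g * q * g⁻¹ = q ∨ g * q * g⁻¹ = q * z := by
    have hqT : q ∈ tG t p q z a := Base.mG_le_tG (mem_sup_right (mem_zpowers q))
    have hg'z : k * g * k⁻¹ * z * (k * g * k⁻¹)⁻¹ = z := B.conj_z hg'T
    have e : g * q * g⁻¹ = k * g * k⁻¹ * (τ'⁻¹ * q * τ'⁻¹⁻¹) * (k * g * k⁻¹)⁻¹ := by
      simp only [τ']; group
    rcases conj_of_squares hsqT B.left.z2 B.central_z (inv_mem hτ'T) hqT with e' | e'
    · exact Or.inl (by rw [e, e', hg'q])
    · exact Or.inr (by rw [e, e', conj_prod, hg'q, hg'z])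
  -- adjust to centralise `q`
  obtain ⟨f, hfN, hft, hfU, hfq, hfT⟩ : ∃ f, f ∈ normalizer (eG t p z a : Set G) ∧
      f * t * f⁻¹ = t * z ∧ (∀ n, f * uAt p z a n * f⁻¹ = uAt p z a n) ∧ f * q * f⁻¹ = q ∧
      cmap f (tG t p q z a) = tG t p q z a := by
    rcases hgqz with e | e
    · exact ⟨g, hgN, hgt, hgU, e, hgT⟩
    · have hpE : p ∈ eG t p z a := mem_sup_left Side.p_mem
      have hpT : p ∈ tG t p q z a := Base.eG_le_tG hpE
      have hpu : p ∈ uList p z a := by simp [uList]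
      refine ⟨g * p, mul_mem hgN (Subgroup.le_normalizer hpE), ?_, fun n => ?_, ?_, ?_⟩
      · rw [show g * p * t * (g * p)⁻¹ = g * (p * t * p⁻¹) * g⁻¹ by group,
          conj_of_comm' B.left.tp.symm, hgt]
      · rw [show g * p * uAt p z a n * (g * p)⁻¹ = g * (p * uAt p z a n * p⁻¹) * g⁻¹ by group,
          B.conj_uAt_of_u hpu, hgU]
      · have hpq : p * q * p⁻¹ = q * z := by rw [inv_of_sq B.left.p2]; exact B.right.qpq
        rw [show g * p * q * (g * p)⁻¹ = g * (p * q * p⁻¹) * g⁻¹ by group, hpq, conj_prod, e,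
          B.conj_z hgT, mul_assoc, B.left.z2, mul_one]
      · rw [cmap_mul, mem_normalizer_iff_cmap.mp (Subgroup.le_normalizer hpT), hgT]
  have hfM : ∀ x ∈ mG p q z a, f * x = x * f := by
    intro x hx
    have hle : mG p q z a ≤ centralizer ({f} : Set G) := by
      simp only [mG, uG, sup_le_iff, zpowers_le, mem_centralizer_singleton_iff]
      refine ⟨⟨⟨?_, ?_⟩, ?_⟩, (comm_of_conj hfq).symm⟩
      · rw [← v1]; exact (comm_of_conj (hfU 1)).symm
      · rw [← v2]; exact (comm_of_conj (hfU 2)).symm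
      · rw [← v4]; exact (comm_of_conj (hfU 4)).symm
    exact (mem_centralizer_singleton_iff.mp (hle hx)).symm
  -- `k² ∈ f T`
  have hk2 : f⁻¹ * (k * k) ∈ tG t p q z a := by
    refine B.normC_T (comm_of_conj ?_) ?_
    · calc f⁻¹ * (k * k) * t * (f⁻¹ * (k * k))⁻¹
          = f⁻¹ * (k * (k * t * k⁻¹) * k⁻¹) * f := by group
        _ = f⁻¹ * (t * (b * a)) * f := by rw [hkt, conj_prod, hkt, hkb, mul_assoc t b a]
        _ = t := by
          rw [B.b_eq, (show Commute a z from B.left.za.symm).eq, mul_assoc z a a, B.left.a2,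
            mul_one, ← hft]
          group
    · rw [cmap_mul, cmap_mul, hkT, hkT]
      conv_lhs => rw [← hfT]
      rw [← cmap_mul, inv_mul_cancel, cmap_one]
  obtain ⟨h₀, hN, ht0, hM0, hT0, m, hm, hkm⟩ : ∃ h₀, h₀ ∈ normalizer (eG t p z a : Set G) ∧
      h₀ * t * h₀⁻¹ = t * z ∧ (∀ x ∈ mG p q z a, h₀ * x = x * h₀) ∧
      cmap h₀ (tG t p q z a) = tG t p q z a ∧ ∃ m ∈ mG p q z a, k * k = h₀ * m := by
    rcases mem_tList.mp (B.mem_tG.mp hk2) with e | e
    · exact ⟨f, hfN, hft, hfM, hfT, _, B.mem_mG.mpr e, (mul_inv_cancel_left _ _).symm⟩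
    · have htT : t ∈ tG t p q z a := mem_sup_right (mem_zpowers t)
      refine ⟨f * t, mul_mem hfN (Subgroup.le_normalizer Base.t_mem_eG), ?_, fun x hx => ?_, ?_,
        _, B.mem_mG.mpr e, by group⟩
      · rw [show f * t * t * (f * t)⁻¹ = f * t * f⁻¹ by group, hft]
      · exact ((show Commute f x from hfM x hx).mul_left (B.t_comm_m hx)).eq
      · rw [cmap_mul, mem_normalizer_iff_cmap.mp (Subgroup.le_normalizer htT), hfT]
  refine ⟨k, h₀, hkT, hkE, hkE', hkt, hka, hkb, hkz, ht0, hM0, hN, hT0, ?_, m, hm, hkm⟩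
  -- the square of `h₀`
  have hh2 : h₀ * h₀ ∈ eG t p z a := by
    refine B.cent_eG fun x hx => ?_
    have hle : eG t p z a ≤ centralizer ({h₀ * h₀} : Set G) := by
      refine sup_le (fun y hy => ?_) (zpowers_le.mpr ?_)
      · exact mem_centralizer_singleton_iff.mpr
          ((show Commute h₀ y from hM0 y (Base.uG_le_mG hy)).mul_left
            (hM0 y (Base.uG_le_mG hy))).eq.symm
      · refine mem_centralizer_singleton_iff.mpr (comm_of_conj ?_).symm
        calc h₀ * h₀ * t * (h₀ * h₀)⁻¹ = h₀ * (h₀ * t * h₀⁻¹) * h₀⁻¹ := by group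
          _ = t := by
            rw [ht0, conj_prod, ht0, conj_of_comm' (hM0 z (Base.uG_le_mG Side.z_mem)),
              mul_assoc, B.left.z2, mul_one]
    exact (mem_centralizer_singleton_iff.mp (hle hx)).symm
  obtain ⟨n, hn | hn⟩ := B.mem_E_iff.mp hh2
  · have hqn : q * uAt p z a n * q⁻¹ = uAt p z a n := by
      apply conj_of_comm'
      rw [hn]
      exact ((show Commute h₀ q from hM0 q (mem_sup_right (mem_zpowers q))).mul_left
        (hM0 q (mem_sup_right (mem_zpowers q)))).eq.symm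
    rw [B.conj_q_uAt] at hqn
    have hk : k * (h₀ * h₀) * k⁻¹ = h₀ * h₀ := by
      have hc : Commute h₀ m := hM0 m hm
      have e : k * k * (k * k) = h₀ * h₀ * (m * m) := by
        rw [hkm, hc.symm.mul_mul_mul_comm]
      have hm2 : k * (m * m) * k⁻¹ = m * m := by
        rcases B.sq_mem (Base.mG_le_tG hm) with e' | e' <;> rw [e']
        · group
        · exact hkz
      have e2 : k * (h₀ * h₀ * (m * m)) * k⁻¹ = h₀ * h₀ * (m * m) := by rw [← e]; group
      rw [conj_prod, hm2] at e2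
      exact mul_right_cancel e2
    rw [← hn] at hk
    rcases (by decide : ∀ n : Fin 8, lin 3 2 4 n = n → n = 0 ∨ n = 2 ∨ n = 4 ∨ n = 6) n
      (B.left.uAt_inj hqn) with rfl | rfl | rfl | rfl
    · exact Or.inl (by rw [← hn, v0])
    · exact Or.inr (by rw [← hn, v2])
    · rw [v4, hka, ← v4, ← v6] at hk; exact absurd (B.left.uAt_inj hk) (by decide)
    · rw [v6, hkb, ← v4, ← v6] at hk; exact absurd (B.left.uAt_inj hk) (by decide)
  · exfalso
    have e : h₀ * (t * uAt p z a n) * h₀⁻¹ = t * uAt p z a n := by rw [hn]; group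
    rw [conj_prod, ht0, conj_of_comm' (hM0 _ (Base.uG_le_mG (B.left.mem_uG.mpr
      (B.left.mem_uList_iff.mpr ⟨n, rfl⟩)))), mul_assoc] at e
    exact B.z_ne_one (mul_eq_right.mp (mul_left_cancel e))

end BCfg

end Cfsg.Agent.InvolTimesSym
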