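import Cfsg.Agent.Lib.InvolTimesSym.BEightTables
import Cfsg.Agent.Lib.InvolTimesSym.BFourSetup

/-!
# The transitive case: elements of `N(T)` and the two kinds
-/

set_option autoImplicit false
set_option maxRecDepth 20000
set_option linter.unusedSectionVars false

namespace Cfsg.Agent.InvolTimesSym

open Subgroup

variable {G : Type*} [Group G] [Finite G] {t p q a b z σ τ : G}

/-- `f` is induced on the eight points by an element of `N(E)`. -/
def BCfg.Real (h : BCfg t p q a b z σ τ) (f : Fin 8 → Fin 8) : Prop :=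
  ∃ g : normalizer (eG t p z a : Set G), ∀ n, h.ρ g n = f n

/-- The image of `N(E)` is the group of kind `ε`, with representatives `r`. -/
structure BCfg.Kind (h : BCfg t p q a b z σ τ) (ε : Bool)
    (r : Fin 8 × Fin 6 → normalizer (eG t p z a : Set G)) : Prop where
  spec : ∀ i n, h.ρ (r i) n = el8 ε i n
  cover : ∀ g, ∃ i, ∀ n, h.ρ g n = el8 ε i n

namespace BCfg

variable (h : BCfg t p q a b z σ τ)
include h

theorem real_comp {f f' : Fin 8 → Fin 8} (h1 : h.Real f) (h2 : h.Real f') :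
    h.Real (fun n => f (f' n)) := by
  obtain ⟨g, hg⟩ := h1
  obtain ⟨g', hg'⟩ := h2
  exact ⟨g * g', fun n => by rw [map_mul, Equiv.Perm.mul_apply, hg', hg]⟩

/-- The action on `U` is the linear part. -/
theorem conj_uAt_ρ (g : normalizer (eG t p z a : Set G)) (n : Fin 8) :
    (g : G) * uAt p z a n * (g : G)⁻¹ = uAt p z a (linF (h.ρ g) n) := by
  obtain ⟨i, j, k, hlin, haff⟩ := h.affine g
  rw [hlin, linF, haff n, ← xr_assoc, xr_self, zero_xr]

theorem ρ_of_action {g : G} (hg : g ∈ normalizer (eG t p z a : Set G)) {v : Fin 8}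
    {L : Fin 8 → Fin 8} (ht : g * t * g⁻¹ = t * uAt p z a v)
    (hL : ∀ n, g * uAt p z a n * g⁻¹ = uAt p z a (L n)) (n : Fin 8) :
    h.ρ ⟨g, hg⟩ n = xr v (L n) := by
  refine h.ρ_eq ?_
  rw [eightPts, eightPts, conj_prod, ht, hL, mul_assoc, h.toBase.left.uAt_mul]

theorem real_cMap (k : Fin 6) : h.Real (cMap k) := by
  obtain ⟨c, hc, hf⟩ := h.normC_real k
  refine ⟨⟨c, hc.1⟩, fun n => ?_⟩
  rw [h.ρ_of_action hc.1 (v := 0) (by
    rw [h.toBase.uAt_vals.1, mul_one]
    exact conj_of_comm' (mem_centralizer_singleton_iff.mp hc.2)) hf, zero_xr]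

theorem ker_ρ (g : normalizer (eG t p z a : Set G)) : h.ρ g = 1 ↔ (g : G) ∈ eG t p z a := by
  have B := h.toBase
  constructor
  · intro e
    refine B.cent_eG fun x hx => ?_
    obtain ⟨n, hn | hn⟩ := B.mem_E_iff.mp hx <;> rw [← hn] <;> refine comm_of_conj ?_
    · rw [h.conj_uAt_ρ, linF, e, Equiv.Perm.one_apply, Equiv.Perm.one_apply, zero_xr]
    · have := h.ρ_spec g n
      rw [e, Equiv.Perm.one_apply] at this
      exact this
  · intro e
    refine Equiv.ext fun n => h.ρ_eq ?_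
    exact conj_of_comm' (B.eG_comm e (B.t_uAt_mem n))

theorem eq_mod_E {g g' : normalizer (eG t p z a : Set G)} (e : ∀ n, h.ρ g n = h.ρ g' n) :
    (g : G)⁻¹ * g' ∈ eG t p z a := by
  have h1 := (h.ker_ρ (g⁻¹ * g')).mp (by
    rw [map_mul, map_inv, inv_mul_eq_one]; exact Equiv.ext e)
  simpa using h1

theorem normT_mem (h8 : h.Eight) {g : G} (hT : cmap g (tG t p q z a) = tG t p q z a) :
    g ∈ normalizer (eG t p z a : Set G) :=
  mem_normalizer_iff_cmap.mpr (h.eight_fix h8 hT)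

/-- An element of `N(T)` centralising `U` and moving `t` by `b`. -/
theorem exists_x (h8 : h.Eight) : ∃ x, cmap x (tG t p q z a) = tG t p q z a ∧
    (∀ n, x * uAt p z a n * x⁻¹ = uAt p z a n) ∧ x * t * x⁻¹ = t * b := by
  have B := h.toBase
  obtain ⟨v0, v1, v2, v3, v4, v5, v6, v7⟩ := B.uAt_vals
  obtain ⟨g, hg⟩ := h.mem_orb.mp (h8 6)
  obtain ⟨i, j, k, hlin, -⟩ := h.affine g
  have hgt : (g : G) * t * (g : G)⁻¹ = t * b := by rw [h.ρ_zero, hg, v6]
  have hinj : ∀ m n, lin i j k m = lin i j k n → m = n := by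
    intro m n e
    refine B.left.uAt_inj ?_
    have e' : (g : G) * uAt p z a m * (g : G)⁻¹ = (g : G) * uAt p z a n * (g : G)⁻¹ := by
      rw [hlin, hlin, e]
    exact mul_left_cancel (mul_right_cancel e')
  have h6 : lin i j k 6 = 6 := by
    have := hlin 6
    rw [v6, h.conj_b g.2, ← v6] at this
    exact (B.left.uAt_inj this).symm
  have hnorm : ∀ m : Fin 6, ∃ c, ∀ n, lin i j k (cMap m n) = cMap c (lin i j k n) := by
    intro m
    obtain ⟨c, hc, hcf⟩ := h.normC_real m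
    set d := (g : G) * c * (g : G)⁻¹
    have hd : d ∈ normalizer (eG t p z a : Set G) ⊓ centralizer ({t} : Set G) := by
      have hdN : d ∈ normalizer (eG t p z a : Set G) := mul_mem (mul_mem g.2 hc.1) (inv_mem g.2)
      refine ⟨hdN, mem_centralizer_singleton_iff.mpr (comm_of_conj ?_)⟩
      have htb : d * (t * b) * d⁻¹ = t * b := by
        rw [← hgt]
        have hct := conj_of_comm' (mem_centralizer_singleton_iff.mp hc.2)
        calc d * ((g : G) * t * (g : G)⁻¹) * d⁻¹ = (g : G) * (c * t * c⁻¹) * (g : G)⁻¹ := by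
              simp only [d]; group
          _ = _ := by rw [hct]
      rw [conj_prod, h.conj_b hdN] at htb
      exact mul_right_cancel htb
    obtain ⟨f, hf, hf1, -⟩ := B.normC_action hd
    obtain ⟨c', rfl⟩ := cMap_of_mem hf
    refine ⟨c', fun n => B.left.uAt_inj ?_⟩
    rw [← hlin, ← hcf, ← hf1, ← hlin]
    simp only [d]; group
  obtain ⟨c', hc'⟩ := lin_normaliser i j k hinj h6 (hnorm 1) (hnorm 3)
  obtain ⟨c, hc, hcf⟩ := h.normC_real c'
  set x := (g : G) * c
  have hxN : x ∈ normalizer (eG t p z a : Set G) := mul_mem g.2 hc.1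
  have hxU : ∀ n, x * uAt p z a n * x⁻¹ = uAt p z a n := by
    intro n
    rw [show x * uAt p z a n * x⁻¹ = (g : G) * (c * uAt p z a n * c⁻¹) * (g : G)⁻¹ by
      simp only [x]; group, hcf, hlin, hc']
  have hxt : x * t * x⁻¹ = t * b := by
    rw [show x * t * x⁻¹ = (g : G) * (c * t * c⁻¹) * (g : G)⁻¹ by simp only [x]; group,
      conj_of_comm' (mem_centralizer_singleton_iff.mp hc.2), hgt]
  refine ⟨x, ?_, hxU, hxt⟩
  have hqN := B.q_mem_normC
  have hqt : q * t * q⁻¹ = t := conj_of_comm' B.left.tq.symm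
  have hqb : q * b * q⁻¹ = b := h.conj_b hqN.1
  set d := q⁻¹ * (x * q * x⁻¹)
  have hxi : ∀ n, x⁻¹ * uAt p z a n * x = uAt p z a n := fun n => by
    conv_lhs => rw [← hxU n]
    group
  have hdt : d * t * d⁻¹ = t := by
    have e1 : x⁻¹ * (t * b) * x = t := by rw [← hxt]; group
    have e2 : x⁻¹ * t * x = t * b := by
      calc x⁻¹ * t * x = x⁻¹ * (t * b) * x * (x⁻¹ * b * x)⁻¹ := by group
        _ = t * b := by rw [e1, ← v6, hxi, v6, inv_of_sq (B.eG_sq (v6 ▸ B.uAt_mem 6))]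
    calc d * t * d⁻¹ = q⁻¹ * (x * (q * (x⁻¹ * t * x) * q⁻¹) * x⁻¹) * q := by
          simp only [d]; group
      _ = q⁻¹ * (x * (t * b) * x⁻¹) * q := by rw [e2, conj_prod q t b, hqt, hqb]
      _ = q⁻¹ * t * q := by
          have hxb : x * b * x⁻¹ = b := by have := hxU 6; rwa [v6] at this
          rw [conj_prod x t b, hxt, hxb, mul_assoc t b b, B.eG_sq (v6 ▸ B.uAt_mem 6), mul_one]
      _ = t := by rw [inv_of_sq B.right.p2, ← B.left.tq, mul_assoc, B.right.p2, mul_one]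
  have hdU : ∀ n, d * uAt p z a n * d⁻¹ = uAt p z a n := by
    intro n
    calc d * uAt p z a n * d⁻¹ = q⁻¹ * (x * (q * (x⁻¹ * uAt p z a n * x) * q⁻¹) * x⁻¹) * q := by
          simp only [d]; group
      _ = q⁻¹ * (q * uAt p z a n * q⁻¹) * q := by rw [hxi, B.conj_q_uAt, hxU]
      _ = _ := by group
  have hdE : d ∈ eG t p z a := by
    have hdN : d ∈ normalizer (eG t p z a : Set G) ⊓ centralizer ({t} : Set G) :=
      ⟨Subgroup.mul_mem _ (Subgroup.inv_mem _ hqN.1)
          (Subgroup.mul_mem _ (Subgroup.mul_mem _ hxN hqN.1) (Subgroup.inv_mem _ hxN)),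
        mem_centralizer_singleton_iff.mpr (comm_of_conj hdt)⟩
    obtain ⟨f, -, hf1, hf2⟩ := B.normC_action hdN
    refine hf2 (funext fun n => B.left.uAt_inj ?_)
    rw [← hf1, hdU, Base.lin_id]
  refine eq_of_card ?_ (card_cmap _ _)
  have hle : tG t p q z a ≤ cmap x⁻¹ (tG t p q z a) := by
    have hu : ∀ n, x * uAt p z a n * x⁻¹ ∈ tG t p q z a := fun n => by
      rw [hxU]; exact Base.eG_le_tG (B.uAt_mem n)
    simp only [tG, mG, uG, sup_le_iff, zpowers_le, mem_cmap, inv_inv]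
    refine ⟨⟨⟨⟨?_, ?_⟩, ?_⟩, ?_⟩, ?_⟩
    · have := hu 1; rwa [v1] at this
    · have := hu 2; rwa [v2] at this
    · have := hu 4; rwa [v4] at this
    · rw [show x * q * x⁻¹ = q * d by simp only [d]; group]
      exact mul_mem (Base.mG_le_tG (mem_sup_right (mem_zpowers q))) (Base.eG_le_tG hdE)
    · rw [hxt]
      exact mul_mem (mem_sup_right (mem_zpowers t)) B.a_central_mem.2
  intro y hy
  have := cmap_mono (g := x) hle hy
  rwa [← cmap_mul, mul_inv_cancel, cmap_one] at this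

/-- An element of `N(T)` moving `t` by `z`, with the two possible actions on `U`. -/
theorem exists_g (h8 : h.Eight) : ∃ g, cmap g (tG t p q z a) = tG t p q z a ∧
    g * t * g⁻¹ = t * z ∧ ∃ ε : Bool, ∀ n, g * uAt p z a n * g⁻¹ = uAt p z a (gK ε n) := by
  have B := h.toBase
  obtain ⟨v0, v1, v2, v3, v4, v5, v6, v7⟩ := B.uAt_vals
  have hK : IsConj t (t * z) := by rw [← v2]; exact h.K_tu 2
  obtain ⟨g, hgt, hgT⟩ := B.exists_normT hK (Base.central_mul B.central_t B.central_z)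
  have hgN := h.normT_mem h8 hgT
  have hgz : g * z * g⁻¹ = uAt p z a 2 := by rw [v2]; exact B.conj_z hgT
  have hga : g * a * g⁻¹ = uAt p z a 4 := by
    have e : a = b * z := B.right.az.symm
    conv_lhs => rw [e]
    rw [conj_prod, h.conj_b hgN, B.conj_z hgT, v4, ← e]
  obtain ⟨i, hi⟩ := h.conj_u hgN 1
  rw [v1] at hi
  have hcases : i = 1 ∨ i = 3 ∨ i = 5 ∨ i = 7 := by
    have hne : ∀ m, uAt p z a m = g * uAt p z a m * g⁻¹ → m = 2 ∨ m = 4 ∨ m = 6 ∨ m = 0 → i ≠ m := by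
      intro m e hm hc
      subst hc
      have := B.left.uAt_inj (v1.trans (mul_left_cancel (mul_right_cancel (hi.trans e))))
      subst this
      simp at hm
    have hW : ∀ m, m = 2 ∨ m = 4 ∨ m = 6 ∨ m = 0 → uAt p z a m = g * uAt p z a m * g⁻¹ := by
      rintro m (rfl | rfl | rfl | rfl)
      · rw [v2, B.conj_z hgT]
      · rw [v4, hga, v4]
      · rw [v6, h.conj_b hgN]
      · rw [v0]; group
    have h2 := hne 2 (hW 2 (Or.inl rfl)) (Or.inl rfl)
    have h4 := hne 4 (hW 4 (Or.inr (Or.inl rfl))) (Or.inr (Or.inl rfl))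
    have h6 := hne 6 (hW 6 (Or.inr (Or.inr (Or.inl rfl)))) (Or.inr (Or.inr (Or.inl rfl)))
    have h0 := hne 0 (hW 0 (Or.inr (Or.inr (Or.inr rfl)))) (Or.inr (Or.inr (Or.inr rfl)))
    omega
  have hlin := B.left.conj_uAt hi hgz hga
  have hq := B.q_mem_normC
  have hcomp : ∀ n, q * g * uAt p z a n * (q * g)⁻¹ = uAt p z a (lin 3 2 4 (lin i 2 4 n)) := by
    intro n
    rw [show q * g * uAt p z a n * (q * g)⁻¹ = q * (g * uAt p z a n * g⁻¹) * q⁻¹ by group, hlin,
      B.conj_q_uAt]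
  have hqT : cmap (q * g) (tG t p q z a) = tG t p q z a := by
    rw [cmap_mul, hgT]
    exact mem_normalizer_iff_cmap.mp
      (Subgroup.le_normalizer (Base.mG_le_tG (mem_sup_right (mem_zpowers q))))
  have hqt : q * g * t * (q * g)⁻¹ = t * z := by
    rw [show q * g * t * (q * g)⁻¹ = q * (g * t * g⁻¹) * q⁻¹ by group, hgt, conj_prod,
      conj_of_comm' B.left.tq.symm, conj_of_comm' B.right.pz]
  rcases hcases with rfl | rfl | rfl | rfl
  · exact ⟨g, hgT, hgt, false, hlin⟩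
  · exact ⟨q * g, hqT, hqt, false, fun n => (hcomp n).trans (congrArg _
      ((by decide : ∀ n, lin 3 2 4 (lin 3 2 4 n) = lin 1 2 4 n) n))⟩
  · exact ⟨g, hgT, hgt, true, hlin⟩
  · exact ⟨q * g, hqT, hqt, true, fun n => (hcomp n).trans (congrArg _
      ((by decide : ∀ n, lin 3 2 4 (lin 7 2 4 n) = lin 5 2 4 n) n))⟩

/-- The kind of the image. -/
theorem exists_kind (h8 : h.Eight) {x g : G} {ε : Bool}
    (hx : cmap x (tG t p q z a) = tG t p q z a)
    (hxU : ∀ n, x * uAt p z a n * x⁻¹ = uAt p z a n) (hxt : x * t * x⁻¹ = t * b)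
    (hg : cmap g (tG t p q z a) = tG t p q z a) (hgt : g * t * g⁻¹ = t * z)
    (hgU : ∀ n, g * uAt p z a n * g⁻¹ = uAt p z a (gK ε n)) : ∃ r, h.Kind ε r := by
  have B := h.toBase
  obtain ⟨v0, v1, v2, v3, v4, v5, v6, v7⟩ := B.uAt_vals
  have hX : h.Real (fun n => xr 6 n) := ⟨⟨x, h.normT_mem h8 hx⟩, fun n =>
    h.ρ_of_action _ (v := 6) (L := fun n => n) (by rw [v6]; exact hxt) hxU n⟩
  have h2 : h.Real (t2F ε) := ⟨⟨g, h.normT_mem h8 hg⟩, fun n =>
    h.ρ_of_action _ (v := 2) (L := gK ε) (by rw [v2]; exact hgt) hgU n⟩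
  have h7 : h.Real (t7F ε) :=
    h.real_comp (f := cMap 1) (h.real_cMap 1) (h.real_comp h2 (h.real_cMap 2))
  have h5 : h.Real (t5F ε) :=
    h.real_comp (f := cMap 2) (h.real_cMap 2) (h.real_comp h2 (h.real_cMap 1))
  have htr : ∀ v, h.Real (tr8 ε v) := by
    intro v
    fin_cases v
    · exact ⟨1, fun n => by rw [map_one, Equiv.Perm.one_apply]; rfl⟩
    · have := h.real_comp hX h7; exact this
    · exact h2
    · have := h.real_comp hX h5; exact this
    · have := h.real_comp hX h2; exact this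
    · exact h5
    · exact hX
    · exact h7
  have hreal : ∀ i, h.Real (el8 ε i) := fun i => by
    have := h.real_comp (htr i.1) (h.real_cMap i.2); exact this
  choose r hr using hreal
  refine ⟨r, hr, fun g' => ?_⟩
  set v := h.ρ g' 0
  have hr0 : h.ρ (r (v, 0)) 0 = v :=
    (hr _ _).trans ((by decide +kernel : ∀ ε v, el8 ε (v, 0) 0 = v) ε v)
  have hfix : h.ρ ((r (v, 0))⁻¹ * g') 0 = 0 := by
    rw [map_mul, Equiv.Perm.mul_apply, map_inv, Equiv.Perm.inv_def, Equiv.symm_apply_eq, hr0]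
  set c := (r (v, 0))⁻¹ * g'
  have hct : (c : G) * t * (c : G)⁻¹ = t := by rw [h.ρ_zero, hfix, v0, mul_one]
  obtain ⟨f, hf, hf1, -⟩ :=
    B.normC_action ⟨c.2, mem_centralizer_singleton_iff.mpr (comm_of_conj hct)⟩
  obtain ⟨k, rfl⟩ := cMap_of_mem hf
  refine ⟨(v, k), fun n => ?_⟩
  have hc : h.ρ c n = cMap k n := by
    rw [show c = ⟨(c : G), c.2⟩ from rfl,
      h.ρ_of_action c.2 (v := 0) (by rw [v0, mul_one]; exact hct) hf1, zero_xr]
  have e : g' = r (v, 0) * c := (mul_inv_cancel_left _ _).symm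
  rw [e, map_mul, Equiv.Perm.mul_apply, hc, hr]
  exact congrArg (tr8 ε v) (by simp [cMap, Base.lin_id])

/-- Two elements of `N(T)` fixing `p` up to `z` and moving `t` by `z`, `b` suffice for `Pure`. -/
theorem pure_of (h8 : h.Eight) {f₂ f₆ : G} (h2T : cmap f₂ (tG t p q z a) = tG t p q z a)
    (h2t : f₂ * t * f₂⁻¹ = t * z) (h2p : f₂ * p * f₂⁻¹ = p ∨ f₂ * p * f₂⁻¹ = p * z)
    (h6T : cmap f₆ (tG t p q z a) = tG t p q z a) (h6t : f₆ * t * f₆⁻¹ = t * b)
    (h6p : f₆ * p * f₆⁻¹ = p ∨ f₆ * p * f₆⁻¹ = p * z) : Pure t p q a z := by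
  have B := h.toBase
  intro g hgT
  have hz : ∀ {f}, cmap f (tG t p q z a) = tG t p q z a →
      (f * p * f⁻¹ = p ∨ f * p * f⁻¹ = p * z) → f * (p * z) * f⁻¹ = p ∨ f * (p * z) * f⁻¹ = p * z := by
    intro f hf hp
    rw [conj_prod, B.conj_z hf]
    rcases hp with e | e <;> rw [e]
    · exact Or.inr rfl
    · exact Or.inl (by rw [mul_assoc, B.left.z2, mul_one])
  obtain ⟨w, hw, hgt⟩ := h.conj_t_T hgT
  obtain ⟨f, hfT, hft, hfp⟩ : ∃ f, cmap f (tG t p q z a) = tG t p q z a ∧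
      f * t * f⁻¹ = t * w ∧ (f * p * f⁻¹ = p ∨ f * p * f⁻¹ = p * z) := by
    simp only [List.mem_cons, List.not_mem_nil, or_false] at hw
    rcases hw with e | e | e | e <;> rw [e]
    · exact ⟨1, cmap_one _, by group, Or.inl (by group)⟩
    · exact ⟨f₂, h2T, h2t, h2p⟩
    · refine ⟨f₂ * f₆, by rw [cmap_mul, h6T, h2T], ?_, ?_⟩
      · rw [show f₂ * f₆ * t * (f₂ * f₆)⁻¹ = f₂ * (f₆ * t * f₆⁻¹) * f₂⁻¹ by group, h6t, conj_prod,
          h2t, h.conj_b (h.normT_mem h8 h2T), mul_assoc]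
        congr 1
        rw [B.b_eq, ← mul_assoc, (show Commute z a from B.left.za).eq, mul_assoc, B.left.z2,
          mul_one]
      · rw [show f₂ * f₆ * p * (f₂ * f₆)⁻¹ = f₂ * (f₆ * p * f₆⁻¹) * f₂⁻¹ by group]
        rcases h6p with e | e <;> rw [e]
        exacts [h2p, hz h2T h2p]
    · exact ⟨f₆, h6T, h6t, h6p⟩
  set c := f⁻¹ * g
  have hfi : cmap f⁻¹ (tG t p q z a) = tG t p q z a := by
    conv_lhs => rw [← hfT]
    rw [← cmap_mul, inv_mul_cancel, cmap_one]
  have hcT : c ∈ tG t p q z a := by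
    refine B.normC_T (comm_of_conj ?_) (by rw [cmap_mul, hgT, hfi])
    rw [show c * t * c⁻¹ = f⁻¹ * (g * t * g⁻¹) * f by simp only [c]; group, hgt, ← hft]
    group
  have hcp := conj_of_squares (fun x hx => B.sq_mem hx) B.left.z2 B.central_z hcT
    (Base.mG_le_tG (Base.uG_le_mG Side.p_mem))
  rw [show g * p * g⁻¹ = f * (c * p * c⁻¹) * f⁻¹ by simp only [c]; group]
  rcases hcp with e | e <;> rw [e]
  exacts [hfp, hz hfT hfp]

end BCfg

end Cfsg.Agent.InvolTimesSym
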