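import Cfsg.Agent.Lib.InvolTimesSym.BEightDefs

/-!
# The centraliser of `U = ⟨p, z, a⟩` in the transitive case

An element centralising `U` moves a conjugate `w` of `t` centralising `U` by an element of `U`;
it is determined by this element up to `⟨w⟩U`.  Four conjugates of `t` whose mutual commutators
are given by the table `octL` are the only conjugates of `t` in the cosets they generate.
-/

set_option autoImplicit false

namespace Cfsg.Agent.InvolTimesSym

open Subgroup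

variable {G : Type*} [Group G]

/-- The centraliser of `⟨p, z, a⟩`. -/
def cU (p z a : G) : Subgroup G := centralizer (Set.range (uAt p z a))

theorem mem_cU {p z a g : G} : g ∈ cU p z a ↔ ∀ n, g * uAt p z a n = uAt p z a n * g := by
  simp only [cU, mem_centralizer_iff, Set.forall_mem_range]
  exact forall_congr' fun n => eq_comm

/-- The commutators of the representatives of the four octets. -/
def octL : Fin 4 → Fin 4 → Fin 8 := ![![0, 4, 1, 3], ![4, 0, 3, 1], ![1, 3, 0, 4], ![3, 1, 4, 0]]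

/-- The involution `(01)(23)` of the four indices. -/
def octK : Fin 4 → Fin 4 := ![1, 0, 3, 2]

/-- The octet `rᵢ U`. -/
def octet (p z a : G) (r : Fin 4 → G) (i : Fin 4) : Set G :=
  {y | ∃ m, y = r i * uAt p z a m}

/-- The union of the four octets. -/
def octSet (p z a : G) (r : Fin 4 → G) : Set G := {y | ∃ i, y ∈ octet p z a r i}

theorem sq_conj {g y : G} :
    g * y * g⁻¹ * (g * y * g⁻¹) = g * (y * y) * g⁻¹ := by group

/-- The commutator of two involutions read as a displacement. -/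
theorem conj_eq_of_sq {w r c : G} (hw : w * w = 1) (hr : r * r = 1)
    (h : w * r * (w * r) = c) : r * w * r⁻¹ = w * c := by
  rw [← h, inv_of_sq hr]
  calc r * w * r = w * w * (r * w * r) := by rw [hw, one_mul]
    _ = w * (w * r * (w * r)) := by group

theorem sq_of_conj_eq {w r c : G} (hw : w * w = 1) (hr : r * r = 1)
    (h : r * w * r⁻¹ = w * c) : w * r * (w * r) = c := by
  rw [inv_of_sq hr] at h
  calc w * r * (w * r) = w * (r * w * r) := by group
    _ = c := by rw [h, ← mul_assoc, hw, one_mul]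

variable [Finite G] {t p q a b z σ τ : G}

namespace BCfg

variable (h : BCfg t p q a b z σ τ)
include h

omit [Finite G] in
theorem uAt_comm (m n : Fin 8) : uAt p z a m * uAt p z a n = uAt p z a n * uAt p z a m := by
  rw [h.toBase.left.uAt_mul, h.toBase.left.uAt_mul, xr_comm]

omit [Finite G] in
theorem uAt_mem_cU (n : Fin 8) : uAt p z a n ∈ cU p z a := mem_cU.mpr fun _ => h.uAt_comm n _

omit [Finite G] in
theorem t_mem_cU : t ∈ cU p z a :=
  mem_cU.mpr fun n => comm_of_conj (h.toBase.conj_uAt_of_t n)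

omit [Finite G] in
theorem uAt_sq (n : Fin 8) : uAt p z a n * uAt p z a n = 1 := by
  rw [h.toBase.left.uAt_mul, xr_self, h.toBase.uAt_vals.1]

omit [Finite G] in
theorem uAt_inv (n : Fin 8) : (uAt p z a n)⁻¹ = uAt p z a n := inv_of_sq (h.uAt_sq n)

omit [Finite G] in
theorem uAt_ne_one {n : Fin 8} (hn : n ≠ 0) : uAt p z a n ≠ 1 := fun e =>
  hn (h.toBase.left.uAt_inj (e.trans h.toBase.uAt_vals.1.symm))

omit [Finite G] in
theorem sq_mul_u {y : G} (hy : y ∈ cU p z a) (n : Fin 8) :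
    y * uAt p z a n * (y * uAt p z a n) = y * y := by
  have hc : Commute y (uAt p z a n) := mem_cU.mp hy n
  rw [hc.symm.mul_mul_mul_comm, h.uAt_sq, mul_one]

theorem K_mul_u {r : G} (hr : IsConj t r) (hc : r ∈ cU p z a) (n : Fin 8) :
    IsConj t (r * uAt p z a n) := by
  by_cases hn : n = 0
  · rw [hn, h.toBase.uAt_vals.1, mul_one]; exact hr
  exact (h.bax r _ hr (h.uAt_sq n) (h.uAt_ne_one hn) (fun e => h.nK n (e ▸ hr))
    (mem_cU.mp hc n)).mpr (h.nK n)

theorem nK_mul_u {x : G} (hx : ¬ IsConj t x) (hc : x ∈ cU p z a) (n : Fin 8) :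
    ¬ IsConj t (x * uAt p z a n) := by
  intro hK
  have := h.K_mul_u hK (mul_mem hc (h.uAt_mem_cU n)) n
  rw [mul_assoc, h.uAt_sq, mul_one] at this
  exact hx this

/-- For a conjugate `w` of `t` centralising `U`, `C(w) ∩ C(U) = ⟨w⟩U`. -/
theorem cent_rU {w y : G} (hw : IsConj t w) (hwc : w ∈ cU p z a) (hy : y ∈ cU p z a)
    (hyw : y * w = w * y) : ∃ m, y = uAt p z a m ∨ y = w * uAt p z a m := by
  have B := h.toBase
  have hwu : ∀ x ∈ uG p z a, w * x = x * w := fun x hx => by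
    obtain ⟨n, rfl⟩ := B.left.mem_uList_iff.mp (B.left.mem_uG.mp hx)
    exact mem_cU.mp hwc n
  have hwU : w ∉ uG p z a := fun hh => by
    obtain ⟨n, hn⟩ := B.left.mem_uList_iff.mp (B.left.mem_uG.mp hh)
    exact h.nK n (hn ▸ hw)
  have hw2 := h.sq_of_K hw
  have hww : w * w ∈ uG p z a := by rw [hw2]; exact one_mem _
  have hn : ∀ x ∈ uG p z a, w * x * w⁻¹ ∈ uG p z a := fun x hx => by
    rw [hwu x hx, mul_inv_cancel_right]; exact hx
  set F := uG p z a ⊔ zpowers w
  have hF : ∀ x, x ∈ F ↔ ∃ m, x = uAt p z a m ∨ x = w * uAt p z a m := by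
    intro x
    rw [mem_sup_zpowers hww hn, B.left.mem_uG, B.left.mem_uG, B.left.mem_uList_iff,
      B.left.mem_uList_iff]
    constructor
    · rintro (⟨m, hm⟩ | ⟨m, hm⟩)
      exacts [⟨m, Or.inl hm.symm⟩, ⟨m, Or.inr (by rw [hm, mul_inv_cancel_left])⟩]
    · rintro ⟨m, hm | hm⟩
      exacts [Or.inl ⟨m, hm.symm⟩, Or.inr ⟨m, by rw [hm, inv_mul_cancel_left]⟩]
  have hFc : Nat.card F = 16 := by rw [card_sup_zpowers hwU hww hn, B.card_uG]
  have hFsq : ∀ x ∈ F, x * x = 1 := fun x hx => by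
    obtain ⟨m, rfl | rfl⟩ := (hF x).mp hx
    · exact h.uAt_sq m
    · rw [h.sq_mul_u hwc, hw2]
  obtain ⟨g, hg⟩ := isConj_iff.mp hw
  have hle : cmap g⁻¹ F ≤ centralizer ({t} : Set G) := by
    intro x hx
    rw [mem_cmap, inv_inv] at hx
    have hcx : g * x * g⁻¹ * w = w * (g * x * g⁻¹) := by
      obtain ⟨m, e | e⟩ := (hF _).mp hx <;> rw [e]
      · exact (mem_cU.mp hwc m).symm
      · exact ((Commute.refl w).mul_left (mem_cU.mp hwc m : Commute w _).symm).eq
    rw [mem_centralizer_singleton_iff]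
    rw [← hg] at hcx
    simpa [mul_assoc] using congrArg (fun v => g⁻¹ * v * g) hcx
  obtain ⟨c, hc, hcases⟩ := B.elem_classify hle (by rw [card_cmap, hFc]) fun x hx => by
    rw [mem_cmap, inv_inv] at hx
    have e : x * x = g⁻¹ * ((g * x * g⁻¹) * (g * x * g⁻¹)) * g := by group
    rw [e, hFsq _ hx]; simp
  rw [← cmap_mul] at hcases
  have key : ∀ X : Subgroup G, cmap (c * g⁻¹) F = X →
      (∀ v, (∀ x ∈ X, v * x = x * v) → v ∈ X) → y ∈ F := by
    intro X hX hcent
    have hm : c * g⁻¹ * y * (c * g⁻¹)⁻¹ ∈ X := by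
      refine hcent _ fun x hx => ?_
      rw [← hX, mem_cmap] at hx
      have hyx : y * ((c * g⁻¹)⁻¹ * x * (c * g⁻¹)) = (c * g⁻¹)⁻¹ * x * (c * g⁻¹) * y := by
        obtain ⟨m, e | e⟩ := (hF _).mp hx <;> rw [e]
        · exact mem_cU.mp hy m
        · exact ((show Commute y w from hyw).mul_right (mem_cU.mp hy m)).eq
      generalize hk : c * g⁻¹ = k at hyx
      calc k * y * k⁻¹ * x = k * (y * (k⁻¹ * x * k)) * k⁻¹ := by group
        _ = k * (k⁻¹ * x * k * y) * k⁻¹ := by rw [hyx]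
        _ = x * (k * y * k⁻¹) := by group
    rw [← hX, mem_cmap] at hm
    simpa [mul_assoc] using hm
  refine (hF y).mp ?_
  rcases hcases with e | e
  · exact key _ e fun v hv => B.cent_eG hv
  · exact key _ e fun v hv => B.symm.cent_eG hv

omit [Finite G] in
theorem lab_ne {w v : G} {n n' : Fin 8} (hv : v * w * v⁻¹ = w * uAt p z a n)
    (hv' : v * w * v⁻¹ = w * uAt p z a n') : n = n' :=
  h.toBase.left.uAt_inj (mul_left_cancel (hv.symm.trans hv'))

omit [Finite G] in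
theorem lab_mul {w v v' : G} {n n' : Fin 8} (hv : v ∈ cU p z a)
    (e : v * w * v⁻¹ = w * uAt p z a n) (e' : v' * w * v'⁻¹ = w * uAt p z a n') :
    v * v' * w * (v * v')⁻¹ = w * uAt p z a (xr n n') := by
  calc v * v' * w * (v * v')⁻¹ = v * (v' * w * v'⁻¹) * v⁻¹ := by group
    _ = v * w * v⁻¹ * (v * uAt p z a n' * v⁻¹) := by rw [e']; group
    _ = _ := by rw [e, conj_of_comm' (mem_cU.mp hv n'), mul_assoc, h.toBase.left.uAt_mul]

theorem coset_cases {w v y : G} {n : Fin 8} (hw : IsConj t w) (hwc : w ∈ cU p z a)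
    (hv : v ∈ cU p z a) (hy : y ∈ cU p z a) (ev : v * w * v⁻¹ = w * uAt p z a n)
    (ey : y * w * y⁻¹ = w * uAt p z a n) :
    ∃ m, y = v * uAt p z a m ∨ y = v * w * uAt p z a m := by
  have hc : v⁻¹ * y * w = w * (v⁻¹ * y) := by
    refine comm_of_conj ?_
    calc v⁻¹ * y * w * (v⁻¹ * y)⁻¹ = v⁻¹ * (y * w * y⁻¹) * v := by group
      _ = v⁻¹ * (v * w * v⁻¹) * v := by rw [ey, ev]
      _ = w := by group
  obtain ⟨m, e | e⟩ := h.cent_rU hw hwc (mul_mem (inv_mem hv) hy) hc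
  · exact ⟨m, Or.inl (by rw [← e, mul_inv_cancel_left])⟩
  · exact ⟨m, Or.inr (by rw [mul_assoc, ← e, mul_inv_cancel_left])⟩

/-- Two conjugates of `t` moving `w` by the same nontrivial element lie in one coset of `U`. -/
theorem same_oct {w v y : G} {n : Fin 8} (hn : n ≠ 0) (hw : IsConj t w) (hwc : w ∈ cU p z a)
    (hvK : IsConj t v) (hv : v ∈ cU p z a) (hyK : IsConj t y) (hy : y ∈ cU p z a)
    (ev : v * w * v⁻¹ = w * uAt p z a n) (ey : y * w * y⁻¹ = w * uAt p z a n) :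
    ∃ m, y = v * uAt p z a m := by
  obtain ⟨m, e | e⟩ := h.coset_cases hw hwc hv hy ev ey
  · exact ⟨m, e⟩
  · exfalso
    have h2 := h.sq_of_K hyK
    rw [e, h.sq_mul_u (mul_mem hv hwc)] at h2
    have h3 := sq_of_conj_eq (h.sq_of_K hw) (h.sq_of_K hvK) ev
    have e4 : w * v * (w * v) = v⁻¹ * (v * w * (v * w)) * v := by group
    rw [e4, h2, mul_one, inv_mul_cancel] at h3
    exact h.uAt_ne_one hn h3.symm

omit [Finite G] in
/-- The square of a product of three involutions. -/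
theorem sq_three {r₁ r₂ w : G} {c d₁ d₂ : Fin 8} (hr₂ : r₂ ∈ cU p z a)
    (h1 : r₁ * r₁ = 1) (h2 : r₂ * r₂ = 1) (hw : w * w = 1)
    (e : r₁ * r₂ * (r₁ * r₂) = uAt p z a c) (e1 : r₁ * w * (r₁ * w) = uAt p z a d₁)
    (e2 : r₂ * w * (r₂ * w) = uAt p z a d₂) :
    r₁ * r₂ * w * (r₁ * r₂ * w) = uAt p z a (xr c (xr d₁ d₂)) := by
  have f1 := conj_eq_of_sq h1 hw e1
  have f2 := conj_eq_of_sq h2 hw e2
  rw [inv_of_sq hw] at f1 f2
  calc r₁ * r₂ * w * (r₁ * r₂ * w) = r₁ * r₂ * (w * r₁ * (w * w) * r₂ * w) := by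
        rw [hw, mul_one]; group
    _ = r₁ * r₂ * ((w * r₁ * w) * (w * r₂ * w)) := by group
    _ = r₁ * r₂ * (r₁ * (uAt p z a d₁ * r₂) * uAt p z a d₂) := by rw [f1, f2]; group
    _ = r₁ * r₂ * (r₁ * r₂) * (uAt p z a d₁ * uAt p z a d₂) := by
      rw [← mem_cU.mp hr₂ d₁]; group
    _ = _ := by rw [e, h.toBase.left.uAt_mul, h.toBase.left.uAt_mul]

/-- The hypotheses on the representatives. -/
structure OctData (_h : BCfg t p q a b z σ τ) (r : Fin 4 → G) (x : G) : Prop where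
  K : ∀ i, IsConj t (r i)
  mem : ∀ i, r i ∈ cU p z a
  sq : ∀ i j, r i * r j * (r i * r j) = uAt p z a (octL i j)
  xK : ¬ IsConj t x
  xmem : x ∈ cU p z a
  x2 : x * x = 1
  x0 : r 0 * x * (r 0 * x) = uAt p z a 6
  x1 : r 1 * x * (r 1 * x) = uAt p z a 6

omit [Finite G] h in
theorem OctData.swap {r : Fin 4 → G} {x : G} {hh : BCfg t p q a b z σ τ}
    (D : OctData hh r x) : OctData hh (fun i => r (octK i)) x where
  K i := D.K _
  mem i := D.mem _
  sq i j := by
    rw [D.sq]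
    congr 1
    revert i j; decide
  xK := D.xK
  xmem := D.xmem
  x2 := D.x2
  x0 := D.x1
  x1 := D.x0

omit [Finite G] h in
theorem octSet_swap (r : Fin 4 → G) :
    octSet p z a (fun i => r (octK i)) = octSet p z a r := by
  ext y
  constructor
  · rintro ⟨i, hi⟩; exact ⟨octK i, hi⟩
  · rintro ⟨i, hi⟩
    refine ⟨octK i, ?_⟩
    obtain ⟨m, rfl⟩ := hi
    exact ⟨m, by simp only [(by decide : ∀ i, octK (octK i) = i)]⟩

omit [Finite G] in
theorem OctData.conj_zero {r : Fin 4 → G} {x : G} {hh : BCfg t p q a b z σ τ}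
    (D : OctData hh r x) (i : Fin 4) : r i * r 0 * (r i)⁻¹ = r 0 * uAt p z a (octL 0 i) :=
  conj_eq_of_sq (h.sq_of_K (D.K 0)) (h.sq_of_K (D.K i)) (D.sq 0 i)

/-- A conjugate of `t` centralising `U` and moving `r₀` by an element of `U` lies in an octet. -/
theorem quad_mem {r : Fin 4 → G} {x y : G} {n : Fin 8} (D : OctData h r x) (hK : IsConj t y)
    (hy : y ∈ cU p z a) (ey : y * r 0 * y⁻¹ = r 0 * uAt p z a n) : y ∈ octSet p z a r := by
  have hs := fun i => h.sq_of_K (D.K i)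
  have ex : x * r 0 * x⁻¹ = r 0 * uAt p z a 6 := conj_eq_of_sq (hs 0) D.x2 D.x0
  have hy2 := h.sq_of_K hK
  rcases (by decide : ∀ n : Fin 8, n = 6 ∨ (∃ i, n = octL 0 i) ∨
      ∃ i j, i ≠ 0 ∧ j ≠ 0 ∧ i ≠ j ∧ n = xr (octL 0 i) (octL 0 j)) n with
    rfl | ⟨i, rfl⟩ | ⟨i, j, hi, hj, hij, rfl⟩
  · exfalso
    obtain ⟨m, e | e⟩ := h.coset_cases (D.K 0) (D.mem 0) D.xmem hy ex ey
    · exact h.nK_mul_u D.xK D.xmem m (e ▸ hK)
    · rw [e, h.sq_mul_u (mul_mem D.xmem (D.mem 0))] at hy2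
      have e' : r 0 * x * (r 0 * x) = x⁻¹ * (x * r 0 * (x * r 0)) * x := by group
      have h6 := D.x0
      rw [e', hy2, mul_one, inv_mul_cancel] at h6
      exact h.uAt_ne_one (by decide) h6.symm
  · by_cases hi : i = 0
    · subst hi
      have h0 : y * r 0 = r 0 * y := comm_of_conj (by
        rw [ey, show octL 0 0 = 0 from rfl, h.toBase.uAt_vals.1, mul_one])
      obtain ⟨m, e | e⟩ := h.cent_rU (D.K 0) (D.mem 0) hy h0
      · exact absurd (e ▸ hK) (h.nK m)
      · exact ⟨0, m, e⟩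
    · obtain ⟨m, e⟩ := h.same_oct ((by decide : ∀ i, i ≠ 0 → octL 0 i ≠ 0) i hi) (D.K 0) (D.mem 0)
        (D.K i) (D.mem i) hK hy (D.conj_zero h i) ey
      exact ⟨i, m, e⟩
  · exfalso
    obtain ⟨m, e | e⟩ := h.coset_cases (D.K 0) (D.mem 0) (mul_mem (D.mem i) (D.mem j)) hy
      (h.lab_mul (D.mem i) (D.conj_zero h i) (D.conj_zero h j)) ey
    · rw [e, h.sq_mul_u (mul_mem (D.mem i) (D.mem j)), D.sq] at hy2
      exact h.uAt_ne_one ((by decide : ∀ i j, i ≠ j → octL i j ≠ 0) i j hij) hy2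
    · rw [e, h.sq_mul_u (mul_mem (mul_mem (D.mem i) (D.mem j)) (D.mem 0)),
        h.sq_three (D.mem j) (hs i) (hs j) (hs 0) (D.sq i j) (D.sq i 0) (D.sq j 0)] at hy2
      exact h.uAt_ne_one ((by decide : ∀ i j, i ≠ 0 → j ≠ 0 → i ≠ j →
        xr (octL i j) (xr (octL i 0) (octL j 0)) ≠ 0) i j hi hj hij) hy2

omit [Finite G] in
/-- Elements of two octets commute iff the octets are equal. -/
theorem oct_comm {r : Fin 4 → G} {x y y' : G} {i j : Fin 4} (D : OctData h r x)
    (hy : y ∈ octet p z a r i) (hy' : y' ∈ octet p z a r j) : y * y' = y' * y ↔ i = j := by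
  obtain ⟨m, rfl⟩ := hy
  obtain ⟨m', rfl⟩ := hy'
  have c1 : ∀ k n, Commute (r k) (uAt p z a n) := fun k n => mem_cU.mp (D.mem k) n
  constructor
  · intro e
    have hrr : Commute (r i) (r j) := by
      have e2 : Commute (r i * uAt p z a m) (r j) := by
        have := (show Commute (r i * uAt p z a m) (r j * uAt p z a m') from e).mul_right
          ((c1 i m').mul_left (h.uAt_comm m m'))
        rwa [mul_assoc, h.uAt_sq, mul_one] at this
      have := e2.mul_left (c1 j m).symm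
      rwa [mul_assoc, h.uAt_sq, mul_one] at this
    have h2 := D.sq i j
    rw [hrr.symm.mul_mul_mul_comm, h.sq_of_K (D.K i), h.sq_of_K (D.K j), mul_one] at h2
    exact (by decide : ∀ i j, octL i j = 0 → i = j) i j
      (h.toBase.left.uAt_inj (h2.symm.trans h.toBase.uAt_vals.1.symm))
  · rintro rfl
    exact (((Commute.refl (r i)).mul_right (c1 i m')).mul_left
      ((c1 i m).symm.mul_right (h.uAt_comm m m'))).eq

end BCfg

end Cfsg.Agent.InvolTimesSym
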