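import Cfsg.Agent.Lib.InvolTimesSym.BEightAct

/-!
# The transitive case: the counts on `N(E)`
-/

set_option autoImplicit false
set_option maxRecDepth 20000
set_option linter.unusedSectionVars false

namespace Cfsg.Agent.InvolTimesSym

open Subgroup

variable {G : Type*} [Group G] [Finite G] {t p q a b z σ τ : G} {ε : Bool}

/-- The elements of `N(E)` on which a predicate of the permutation holds. -/
def BCfg.predSet (h : BCfg t p q a b z σ τ) (P : (Fin 8 → Fin 8) → Bool) : Set G :=
  {g | ∃ hg : g ∈ normalizer (eG t p z a : Set G), P (h.ρ ⟨g, hg⟩) = true}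

/-- The elements of `E`, indexed. -/
def eElt (t p z a : G) (i : Bool × Fin 8) : G :=
  if i.1 then eightPts t p z a i.2 else uAt p z a i.2

namespace BCfg

variable (h : BCfg t p q a b z σ τ) {r : Fin 8 × Fin 6 → normalizer (eG t p z a : Set G)}
include h

theorem eElt_mem (i : Bool × Fin 8) : eElt t p z a i ∈ eG t p z a := by
  rcases i with ⟨_ | _, n⟩
  · exact h.toBase.uAt_mem n
  · exact h.toBase.t_uAt_mem n

theorem eElt_surj {x : G} (hx : x ∈ eG t p z a) : ∃ i, eElt t p z a i = x := by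
  obtain ⟨n, hn | hn⟩ := h.toBase.mem_E_iff.mp hx
  · exact ⟨(false, n), hn⟩
  · exact ⟨(true, n), hn⟩

theorem eElt_inj : Function.Injective (eElt t p z a) := by
  have B := h.toBase
  have hne : ∀ m n, uAt p z a m ≠ t * uAt p z a n := fun m n e => h.nK m (e ▸ h.K_tu n)
  rintro ⟨_ | _, m⟩ ⟨_ | _, n⟩ e
  · exact congrArg _ (B.left.uAt_inj e)
  · exact absurd e (hne m n)
  · exact absurd e.symm (hne n m)
  · exact congrArg _ (B.t_uAt_inj e)

theorem conj_eElt_fix (g : normalizer (eG t p z a : Set G)) (i : Bool × Fin 8) :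
    (g : G) * eElt t p z a i * (g : G)⁻¹ = eElt t p z a i ↔
      (if i.1 then h.ρ g i.2 = i.2 else linF (h.ρ g) i.2 = i.2) := by
  rcases i with ⟨_ | _, n⟩
  · simp only [eElt, Bool.false_eq_true, if_false]
    rw [h.conj_uAt_ρ]
    exact ⟨fun e => h.toBase.left.uAt_inj e, fun e => by rw [e]⟩
  · simp only [eElt, if_true]
    rw [h.ρ_spec]
    exact ⟨fun e => h.toBase.t_uAt_inj e, fun e => by rw [e]⟩

/-- Coset counts through the indexed elements of `E`. -/
theorem cosetCount_eq (g : G) (S : Finset (Bool × Fin 8))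
    (hS : ∀ i, i ∈ S ↔ IsConj t (g * eElt t p z a i)) : cosetCount t (eG t p z a) g = S.card := by
  classical
  rw [cosetCount, conjCount]
  rw [show S.card = Nat.card S from (Nat.card_eq_finsetCard S).symm]
  let f : S → {x : G // x ∈ {y | g⁻¹ * y ∈ eG t p z a} ∧ IsConj t x} := fun i =>
    ⟨g * eElt t p z a i.1, by simpa using h.eElt_mem i.1, (hS i.1).mp i.2⟩
  refine (Nat.card_congr (Equiv.ofBijective f ⟨?_, ?_⟩)).symm
  · rintro ⟨i, hi⟩ ⟨j, hj⟩ e
    exact Subtype.ext (h.eElt_inj (mul_left_cancel (congrArg Subtype.val e)))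
  · rintro ⟨s, hs, hK⟩
    obtain ⟨i, hi⟩ := h.eElt_surj (show g⁻¹ * s ∈ eG t p z a from hs)
    refine ⟨⟨i, (hS i).mpr ?_⟩, Subtype.ext ?_⟩
    · rw [hi, mul_inv_cancel_left]; exact hK
    · change g * eElt t p z a i = s
      rw [hi, mul_inv_cancel_left]

theorem cosetCount_ρ {g g' : normalizer (eG t p z a : Set G)} (e : ∀ n, h.ρ g n = h.ρ g' n) :
    cosetCount t (eG t p z a) (g : G) = cosetCount t (eG t p z a) (g' : G) :=
  (cosetCount_congr t _ (h.eq_mod_E e)).symm

/-- Conjugates of `t` in `sE`, `s` one of them, correspond to fixed elements of `E`. -/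
theorem cosetCount_le (g : normalizer (eG t p z a : Set G)) :
    cosetCount t (eG t p z a) (g : G) ≤ fixCount (h.ρ g) := by
  classical
  by_cases hex : ∃ i, IsConj t ((g : G) * eElt t p z a i)
  swap
  · rw [h.cosetCount_eq (g : G) ∅ fun i => by simpa using fun e => hex ⟨i, e⟩]
    simp
  obtain ⟨i₀, hi₀⟩ := hex
  have he : eElt t p z a i₀ ∈ eG t p z a := h.eElt_mem i₀
  set s : normalizer (eG t p z a : Set G) := g * ⟨_, Subgroup.le_normalizer he⟩
  have hρ : ∀ n, h.ρ s n = h.ρ g n := by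
    intro n
    rw [show s = g * ⟨_, Subgroup.le_normalizer he⟩ from rfl, map_mul, Equiv.Perm.mul_apply,
      (h.ker_ρ ⟨_, Subgroup.le_normalizer he⟩).mpr he, Equiv.Perm.one_apply]
  rw [h.cosetCount_ρ (g' := s) fun n => (hρ n).symm]
  have hs2 : (s : G) * s = 1 := h.sq_of_K hi₀
  rw [h.cosetCount_eq (s : G) (Finset.univ.filter fun i => IsConj t ((s : G) * eElt t p z a i))
    (by simp)]
  have hsub : (Finset.univ.filter fun i => IsConj t ((s : G) * eElt t p z a i)) ⊆
      Finset.univ.filter fun i => if i.1 then h.ρ g i.2 = i.2 else linF (h.ρ g) i.2 = i.2 := by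
    intro i hi
    simp only [Finset.mem_filter, Finset.mem_univ, true_and] at hi ⊢
    have h2 := h.sq_of_K hi
    have hfun : (h.ρ s : Fin 8 → Fin 8) = h.ρ g := funext hρ
    rw [← hfun]
    refine (h.conj_eElt_fix s i).mp ?_
    have he2 := h.toBase.eG_sq (h.eElt_mem i)
    calc (s : G) * eElt t p z a i * (s : G)⁻¹
        = (s : G) * eElt t p z a i * (s : G) := by rw [inv_of_sq hs2]
      _ = (s : G) * eElt t p z a i * ((s : G) * eElt t p z a i) * eElt t p z a i := by
          rw [mul_assoc ((s : G) * eElt t p z a i), mul_assoc (s : G) (eElt t p z a i)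
            (eElt t p z a i), he2, mul_one]
      _ = _ := by rw [h2, one_mul]
  refine (Finset.card_le_card hsub).trans (le_of_eq ?_)
  rw [fixCount, ← Finset.card_disjSum]
  refine Finset.card_bij (fun i _ => if i.1 then Sum.inr i.2 else Sum.inl i.2) ?_ ?_ ?_
  · rintro ⟨_ | _, n⟩ hn <;> simpa using hn
  · rintro ⟨_ | _, m⟩ _ ⟨_ | _, n⟩ _ e <;> simp at e <;> rw [e]
  · rintro (n | n) hn
    · exact ⟨(false, n), by simpa using hn, rfl⟩
    · exact ⟨(true, n), by simpa using hn, rfl⟩

variable (K : h.Kind ε r)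
include K

theorem ρ_fun (i : Fin 8 × Fin 6) : (h.ρ (r i) : Fin 8 → Fin 8) = el8 ε i := funext (K.spec i)

theorem cosetCount_conj_rep {i i₀ j : Fin 8 × Fin 6}
    (e : ∀ n, el8 ε j (el8 ε i₀ n) = el8 ε i (el8 ε j n)) :
    cosetCount t (eG t p z a) (r i : G) = cosetCount t (eG t p z a) (r i₀ : G) := by
  have e1 : ∀ n, h.ρ (r i) n = h.ρ (r j * r i₀ * (r j)⁻¹) n := by
    intro n
    have hn : h.ρ (r j) ((h.ρ (r j))⁻¹ n) = n := Equiv.apply_symm_apply _ _
    conv_lhs => rw [← hn]
    rw [map_mul, map_mul, map_inv, Equiv.Perm.mul_apply, Equiv.Perm.mul_apply]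
    simp only [K.spec]
    exact (e _).symm
  rw [h.cosetCount_ρ e1]
  exact cosetCount_conj t _ (fun x => cmap_mem_iff (r j).2 x) _

theorem predSet_count (P : (Fin 8 → Fin 8) → Bool) :
    conjCount t (h.predSet P) = ∑ i ∈ Finset.univ.filter (fun i =>
      P (el8 ε i) = true ∧ invF (el8 ε i) = true), cosetCount t (eG t p z a) (r i : G) := by
  classical
  set F := (Finset.univ.filter fun i => P (el8 ε i) = true ∧ invF (el8 ε i) = true)
  let lift : Equiv.Perm (Fin 8) → G := fun x =>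
    if hx : ∃ g, h.ρ g = x then (Classical.choose hx : normalizer (eG t p z a : Set G)) else 1
  have hl : ∀ i, ∃ hm : lift (h.ρ (r i)) ∈ normalizer (eG t p z a : Set G),
      h.ρ ⟨_, hm⟩ = h.ρ (r i) := by
    intro i
    have hx : ∃ g, h.ρ g = h.ρ (r i) := ⟨r i, rfl⟩
    have he : lift (h.ρ (r i)) = ((Classical.choose hx : normalizer (eG t p z a : Set G)) : G) :=
      dif_pos hx
    simp only [he]
    exact ⟨(Classical.choose hx).2, Classical.choose_spec hx⟩
  rw [conjCount_eq_sum h.ρ h.ker_ρ Subgroup.le_normalizer t (h.predSet P)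
    (F.image fun i => h.ρ (r i)) lift]
  · rw [Finset.sum_image fun i _ j _ e => el8_inj ε i j fun n => by
      rw [← K.spec, ← K.spec, e]]
    refine Finset.sum_congr rfl fun i _ => ?_
    obtain ⟨hm, e⟩ := hl i
    exact h.cosetCount_ρ (g := ⟨_, hm⟩) fun n => by rw [e]
  · intro x hx
    obtain ⟨i, -, rfl⟩ := Finset.mem_image.mp hx
    exact hl i
  · intro s hs
    have h2 := h.sq_of_K hs
    obtain ⟨i, hi⟩ := K.cover s
    have hfun : (h.ρ s : Fin 8 → Fin 8) = el8 ε i := funext hi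
    have hinv : invF (el8 ε i) = true := by
      rw [invF, decide_eq_true_eq, ← hfun]
      intro n
      rw [← Equiv.Perm.mul_apply, ← map_mul, show s * s = 1 from Subtype.ext h2, map_one,
        Equiv.Perm.one_apply]
    have e : h.ρ s = h.ρ (r i) := Equiv.ext fun n => by rw [hi, K.spec]
    constructor
    · rintro ⟨hg, hP⟩
      refine Finset.mem_image.mpr ⟨i, Finset.mem_filter.mpr ⟨Finset.mem_univ _, ?_, hinv⟩, e.symm⟩
      rw [← hfun]; exact hP
    · intro hm
      obtain ⟨j, hj, ej⟩ := Finset.mem_image.mp hm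
      refine ⟨s.2, ?_⟩
      have := (Finset.mem_filter.mp hj).2.1
      rw [← h.ρ_fun K j, ej] at this
      exact this
  · rintro g ⟨hg, -⟩; exact hg

theorem dvd_count (h8 : h.Eight) (P : (Fin 8 → Fin 8) → Bool)
    (hP : ∀ i j, P (fun n => el8 ε i (el8 ε j n)) = xor (P (el8 ε i)) (P (el8 ε j)))
    (w : Fin 8 × Fin 6) (hw : P (el8 ε w) = true) : 16 ∣ conjCount t (h.predSet P) := by
  have B := h.toBase
  have key : ∀ g g' : normalizer (eG t p z a : Set G),
      P (h.ρ (g * g')) = xor (P (h.ρ g)) (P (h.ρ g')) := by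
    intro g g'
    obtain ⟨i, hi⟩ := K.cover g
    obtain ⟨j, hj⟩ := K.cover g'
    rw [show (h.ρ (g * g') : Fin 8 → Fin 8) = fun n => el8 ε i (el8 ε j n) from funext fun n => by
        rw [map_mul, Equiv.Perm.mul_apply, hj, hi],
      show (h.ρ g : Fin 8 → Fin 8) = el8 ε i from funext hi,
      show (h.ρ g' : Fin 8 → Fin 8) = el8 ε j from funext hj]
    exact hP i j
  have h1 : P (h.ρ (1 : normalizer (eG t p z a : Set G))) = false := by
    have := key 1 1
    rw [one_mul] at this
    revert this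
    cases P (h.ρ (1 : normalizer (eG t p z a : Set G))) <;> simp
  have hwP : P (h.ρ (r w)) = true := by rw [h.ρ_fun K]; exact hw
  let N : Subgroup G :=
    { carrier := {g | ∃ hg : g ∈ (normalizer (eG t p z a : Set G)), P (h.ρ ⟨g, hg⟩) = false}
      one_mem' := ⟨one_mem _, h1⟩
      mul_mem' := fun {u v} ⟨hu, hu'⟩ ⟨hv, hv'⟩ => ⟨mul_mem hu hv, by
        rw [show (⟨u * v, mul_mem hu hv⟩ : (normalizer (eG t p z a : Set G))) = ⟨u, hu⟩ * ⟨v, hv⟩ from rfl, key, hu', hv']; rfl⟩
      inv_mem' := fun {u} ⟨hu, hu'⟩ => ⟨inv_mem hu, by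
        have := key ⟨u, hu⟩⁻¹ ⟨u, hu⟩
        rw [inv_mul_cancel, h1, hu', Bool.xor_false] at this
        exact this.symm⟩ }
  have hN : N ≤ (normalizer (eG t p z a : Set G)) := fun g ⟨hg, _⟩ => hg
  have hwN : (r w : G) ∉ N := fun ⟨hg, e⟩ => by
    rw [show (⟨(r w : G), hg⟩ : (normalizer (eG t p z a : Set G))) = r w from rfl, hwP] at e
    exact Bool.noConfusion e
  have hcard : Nat.card (normalizer (eG t p z a : Set G)) = 2 * Nat.card N := by
    refine card_eq_two_mul hN (r w).2 hwN fun g hg => ?_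
    cases hgP : P (h.ρ ⟨g, hg⟩)
    · exact Or.inl ⟨hg, hgP⟩
    · refine Or.inr ⟨mul_mem (inv_mem (r w).2) hg, ?_⟩
      rw [show (⟨(r w : G)⁻¹ * g, mul_mem (inv_mem (r w).2) hg⟩ : (normalizer (eG t p z a : Set G))) = (r w)⁻¹ * ⟨g, hg⟩ from rfl]
      have e := key (r w) ((r w)⁻¹ * ⟨g, hg⟩)
      rw [mul_inv_cancel_left, hgP, hwP] at e
      revert e
      cases P (h.ρ ((r w)⁻¹ * ⟨g, hg⟩)) <;> simp
  have hset : ((normalizer (eG t p z a : Set G) : Subgroup G) : Set G) \ (N : Set G) = h.predSet P := by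
    ext g
    constructor
    · rintro ⟨hg, hgN⟩
      refine ⟨hg, ?_⟩
      cases hgP : P (h.ρ ⟨g, hg⟩)
      · exact absurd ⟨hg, hgP⟩ hgN
      · rfl
    · rintro ⟨hg, hgP⟩
      refine ⟨hg, fun ⟨_, e⟩ => ?_⟩
      rw [hgP] at e
      exact Bool.noConfusion e
  have horb : (h.orb 0).card = 8 := by
    rw [show h.orb 0 = Finset.univ from Finset.eq_univ_of_forall fun v => h8 v]
    rfl
  have hH : Nat.card (normalizer (eG t p z a : Set G)) = 768 := by rw [h.card_orb 0, horb]
  have hd := two_mul_card_dvd B.no B.t2 hN hcard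
  rw [hset, hH] at hd
  obtain ⟨m, hm, hC⟩ := B.card
  rw [hC] at hd
  obtain ⟨d, hd⟩ := hd
  have h16 : 16 ∣ m * conjCount t (h.predSet P) := ⟨3 * d, by
    have : 32 * (m * conjCount t (h.predSet P)) = 32 * (16 * (3 * d)) := by
      rw [← mul_assoc, hd]; ring
    exact Nat.eq_of_mul_eq_mul_left (by norm_num) this⟩
  exact (((Nat.coprime_two_left.mpr hm).pow_left 4)).dvd_of_dvd_mul_left h16

theorem count_odd : conjCount t (h.predSet oddF) =
    6 * cosetCount t (eG t p z a) (r (0, 3) : G) + 6 * cosetCount t (eG t p z a) (r (6, 3) : G) := by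
  rw [h.predSet_count K oddF, odd_split ε, Finset.sum_union (odd_disj ε),
    Finset.sum_congr rfl (fun i hi => (conj_R0 ε i hi).elim fun j e => h.cosetCount_conj_rep K e),
    Finset.sum_congr rfl (fun i hi => (conj_R1 ε i hi).elim fun j e => h.cosetCount_conj_rep K e),
    Finset.sum_const, Finset.sum_const, (card_sets ε).1, (card_sets ε).2.1, smul_eq_mul,
    smul_eq_mul]

theorem count_swap : conjCount t (h.predSet (swapF ε)) =
    6 * cosetCount t (eG t p z a) (r (6, 3) : G) + (cosetCount t (eG t p z a) (r (6, 0) : G) +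
      3 * cosetCount t (eG t p z a) (r (repD ε) : G)) := by
  rw [h.predSet_count K (swapF ε), swap_split ε, Finset.sum_union (swap_disj ε),
    Finset.sum_insert (swap_notmem ε),
    Finset.sum_congr rfl (fun i hi => (conj_R1 ε i hi).elim fun j e => h.cosetCount_conj_rep K e),
    Finset.sum_congr rfl (fun i hi => (conj_D ε i hi).elim fun j e => h.cosetCount_conj_rep K e),
    Finset.sum_const, Finset.sum_const, (card_sets ε).2.1, (card_sets ε).2.2, smul_eq_mul,
    smul_eq_mul]

/-- The coset of `q` contains exactly the four conjugates `tqw`. -/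
theorem count_q : cosetCount t (eG t p z a) (r (0, 3) : G) = 4 := by
  have B := h.toBase
  have hqN := B.q_mem_normC.1
  have hqt : q * t * q⁻¹ = t * uAt p z a 0 := by
    rw [B.uAt_vals.1, mul_one]; exact conj_of_comm' B.left.tq.symm
  have hρ : ∀ n, h.ρ ⟨q, hqN⟩ n = el8 ε (0, 3) n := fun n => by
    rw [h.ρ_of_action hqN hqt B.conj_q_uAt, zero_xr]
    exact (by decide +kernel : ∀ ε, ∀ n : Fin 8, lin 3 2 4 n = el8 ε (0, 3) n) ε n
  rw [h.cosetCount_ρ (g' := ⟨q, hqN⟩) fun n => by rw [K.spec, hρ]]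
  rw [h.cosetCount_eq q {(true, 0), (true, 2), (true, 4), (true, 6)} fun i => ?_]
  · rfl
  rcases i with ⟨_ | _, n⟩
  · refine iff_of_false (by simp) (h.nK_M ?_)
    exact mul_mem (mem_sup_right (mem_zpowers q))
      (Base.uG_le_mG (B.left.mem_uG.mpr (B.left.mem_uList_iff.mpr ⟨n, rfl⟩)))
  · have e : q * eElt t p z a (true, n) = t * (q * uAt p z a n) := by
      rw [eElt, if_pos rfl, eightPts, ← mul_assoc, B.left.tq.symm, mul_assoc]
    have hmM : q * uAt p z a n ∈ mG p q z a := mul_mem (mem_sup_right (mem_zpowers q))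
      (Base.uG_le_mG (B.left.mem_uG.mpr (B.left.mem_uList_iff.mpr ⟨n, rfl⟩)))
    have hiff : q * uAt p z a n * (q * uAt p z a n) = 1 ↔ lin 3 2 4 n = n := by
      have e2 : q * uAt p z a n * (q * uAt p z a n) =
          q * uAt p z a n * q⁻¹ * (q * q * uAt p z a n) := by group
      rw [e2, B.conj_q_uAt, B.right.p2, one_mul, B.left.uAt_mul]
      constructor
      · intro e'
        rw [← B.uAt_vals.1] at e'
        exact (by decide : ∀ i j : Fin 8, xr i j = 0 → i = j) _ _ (B.left.uAt_inj e')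
      · intro e'
        rw [e', xr_self, B.uAt_vals.1]
    have hmem : ((true, n) : Bool × Fin 8) ∈
        ({(true, 0), (true, 2), (true, 4), (true, 6)} : Finset (Bool × Fin 8)) ↔
          lin 3 2 4 n = n := (by decide +kernel : ∀ n : Fin 8, ((true, n) : Bool × Fin 8) ∈
        ({(true, 0), (true, 2), (true, 4), (true, 6)} : Finset (Bool × Fin 8)) ↔
          lin 3 2 4 n = n) n
    rw [hmem, e]
    constructor
    · exact fun hn => h.K_tM hmM (hiff.mpr hn)
    · intro hK
      refine hiff.mp ?_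
      have h2 := h.sq_of_K hK
      rwa [(show Commute (q * uAt p z a n) t from (B.t_comm_m hmM).symm).mul_mul_mul_comm,
        B.t2, one_mul] at h2

end BCfg

end Cfsg.Agent.InvolTimesSym
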