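import Cfsg.Agent.Lib.InvolTimesSym.BCommon

/-!
# The transitive case: definitions

`Pure`: elements of `N(T)` fix `p` up to `z`.  `Mixed`: the only configuration surviving the counts
on `N(E)` alone; it is excluded by counting on the stabiliser of four octets.
-/

set_option autoImplicit false

namespace Cfsg.Agent.InvolTimesSym

open Subgroup

variable {G : Type*} [Group G]

/-- Elements of `N(T)` fix `p` up to `z`. -/
def Pure (t p q a z : G) : Prop :=
  ∀ g, cmap g (tG t p q z a) = tG t p q z a → g * p * g⁻¹ = p ∨ g * p * g⁻¹ = p * z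

/-- `g` induces an odd permutation of the basis `p, pz, a`. -/
def OddU (p z a g : G) : Prop :=
  ∃ k : Fin 6, 3 ≤ k.val ∧ ∀ n, g * uAt p z a n * g⁻¹ = uAt p z a (cMap k n)

variable [Finite G] {t p q a b z σ τ : G}

/-- The mixed configuration. -/
structure Mixed (h : BCfg t p q a b z σ τ) (s x : G) : Prop where
  eight : h.Eight
  pure : Pure t p q a z
  sK : IsConj t s
  sM : ∀ m ∈ mG p q z a, s * m = m * s
  st : s * t * s⁻¹ = t * a
  sT : cmap s (tG t p q z a) = tG t p q z a
  xK : ¬ IsConj t x
  x2 : x * x = 1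
  xU : ∀ n, x * uAt p z a n = uAt p z a n * x
  xt : x * t * x⁻¹ = t * b
  xq : x * q * x⁻¹ = q * b
  xT : cmap x (tG t p q z a) = tG t p q z a
  yK : IsConj t (x * (t * q))
  odd48 : conjCount t {g | g ∈ normalizer (eG t p z a : Set G) ∧ OddU p z a g} = 48

end Cfsg.Agent.InvolTimesSym
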