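import Cfsg.Agent.Lib.InvolTimesSym.BEightCU
import Cfsg.Agent.Lib.InvolTimesSym.BFourSetup

/-!
# The mixed configuration: the four octets and the element carrying `t` to `s`
-/

set_option autoImplicit false

namespace Cfsg.Agent.InvolTimesSym

open Subgroup

variable {G : Type*} [Group G] [Finite G] {t p q a b z σ τ s x : G}

/-- The representatives of the four octets. -/
def octRep (t q σ s : G) : Fin 4 → G := ![t, s, σ * s * σ⁻¹, q * (σ * s * σ⁻¹) * q⁻¹]

namespace BCfg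

variable (h : BCfg t p q a b z σ τ)
include h

theorem uAt_mem_mG (n : Fin 8) : uAt p z a n ∈ mG p q z a :=
  Base.uG_le_mG (h.toBase.left.mem_uG.mpr (h.toBase.left.mem_uList_iff.mpr ⟨n, rfl⟩))

omit [Finite G] h in
theorem q_mem_mG : q ∈ mG p q z a := mem_sup_right (mem_zpowers q)

omit [Finite G] in
/-- An element normalising `U` normalises its centraliser. -/
theorem cU_conj {g y : G} (hg : ∀ n, ∃ m, g * uAt p z a n * g⁻¹ = uAt p z a m)
    (hy : y ∈ cU p z a) : g * y * g⁻¹ ∈ cU p z a := by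
  choose f hf using hg
  have hinj : Function.Injective f := fun m n e =>
    h.toBase.left.uAt_inj (mul_left_cancel (mul_right_cancel
      ((hf m).trans ((congrArg (uAt p z a) e).trans (hf n).symm))))
  refine mem_cU.mpr fun k => ?_
  obtain ⟨n, rfl⟩ := (Finite.injective_iff_surjective.mp hinj) k
  rw [← hf n]
  calc g * y * g⁻¹ * (g * uAt p z a n * g⁻¹) = g * (y * uAt p z a n) * g⁻¹ := by group
    _ = g * (uAt p z a n * y) * g⁻¹ := by rw [mem_cU.mp hy n]
    _ = g * uAt p z a n * g⁻¹ * (g * y * g⁻¹) := by group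

omit [Finite G] h in
/-- Transport of a displacement. -/
theorem lab_conj {g r w w' : G} {n n' : Fin 8} (hw : g * w * g⁻¹ = w')
    (hn : g * uAt p z a n * g⁻¹ = uAt p z a n') (e : r * w * r⁻¹ = w * uAt p z a n) :
    g * r * g⁻¹ * w' * (g * r * g⁻¹)⁻¹ = w' * uAt p z a n' := by
  calc g * r * g⁻¹ * w' * (g * r * g⁻¹)⁻¹ = g * (r * w * r⁻¹) * g⁻¹ := by rw [← hw]; group
    _ = g * w * g⁻¹ * (g * uAt p z a n * g⁻¹) := by rw [e]; group
    _ = _ := by rw [hw, hn]

namespace MixedFacts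

variable (M : Mixed h s x)
include M

theorem s_mem : s ∈ cU p z a := mem_cU.mpr fun n => M.sM _ (by
  exact Base.uG_le_mG (by
    unfold uAt
    exact mul_mem (mul_mem (pow_mem Side.p_mem _) (pow_mem Side.z_mem _)) (pow_mem Side.a_mem _)))

theorem x_mem : x ∈ cU p z a := mem_cU.mpr M.xU

theorem t_conj : s * t * s⁻¹ = t * uAt p z a 4 := by rw [M.st, h.toBase.uAt_vals.2.2.2.2.1]

theorem x_conj : x * t * x⁻¹ = t * uAt p z a 6 := by
  rw [M.xt, h.toBase.uAt_vals.2.2.2.2.2.2.1]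

theorem rep_K : ∀ i, IsConj t (octRep t q σ s i) := by
  intro i
  fin_cases i
  · exact IsConj.refl t
  · exact M.sK
  · exact (isConj_conj t σ s).mpr M.sK
  · exact (isConj_conj t q _).mpr ((isConj_conj t σ s).mpr M.sK)

theorem rep_mem : ∀ i, octRep t q σ s i ∈ cU p z a := by
  intro i
  have h2 : σ * s * σ⁻¹ ∈ cU p z a :=
    h.cU_conj (fun n => ⟨_, h.toBase.conj_σ_uAt n⟩) (s_mem h M)
  fin_cases i
  exacts [h.t_mem_cU, s_mem h M, h2, h.cU_conj (fun n => ⟨_, h.toBase.conj_q_uAt n⟩) h2]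

theorem rep_lab : ∀ i, octRep t q σ s i * t * (octRep t q σ s i)⁻¹ =
    t * uAt p z a (octL 0 i) := by
  intro i
  have hσ : σ * t * σ⁻¹ = t := conj_of_comm' h.toBase.left.tσ.symm
  have hq : q * t * q⁻¹ = t := conj_of_comm' h.toBase.left.tq.symm
  have h2 := lab_conj hσ (h.toBase.conj_σ_uAt 4) (t_conj h M)
  fin_cases i
  · change t * t * t⁻¹ = t * uAt p z a 0
    rw [h.toBase.uAt_vals.1, mul_inv_cancel_right, mul_one]
  · exact t_conj h M
  · exact h2
  · exact lab_conj hq (h.toBase.conj_q_uAt _) h2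

/-- `q` exchanges the last two representatives and fixes `x` up to `b`. -/
theorem q_facts : q * s * q⁻¹ = s ∧
    q * (q * (σ * s * σ⁻¹) * q⁻¹) * q⁻¹ = σ * s * σ⁻¹ ∧ q * x * q⁻¹ = x * uAt p z a 6 := by
  have hq2 := h.toBase.right.p2
  refine ⟨conj_of_comm' (M.sM q q_mem_mG).symm, ?_, ?_⟩
  · calc q * (q * (σ * s * σ⁻¹) * q⁻¹) * q⁻¹ = q * q * (σ * s * σ⁻¹) * (q * q)⁻¹ := by group
      _ = _ := by rw [hq2, one_mul, inv_one, mul_one]
  · have e : x * q = q * b * x := by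
      rw [← M.xq]; group
    rw [inv_of_sq hq2, mul_assoc, e, ← mul_assoc q, ← mul_assoc q, hq2, one_mul,
      ← h.toBase.uAt_vals.2.2.2.2.2.2.1, M.xU 6]

/-- An element of `C(s)` normalising `⟨s⟩M` does not move `q` by `b`. -/
theorem no_move {y : G} (hs : y * s = s * y)
    (hM : ∀ m ∈ mG p q z a, y * m * y⁻¹ ∈ mG p q z a ⊔ zpowers s) : y * q * y⁻¹ ≠ q * b := by
  intro hq
  have B := h.toBase
  have hsM : s ∉ mG p q z a := fun hh => h.nK_M hh M.sK
  have hss : s * s ∈ mG p q z a := by rw [h.sq_of_K M.sK]; exact one_mem _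
  have hn : ∀ m ∈ mG p q z a, s * m * s⁻¹ ∈ mG p q z a := fun m hm => by
    rw [M.sM m hm, mul_inv_cancel_right]; exact hm
  set Ts := mG p q z a ⊔ zpowers s
  have hle : Ts ≤ centralizer ({s} : Set G) :=
    sup_le (fun m hm => mem_centralizer_singleton_iff.mpr (M.sM m hm).symm)
      (zpowers_le.mpr (mem_centralizer_singleton_iff.mpr rfl))
  obtain ⟨g, hg, hgT⟩ := B.sylow_adjust M.sK hle
    (by rw [card_sup_zpowers hsM hss hn, B.card_mG])
  have hyT : cmap y Ts = Ts := by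
    refine eq_of_card ?_ (card_cmap _ _)
    have h1 : Ts ≤ cmap y⁻¹ Ts := by
      refine sup_le (fun m hm => ?_) (zpowers_le.mpr ?_) <;> rw [mem_cmap, inv_inv]
      · exact hM m hm
      · rw [hs, mul_inv_cancel_right]; exact mem_sup_right (mem_zpowers s)
    intro w hw
    have := cmap_mono (g := y) h1 hw
    rwa [← cmap_mul, mul_inv_cancel, cmap_one] at this
  have hyin : y ∈ Ts := by
    have hc : g⁻¹ * y * g * t = t * (g⁻¹ * y * g) := by
      rw [← hg] at hs
      simpa [mul_assoc] using congrArg (fun v => g⁻¹ * v * g) hs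
    have hcm : cmap (g⁻¹ * y * g) (tG t p q z a) = tG t p q z a := by
      rw [cmap_mul, cmap_mul, hgT, hyT, ← hgT, ← cmap_mul, inv_mul_cancel, cmap_one]
    have h2 := conj_mem_cmap (g := g) (B.normC_T hc hcm)
    rw [hgT] at h2
    simpa [mul_assoc] using h2
  have hqm : ∀ m ∈ mG p q z a, m * q * m⁻¹ = q ∨ m * q * m⁻¹ = q * z := fun m hm =>
    conj_of_squares (fun v hv => B.sq_mem hv) B.left.z2 B.central_z (Base.mG_le_tG hm)
      (Base.mG_le_tG q_mem_mG)
  have hcases : y * q * y⁻¹ = q ∨ y * q * y⁻¹ = q * z := by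
    rcases (mem_sup_zpowers hss hn).mp hyin with e | e
    · exact hqm y e
    · have e2 : y * q * y⁻¹ = s * ((s⁻¹ * y) * q * (s⁻¹ * y)⁻¹) * s⁻¹ := by group
      rw [e2]
      refine (hqm _ e).imp (fun e' => ?_) fun e' => ?_ <;> rw [e']
      · exact conj_of_comm' (M.sM q q_mem_mG)
      · exact conj_of_comm' (M.sM _ (mul_mem q_mem_mG (Base.uG_le_mG Side.z_mem)))
  rw [hq, ← B.uAt_vals.2.2.2.2.2.2.1] at hcases
  rcases hcases with e | e
  · exact h.uAt_ne_one (n := 6) (by decide) (mul_eq_left.mp e)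
  · exact absurd (B.left.uAt_inj ((mul_left_cancel e).trans B.uAt_vals.2.2.1.symm)) (by decide)

/-- `x` moves `s` by `b`. -/
theorem s_x : x * s * x⁻¹ = s * uAt p z a 6 := by
  have B := h.toBase
  obtain ⟨hqs, hq1, hqx⟩ := q_facts h M
  set s₁ := σ * s * σ⁻¹
  set s₂ := q * s₁ * q⁻¹
  have m1 : s₁ ∈ cU p z a := rep_mem h M 2
  have m2 : s₂ ∈ cU p z a := rep_mem h M 3
  have ms := s_mem h M
  have mx := x_mem h M
  have e12 := h.lab_mul m1 (rep_lab h M 2) (rep_lab h M 3)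
  have esx := h.lab_mul ms (t_conj h M) (x_conj h M)
  rw [show xr 4 6 = xr (octL 0 2) (octL 0 3) from by decide] at esx
  change s₁ * s₂ * t * (s₁ * s₂)⁻¹ = _ at e12
  obtain ⟨m, hm⟩ := h.coset_cases (IsConj.refl t) h.t_mem_cU (mul_mem ms mx) (mul_mem m1 m2)
    esx e12
  have hqinv : q * (s₁ * s₂) * q⁻¹ = (s₁ * s₂)⁻¹ := by
    have k1 : s₁⁻¹ = s₁ := inv_of_sq (h.sq_of_K (rep_K h M 2))
    have k2 : s₂⁻¹ = s₂ := inv_of_sq (h.sq_of_K (rep_K h M 3))
    rw [conj_prod, mul_inv_rev, k1, k2, hq1]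
  have hqu := B.conj_q_uAt m
  have hsx : Commute s (uAt p z a m) := mem_cU.mp ms m
  have hxu : Commute x (uAt p z a m) := M.xU m
  have hsinv := inv_of_sq (h.sq_of_K M.sK)
  have hxinv := inv_of_sq M.x2
  -- `x s = s x U k`
  obtain ⟨k, hk, hks⟩ : ∃ k, (k = 6 ∨ k = 4) ∧ x * s = s * x * uAt p z a k := by
    rcases hm with hm | hm
    · refine ⟨xr 6 (xr (lin 3 2 4 m) m),
        (by decide : ∀ m, xr 6 (xr (lin 3 2 4 m) m) = 6 ∨ xr 6 (xr (lin 3 2 4 m) m) = 4) m, ?_⟩
      have e1 : uAt p z a m * (x * s) = s * x * uAt p z a (xr 6 (lin 3 2 4 m)) := by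
        have l : q * (s₁ * s₂) * q⁻¹ = s * x * uAt p z a (xr 6 (lin 3 2 4 m)) := by
          rw [hm, conj_prod, conj_prod, hqs, hqx, hqu, ← B.left.uAt_mul]; group
        rw [← l, hqinv, hm, mul_inv_rev, mul_inv_rev, h.uAt_inv, hsinv, hxinv]
      have e2 : x * s = uAt p z a m * (x * s) * uAt p z a m := by
        rw [← (hxu.mul_left hsx).eq, mul_assoc, h.uAt_sq, mul_one]
      rw [e2, e1, mul_assoc, B.left.uAt_mul, xr_assoc]
    · refine ⟨xr (xr 6 (lin 3 2 4 m)) (xr m (xr 4 6)),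
        (by decide : ∀ m, xr (xr 6 (lin 3 2 4 m)) (xr m (xr 4 6)) = 6 ∨
          xr (xr 6 (lin 3 2 4 m)) (xr m (xr 4 6)) = 4) m, ?_⟩
      have hqt : q * t * q⁻¹ = t := conj_of_comm' B.left.tq.symm
      have htU : ∀ n, Commute t (uAt p z a n) := fun n => mem_cU.mp h.t_mem_cU n
      have l : q * (s₁ * s₂) * q⁻¹ = s * x * uAt p z a (xr 6 (lin 3 2 4 m)) * t := by
        rw [hm, conj_prod, conj_prod, conj_prod, hqs, hqx, hqt, hqu, ← B.left.uAt_mul]
        calc s * (x * uAt p z a 6) * t * uAt p z a (lin 3 2 4 m)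
            = s * x * uAt p z a 6 * (t * uAt p z a (lin 3 2 4 m)) := by group
          _ = _ := by rw [(htU _).eq]; group
      have htx : t * x = x * (t * uAt p z a 6) := by
        rw [← x_conj h M, hxinv, ← mul_assoc, ← mul_assoc, M.x2, one_mul]
      have hts : t * s = s * (t * uAt p z a 4) := by
        rw [← t_conj h M, hsinv, ← mul_assoc, ← mul_assoc, h.sq_of_K M.sK, one_mul]
      have hb : Commute (uAt p z a 6) s := (mem_cU.mp ms 6).symm
      have e1 : (s₁ * s₂)⁻¹ = x * s * uAt p z a (xr m (xr 4 6)) * t := by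
        rw [hm, mul_inv_rev, mul_inv_rev, mul_inv_rev, h.uAt_inv, inv_of_sq B.t2, hsinv, hxinv]
        calc uAt p z a m * (t * (x * s)) = uAt p z a m * (t * x) * s := by group
          _ = uAt p z a m * (x * t * (uAt p z a 6 * s)) := by rw [htx]; group
          _ = uAt p z a m * (x * t * (s * uAt p z a 6)) := by rw [hb.eq]
          _ = uAt p z a m * (x * (t * s) * uAt p z a 6) := by group
          _ = (uAt p z a m * (x * s)) * t * (uAt p z a 4 * uAt p z a 6) := by rw [hts]; group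
          _ = x * s * (uAt p z a m * (t * uAt p z a (xr 4 6))) := by
            rw [← (hxu.mul_left hsx).eq, B.left.uAt_mul]; group
          _ = x * s * (uAt p z a m * uAt p z a (xr 4 6) * t) := by rw [(htU _).eq]; group
          _ = _ := by rw [B.left.uAt_mul]; group
      have e3 := e1.symm.trans (hqinv.symm.trans l)
      have e4 := congrArg (· * uAt p z a (xr m (xr 4 6))) (mul_right_cancel e3)
      simp only [mul_assoc, h.uAt_sq, mul_one, B.left.uAt_mul] at e4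
      rw [mul_assoc]; exact e4
  have hxs : x * s * x⁻¹ = s * uAt p z a k := by
    rw [hks, mul_assoc s, M.xU k]; group
  rcases hk with rfl | rfl
  · exact hxs
  exfalso
  refine no_move h M (y := x * (t * q)) ?_ ?_ ?_
  · refine comm_of_conj ?_
    have et : t * s * t⁻¹ = s * uAt p z a 4 := by
      refine conj_eq_of_sq (h.sq_of_K M.sK) B.t2 ?_
      calc s * t * (s * t) = s * (t * s * (t * s)) * s⁻¹ := by group
        _ = uAt p z a 4 := by
          rw [sq_of_conj_eq B.t2 (h.sq_of_K M.sK) (t_conj h M), conj_of_comm' (mem_cU.mp ms 4)]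
    calc x * (t * q) * s * (x * (t * q))⁻¹ = x * (t * (q * s * q⁻¹) * t⁻¹) * x⁻¹ := by group
      _ = x * s * x⁻¹ * (x * uAt p z a 4 * x⁻¹) := by rw [hqs, et]; group
      _ = s := by rw [hxs, conj_of_comm' (M.xU 4), mul_assoc, h.uAt_sq, mul_one]
  · intro v hv
    have hxv := h.conj_M M.xT
    refine mem_sup_left ?_
    have e1 : t * (q * v * q⁻¹) * t⁻¹ = q * v * q⁻¹ :=
      conj_of_comm' (B.t_comm_m (mul_mem (mul_mem q_mem_mG hv) (inv_mem q_mem_mG)))
    have e2 : x * (t * q) * v * (x * (t * q))⁻¹ = x * (q * v * q⁻¹) * x⁻¹ := by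
      calc x * (t * q) * v * (x * (t * q))⁻¹ = x * (t * (q * v * q⁻¹) * t⁻¹) * x⁻¹ := by group
        _ = _ := by rw [e1]
    rw [e2, ← hxv]
    exact conj_mem_cmap (mul_mem (mul_mem q_mem_mG hv) (inv_mem q_mem_mG))
  · calc x * (t * q) * q * (x * (t * q))⁻¹ = x * (t * q * t⁻¹) * x⁻¹ := by group
      _ = _ := by rw [conj_of_comm' B.left.tq, M.xq]

/-- The four representatives and `x`. -/
theorem data : OctData h (octRep t q σ s) x := by
  have B := h.toBase
  set s₁ := σ * s * σ⁻¹ with hs1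
  set s₂ := q * s₁ * q⁻¹ with hs2
  have k1 := rep_K h M 2
  have k2 := rep_K h M 3
  have m1 : s₁ ∈ cU p z a := rep_mem h M 2
  have m2 : s₂ ∈ cU p z a := rep_mem h M 3
  have ms := s_mem h M
  have mx := x_mem h M
  have hts := h.sq_of_K M.sK
  have qsx : s * x * (s * x) = uAt p z a 6 := sq_of_conj_eq hts M.x2 (s_x h M)
  have qtx : t * x * (t * x) = uAt p z a 6 := sq_of_conj_eq B.t2 M.x2 (x_conj h M)
  have qt : ∀ i, t * octRep t q σ s i * (t * octRep t q σ s i) = uAt p z a (octL 0 i) := fun i =>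
    sq_of_conj_eq B.t2 (h.sq_of_K (rep_K h M i)) (rep_lab h M i)
  have hrev : ∀ {v w : G} {n : Fin 8}, v * v = 1 → w * w = 1 →
      v * w * (v * w) = uAt p z a n → w * v * (w * v) = uAt p z a n := by
    intro v w n hv hw e
    rw [← h.uAt_inv n, ← e, mul_inv_rev, mul_inv_rev, inv_of_sq hv, inv_of_sq hw]
  -- the commutator of the last two
  obtain ⟨c, hc, hc12⟩ : ∃ c, (c = 6 ∨ c = 4) ∧ s₁ * s₂ * (s₁ * s₂) = uAt p z a c := by
    have e12 := h.lab_mul m1 (rep_lab h M 2) (rep_lab h M 3)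
    have esx := h.lab_mul ms (t_conj h M) (x_conj h M)
    rw [show xr 4 6 = xr (octL 0 2) (octL 0 3) from by decide] at esx
    change s₁ * s₂ * t * (s₁ * s₂)⁻¹ = _ at e12
    obtain ⟨m, hm | hm⟩ := h.coset_cases (IsConj.refl t) h.t_mem_cU (mul_mem ms mx) (mul_mem m1 m2)
      esx e12
    · exact ⟨6, Or.inl rfl, by rw [hm, h.sq_mul_u (mul_mem ms mx), qsx]⟩
    · refine ⟨4, Or.inr rfl, ?_⟩
      rw [hm, h.sq_mul_u (mul_mem (mul_mem ms mx) h.t_mem_cU),
        h.sq_three mx hts M.x2 B.t2 qsx (hrev B.t2 hts (qt 1)) (hrev B.t2 M.x2 qtx)]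
      congr 1
  -- the action of `σ`
  have hσt : σ * t * σ⁻¹ = t := conj_of_comm' B.left.tσ.symm
  obtain ⟨m₁, hσ1⟩ : ∃ m, σ * s₁ * σ⁻¹ = s₂ * uAt p z a m := h.same_oct
    (show octL 0 3 ≠ 0 by decide) (IsConj.refl t) h.t_mem_cU k2 m2 ((isConj_conj t σ _).mpr k1)
    (h.cU_conj (fun n => ⟨_, B.conj_σ_uAt n⟩) m1) (rep_lab h M 3)
    (lab_conj hσt (B.conj_σ_uAt _) (rep_lab h M 2))
  obtain ⟨m₂, hσ2⟩ : ∃ m, σ * s₂ * σ⁻¹ = s * uAt p z a m := h.same_oct
    (show (4 : Fin 8) ≠ 0 by decide) (IsConj.refl t) h.t_mem_cU M.sK ms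
    ((isConj_conj t σ _).mpr k2) (h.cU_conj (fun n => ⟨_, B.conj_σ_uAt n⟩) m2) (t_conj h M)
    (lab_conj hσt (B.conj_σ_uAt _) (rep_lab h M 3))
  -- back along `σ`
  have hback : ∀ {v : G} {n : Fin 8}, σ * v * σ⁻¹ = uAt p z a (lin 3 7 1 n) → v = uAt p z a n :=
    fun e => mul_left_cancel (mul_right_cancel (e.trans (B.conj_σ_uAt _).symm))
  obtain ⟨d, rfl⟩ : ∃ d, lin 3 7 1 d = c := (by decide : ∀ c, ∃ d, lin 3 7 1 d = c) c
  have hs_s1 : s * s₁ * (s * s₁) = uAt p z a d := by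
    apply hback
    rw [← sq_conj, conj_prod, hσ1, ← hs1,
      show s₁ * (s₂ * uAt p z a m₁) = s₁ * s₂ * uAt p z a m₁ from (mul_assoc _ _ _).symm,
      h.sq_mul_u (mul_mem m1 m2), hc12]
  obtain ⟨rfl⟩ : d = 3 := by
    rcases (by decide : ∀ d, lin 3 7 1 d = 6 ∨ lin 3 7 1 d = 4 → d = 6 ∨ d = 3) d hc with e | e
    · subst e
      exfalso
      have c1 : s₁ * s * s₁⁻¹ = s * uAt p z a 6 := conj_eq_of_sq hts (h.sq_of_K k1) hs_s1
      have e0 := h.lab_mul m1 c1 (s_x h M)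
      rw [xr_self, B.uAt_vals.1, mul_one] at e0
      have e7 := h.lab_mul m1 (rep_lab h M 2) (x_conj h M)
      change s₁ * x * t * (s₁ * x)⁻¹ = _ at e7
      obtain ⟨m, hm | hm⟩ := h.cent_rU M.sK ms (mul_mem m1 mx) (comm_of_conj e0)
      · rw [hm] at e7
        have e8 : uAt p z a m * t * (uAt p z a m)⁻¹ = t * uAt p z a 0 := by
          rw [B.uAt_vals.1, mul_one]
          exact conj_of_comm' (mem_cU.mp h.t_mem_cU m).symm
        exact absurd (h.lab_ne e7 e8) (by decide)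
      · rw [hm] at e7
        have e8 : s * uAt p z a m * t * (s * uAt p z a m)⁻¹ = t * uAt p z a 4 := by
          calc s * uAt p z a m * t * (s * uAt p z a m)⁻¹
              = s * (uAt p z a m * t * (uAt p z a m)⁻¹) * s⁻¹ := by group
            _ = _ := by rw [conj_of_comm' (mem_cU.mp h.t_mem_cU m).symm, t_conj h M]
        exact absurd (h.lab_ne e7 e8) (by decide)
    · exact e
  have hs2s : s₂ * s * (s₂ * s) = uAt p z a 1 := by
    apply hback
    rw [← sq_conj, conj_prod, hσ2, ← hs1, mul_assoc s,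
      show uAt p z a m₂ * s₁ = s₁ * uAt p z a m₂ from (mem_cU.mp m1 m₂).symm,
      show s * (s₁ * uAt p z a m₂) = s * s₁ * uAt p z a m₂ from (mul_assoc _ _ _).symm,
      h.sq_mul_u (mul_mem ms m1), hs_s1]
    congr 1
  have h11 : ∀ {v : G}, v * v = 1 → v * v * (v * v) = uAt p z a 0 := fun e => by
    rw [e, one_mul, B.uAt_vals.1]
  refine ⟨rep_K h M, rep_mem h M, ?_, M.xK, mx, M.x2, qtx, qsx⟩
  intro i j
  fin_cases i <;> fin_cases j
  exacts [h11 B.t2, qt 1, qt 2, qt 3,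
    hrev B.t2 hts (qt 1), h11 hts, hs_s1, hrev (h.sq_of_K k2) hts hs2s,
    hrev B.t2 (h.sq_of_K k1) (qt 2), hrev hts (h.sq_of_K k1) hs_s1, h11 (h.sq_of_K k1), hc12,
    hrev B.t2 (h.sq_of_K k2) (qt 3), hs2s, hrev (h.sq_of_K k1) (h.sq_of_K k2) hc12,
    h11 (h.sq_of_K k2)]

/-- An element carrying `t` to `s` and fixing `U`. -/
theorem exists_g : ∃ g, g * t * g⁻¹ = s ∧ ∀ n, ∃ m, g * uAt p z a n * g⁻¹ = uAt p z a m := by
  have B := h.toBase
  have D := data h M
  have mx := x_mem h M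
  obtain ⟨-, -, hqx⟩ := q_facts h M
  have hsM : s ∉ mG p q z a := fun hh => h.nK_M hh M.sK
  have hss : s * s ∈ mG p q z a := by rw [h.sq_of_K M.sK]; exact one_mem _
  have hn : ∀ m ∈ mG p q z a, s * m * s⁻¹ ∈ mG p q z a := fun m hm => by
    rw [M.sM m hm, mul_inv_cancel_right]; exact hm
  set Ts := mG p q z a ⊔ zpowers s
  have hle : Ts ≤ centralizer ({s} : Set G) :=
    sup_le (fun m hm => mem_centralizer_singleton_iff.mpr (M.sM m hm).symm)
      (zpowers_le.mpr (mem_centralizer_singleton_iff.mpr rfl))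
  obtain ⟨g, hg, hgT⟩ := B.sylow_adjust M.sK hle
    (by rw [card_sup_zpowers hsM hss hn, B.card_mG])
  refine ⟨g, hg, ?_⟩
  -- `g` normalises `M`
  have hgM : cmap g (mG p q z a) = mG p q z a := by
    have key : ∀ v ∈ mG p q z a, v * v = 1 → v ∈ cmap g⁻¹ (mG p q z a) := by
      intro v hv hv2
      rw [mem_cmap, inv_inv]
      have hgv : g * v * g⁻¹ ∈ Ts := hgT ▸ conj_mem_cmap (Base.mG_le_tG hv)
      rcases (mem_sup_zpowers hss hn).mp hgv with e | e
      · exact e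
      · exfalso
        set m' := s⁻¹ * (g * v * g⁻¹) with hm'
        have e' : g * v * g⁻¹ = s * m' := (mul_inv_cancel_left _ _).symm
        have hc : Commute s m' := M.sM m' e
        have h2 : m' * m' = 1 := by
          have h3 := sq_one_conj (g := g) hv2
          rw [e', hc.symm.mul_mul_mul_comm, h.sq_of_K M.sK, one_mul] at h3
          exact h3
        have hK : IsConj t (g * v * g⁻¹) := by
          rw [e']
          by_cases h1 : m' = 1
          · rw [h1, mul_one]; exact M.sK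
          · exact (h.bax s m' M.sK h2 h1 (fun e3 => hsM (e3 ▸ e)) hc).mpr (h.nK_M e)
        exact h.nK_M hv ((isConj_conj t g v).mp hK)
    refine eq_of_card ?_ (card_cmap _ _)
    have hle2 : mG p q z a ≤ cmap g⁻¹ (mG p q z a) := by
      simp only [mG, uG, sup_le_iff, zpowers_le]
      exact ⟨⟨⟨key _ (Base.uG_le_mG Side.p_mem) B.left.p2,
        key _ (Base.uG_le_mG Side.z_mem) B.left.z2⟩, key _ (Base.uG_le_mG Side.a_mem) B.left.a2⟩,
        key _ q_mem_mG B.right.p2⟩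
    intro v hv
    have := cmap_mono (g := g) hle2 hv
    rwa [← cmap_mul, mul_inv_cancel, cmap_one] at this
  have hconj : ∀ {v}, v ∈ mG p q z a → g * v * g⁻¹ ∈ mG p q z a :=
    fun hv => hgM ▸ conj_mem_cmap hv
  have hback : ∀ {v}, v ∈ mG p q z a → ∃ w ∈ mG p q z a, g * w * g⁻¹ = v := by
    intro v hv
    rw [← hgM, mem_cmap] at hv
    exact ⟨_, hv, by group⟩
  -- `g` fixes `z`
  have hgz : g * z * g⁻¹ = z := by
    have e : p * q * (p * q) = z := by
      rw [mul_assoc, ← mul_assoc q, B.left.qpq, ← mul_assoc, B.left.p2, one_mul]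
    have e2 : g * z * g⁻¹ = g * (p * q) * g⁻¹ * (g * (p * q) * g⁻¹) := by rw [sq_conj, e]
    rcases B.sq_mem (Base.mG_le_tG (hconj (mul_mem (Base.uG_le_mG Side.p_mem) q_mem_mG))) with
      e' | e'
    · rw [e'] at e2
      exact absurd (by simpa [mul_assoc] using congrArg (fun w => g⁻¹ * w * g) e2) B.z_ne_one
    · rw [e2, e']
  have hgb_of : ∀ {c}, g * a * g⁻¹ = c → g * b * g⁻¹ = c * z := fun e => by
    rw [B.b_eq, conj_prod, e, hgz]
  -- `g` fixes `a`
  have hga : g * a * g⁻¹ = a := by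
    have haM : a ∈ mG p q z a := Base.uG_le_mG Side.a_mem
    have hca : ∀ v ∈ mG p q z a, g * a * g⁻¹ * v = v * (g * a * g⁻¹) := by
      intro v hv
      obtain ⟨w, hw, rfl⟩ := hback hv
      calc g * a * g⁻¹ * (g * w * g⁻¹) = g * (a * w) * g⁻¹ := by group
        _ = g * (w * a) * g⁻¹ := by rw [B.central_a w (Base.mG_le_tG hw)]
        _ = g * w * g⁻¹ * (g * a * g⁻¹) := by group
    have hcen := B.centre_T (Base.mG_le_tG (hconj haM)) (B.comm_tW
      (hca p (Base.uG_le_mG Side.p_mem)) (hca q q_mem_mG) (hca a haM)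
      (B.t_comm_m (hconj haM)).symm)
    have hout : ∀ w, w ∈ mG p q z a → g * a * g⁻¹ ≠ t * w := fun w hw e => B.t_not_mem_mG (by
      have e2 : t = g * a * g⁻¹ * w⁻¹ := by rw [e, mul_inv_cancel_right]
      rw [e2]; exact mul_mem (hconj haM) (inv_mem hw))
    obtain ⟨v0, v1, v2, -, v4, -, v6, -⟩ := B.uAt_vals
    rcases Base.mem_four B hcen with e | e | e | e | e | e | e | e
    · exact absurd (by simpa [mul_assoc] using congrArg (fun w => g⁻¹ * w * g) e :
        a = 1) (fun e1 => h.uAt_ne_one (n := 4) (by decide) (v4.trans e1))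
    · have e1 : a = z := mul_left_cancel (mul_right_cancel (e.trans hgz.symm))
      exact absurd (B.left.uAt_inj (v4.trans (e1.trans v2.symm))) (by decide)
    · exact e
    · exfalso
      have hgs : ∀ v ∈ mG p q z a, g * s * g⁻¹ * v = v * (g * s * g⁻¹) := by
        intro v hv
        obtain ⟨w, hw, rfl⟩ := hback hv
        calc g * s * g⁻¹ * (g * w * g⁻¹) = g * (s * w) * g⁻¹ := by group
          _ = g * (w * s) * g⁻¹ := by rw [M.sM w hw]
          _ = g * w * g⁻¹ * (g * s * g⁻¹) := by group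
      have hmv : g * s * g⁻¹ * s * (g * s * g⁻¹)⁻¹ = s * uAt p z a 6 := by
        calc g * s * g⁻¹ * s * (g * s * g⁻¹)⁻¹ = g * (s * t * s⁻¹) * g⁻¹ := by
              rw [← hg]; group
          _ = _ := by rw [M.st, conj_prod, hg, e, v6]
      refine no_move h M (y := g * s * g⁻¹ * x) ?_ ?_ ?_
      · refine comm_of_conj ?_
        calc g * s * g⁻¹ * x * s * (g * s * g⁻¹ * x)⁻¹
            = g * s * g⁻¹ * (x * s * x⁻¹) * (g * s * g⁻¹)⁻¹ := by group
          _ = g * s * g⁻¹ * s * (g * s * g⁻¹)⁻¹ *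
              (g * s * g⁻¹ * uAt p z a 6 * (g * s * g⁻¹)⁻¹) := by rw [s_x h M]; group
          _ = s := by
            rw [hmv, conj_of_comm' (hgs _ (h.uAt_mem_mG 6)), mul_assoc, h.uAt_sq, mul_one]
      · intro v hv
        refine mem_sup_left ?_
        have hv' : x * v * x⁻¹ ∈ mG p q z a := h.conj_M M.xT ▸ conj_mem_cmap hv
        rw [show g * s * g⁻¹ * x * v * (g * s * g⁻¹ * x)⁻¹ =
          g * s * g⁻¹ * (x * v * x⁻¹) * (g * s * g⁻¹)⁻¹ by group, conj_of_comm' (hgs _ hv')]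
        exact hv'
      · rw [show g * s * g⁻¹ * x * q * (g * s * g⁻¹ * x)⁻¹ =
          g * s * g⁻¹ * (x * q * x⁻¹) * (g * s * g⁻¹)⁻¹ by group, M.xq]
        exact conj_of_comm' (hgs _ (mul_mem q_mem_mG (v6 ▸ h.uAt_mem_mG 6)))
    · exact absurd (e.trans (mul_one t).symm) (hout 1 (one_mem _))
    · exact absurd e (hout z (Base.uG_le_mG Side.z_mem))
    · exact absurd e (hout a haM)
    · exact absurd e (hout b (v6 ▸ h.uAt_mem_mG 6))
  have hgb : g * b * g⁻¹ = b := by rw [hgb_of hga, ← B.b_eq]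
  have hpM : p ∈ mG p q z a := Base.uG_le_mG Side.p_mem
  rcases B.left.invM _ (B.mem_mG.mp (hconj hpM)) (sq_one_conj (g := g) B.left.p2) with e | e
  · have hle3 : uG p z a ≤ cmap g⁻¹ (uG p z a) := by
      simp only [uG, sup_le_iff, zpowers_le, mem_cmap, inv_inv]
      exact ⟨⟨B.left.mem_uG.mpr e, by rw [hgz]; exact Side.z_mem⟩,
        by rw [hga]; exact Side.a_mem⟩
    intro n
    have := mem_cmap.mp (hle3 (B.left.mem_uG.mpr (B.left.mem_uList_iff.mpr ⟨n, rfl⟩)))
    rw [inv_inv, B.left.mem_uG, B.left.mem_uList_iff] at this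
    exact this.imp fun m hm => hm.symm
  · exfalso
    have hle3 : uG p z a ≤ cmap g⁻¹ (uG q z b) := by
      simp only [uG, sup_le_iff, zpowers_le, mem_cmap, inv_inv]
      refine ⟨⟨B.right.mem_uG.mpr e, by rw [hgz]; exact Side.z_mem⟩, ?_⟩
      rw [hga, ← B.right.az]
      exact mul_mem Side.a_mem Side.z_mem
    have heq : cmap g (uG p z a) = uG q z b := by
      refine eq_of_card (fun v hv => ?_) (by rw [card_cmap, B.card_uG, B.symm.card_uG])
      have := cmap_mono (g := g) hle3 hv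
      rwa [← cmap_mul, mul_inv_cancel, cmap_one] at this
    have hgxU : ∀ v ∈ uG q z b, g * x * g⁻¹ * v = v * (g * x * g⁻¹) := by
      intro v hv
      rw [← heq, mem_cmap, B.left.mem_uG, B.left.mem_uList_iff] at hv
      obtain ⟨n, hn'⟩ := hv
      have e1 : v = g * uAt p z a n * g⁻¹ := by rw [hn']; group
      rw [e1]
      calc g * x * g⁻¹ * (g * uAt p z a n * g⁻¹) = g * (x * uAt p z a n) * g⁻¹ := by group
        _ = g * (uAt p z a n * x) * g⁻¹ := by rw [M.xU n]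
        _ = g * uAt p z a n * g⁻¹ * (g * x * g⁻¹) := by group
    have hmv : g * x * g⁻¹ * s * (g * x * g⁻¹)⁻¹ = s * b := by
      calc g * x * g⁻¹ * s * (g * x * g⁻¹)⁻¹ = g * (x * t * x⁻¹) * g⁻¹ := by rw [← hg]; group
        _ = _ := by rw [M.xt, conj_prod, hg, hgb]
    refine no_move h M (y := g * x * g⁻¹ * x) ?_ ?_ ?_
    · refine comm_of_conj ?_
      rw [show g * x * g⁻¹ * x * s * (g * x * g⁻¹ * x)⁻¹ =
        g * x * g⁻¹ * (x * s * x⁻¹) * (g * x * g⁻¹)⁻¹ by group, s_x h M,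
        B.uAt_vals.2.2.2.2.2.2.1, conj_prod, hmv, conj_of_comm' (hgxU b Side.a_mem), mul_assoc,
        ← B.uAt_vals.2.2.2.2.2.2.1, h.uAt_sq, mul_one]
    · intro v hv
      have hv' : x * v * x⁻¹ ∈ mG p q z a := h.conj_M M.xT ▸ conj_mem_cmap hv
      obtain ⟨w, hw, hw'⟩ := hback hv'
      refine mem_sup_left ?_
      rw [show g * x * g⁻¹ * x * v * (g * x * g⁻¹ * x)⁻¹ =
        g * x * g⁻¹ * (x * v * x⁻¹) * (g * x * g⁻¹)⁻¹ by group, ← hw',
        show g * x * g⁻¹ * (g * w * g⁻¹) * (g * x * g⁻¹)⁻¹ = g * (x * w * x⁻¹) * g⁻¹ by group]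
      exact hconj (h.conj_M M.xT ▸ conj_mem_cmap hw)
    · rw [show g * x * g⁻¹ * x * q * (g * x * g⁻¹ * x)⁻¹ =
        g * x * g⁻¹ * (x * q * x⁻¹) * (g * x * g⁻¹)⁻¹ by group, M.xq]
      exact conj_of_comm' (hgxU _ (mul_mem Side.p_mem Side.a_mem))

end MixedFacts

end BCfg

end Cfsg.Agent.InvolTimesSym
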