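import Cfsg.Agent.Lib.InvolTimesSym.BEightDefs

/-!
# The transitive case: the two possible groups of order `48` on the eight points

`el8 ε (v, k)` is a lift of the translation by `v` followed by the linear map `cMap k`; in the
first kind (`ε = false`) translations have trivial linear part, in the second the translation by
`z` comes with the transvection `p ↦ pa`.
-/

set_option autoImplicit false
set_option maxRecDepth 20000

namespace Cfsg.Agent.InvolTimesSym

/-- The linear part attached to the translation by `z`. -/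
def gK (ε : Bool) : Fin 8 → Fin 8 := if ε then lin 5 2 4 else lin 1 2 4

/-- The translation by `z`. -/
def t2F (ε : Bool) (n : Fin 8) : Fin 8 := xr 2 (gK ε n)

/-- The translation by `pza`. -/
def t7F (ε : Bool) (n : Fin 8) : Fin 8 := cMap 1 (t2F ε (cMap 2 n))

/-- The translation by `pa`. -/
def t5F (ε : Bool) (n : Fin 8) : Fin 8 := cMap 2 (t2F ε (cMap 1 n))

/-- The translations. -/
def tr8 (ε : Bool) : Fin 8 → Fin 8 → Fin 8 :=
  ![fun n => n, fun n => xr 6 (t7F ε n), t2F ε, fun n => xr 6 (t5F ε n),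
    fun n => xr 6 (t2F ε n), t5F ε, fun n => xr 6 n, t7F ε]

/-- The forty-eight permutations. -/
def el8 (ε : Bool) (i : Fin 8 × Fin 6) (n : Fin 8) : Fin 8 := tr8 ε i.1 (cMap i.2 n)

/-- The linear part of an affine map. -/
def linF (f : Fin 8 → Fin 8) (n : Fin 8) : Fin 8 := xr (f 0) (f n)

/-- Whether the class of `n` modulo `b` is fixed by the linear part. -/
def clsFix (f : Fin 8 → Fin 8) (n : Fin 8) : Bool :=
  decide (linF f n = n ∨ linF f n = xr n 6)

/-- Whether the linear part is odd on the three non-zero classes modulo `b`. -/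
def oddF (f : Fin 8 → Fin 8) : Bool :=
  (clsFix f 2 || clsFix f 5 || clsFix f 1) && !(clsFix f 2 && clsFix f 5 && clsFix f 1)

/-- Whether the two blocks are exchanged. -/
def swapF (ε : Bool) (f : Fin 8 → Fin 8) : Bool :=
  if ε then decide (f 0 ≠ 0 ∧ f 0 ≠ 1 ∧ f 0 ≠ 3 ∧ f 0 ≠ 4)
  else decide (f 0 ≠ 0 ∧ f 0 ≠ 2 ∧ f 0 ≠ 5 ∧ f 0 ≠ 7)

/-- Whether a map is an involution or the identity. -/
def invF (f : Fin 8 → Fin 8) : Bool := decide (∀ n, f (f n) = n)

/-- Fixed points in `E`. -/
def fixCount (f : Fin 8 → Fin 8) : ℕ :=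
  (Finset.univ.filter fun n => linF f n = n).card + (Finset.univ.filter fun n => f n = n).card

/-- Odd involutions with a fixed point. -/
def setR0 (ε : Bool) : Finset (Fin 8 × Fin 6) :=
  Finset.univ.filter fun i => oddF (el8 ε i) = true ∧ invF (el8 ε i) = true ∧ ∃ n, el8 ε i n = n

/-- Odd involutions without fixed point. -/
def setR1 (ε : Bool) : Finset (Fin 8 × Fin 6) :=
  Finset.univ.filter fun i => oddF (el8 ε i) = true ∧ invF (el8 ε i) = true ∧ ∀ n, el8 ε i n ≠ n

/-- Even involutions exchanging the blocks, other than the translation by `b`. -/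
def setD (ε : Bool) : Finset (Fin 8 × Fin 6) :=
  Finset.univ.filter fun i => swapF ε (el8 ε i) = true ∧ invF (el8 ε i) = true ∧
    oddF (el8 ε i) = false ∧ i ≠ (6, 0)

/-- The representative of the class `setD`. -/
def repD (ε : Bool) : Fin 8 × Fin 6 := if ε then (2, 3) else (4, 0)

theorem el8_inj : ∀ ε, ∀ i j : Fin 8 × Fin 6, (∀ n, el8 ε i n = el8 ε j n) → i = j := by
  decide +kernel

theorem oddF_comp : ∀ ε, ∀ i j : Fin 8 × Fin 6,
    oddF (fun n => el8 ε i (el8 ε j n)) = xor (oddF (el8 ε i)) (oddF (el8 ε j)) := by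
  decide +kernel

theorem swapF_comp : ∀ ε, ∀ i j : Fin 8 × Fin 6,
    swapF ε (fun n => el8 ε i (el8 ε j n)) = xor (swapF ε (el8 ε i)) (swapF ε (el8 ε j)) := by
  decide +kernel

theorem card_sets : ∀ ε, (setR0 ε).card = 6 ∧ (setR1 ε).card = 6 ∧ (setD ε).card = 3 := by
  decide +kernel

theorem odd_split : ∀ ε, (Finset.univ.filter fun i : Fin 8 × Fin 6 =>
    oddF (el8 ε i) = true ∧ invF (el8 ε i) = true) = setR0 ε ∪ setR1 ε := by decide +kernel

theorem odd_disj : ∀ ε, Disjoint (setR0 ε) (setR1 ε) := by decide +kernel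

theorem swap_split : ∀ ε, (Finset.univ.filter fun i : Fin 8 × Fin 6 =>
    swapF ε (el8 ε i) = true ∧ invF (el8 ε i) = true) = setR1 ε ∪ insert (6, 0) (setD ε) := by
  decide +kernel

theorem swap_disj : ∀ ε, Disjoint (setR1 ε) (insert (6, 0) (setD ε)) := by decide +kernel

theorem swap_notmem : ∀ ε, ((6, 0) : Fin 8 × Fin 6) ∉ setD ε := by decide +kernel

theorem conj_R0 : ∀ ε, ∀ i ∈ setR0 ε, ∃ j, ∀ n, el8 ε j (el8 ε (0, 3) n) = el8 ε i (el8 ε j n) := by
  decide +kernel

theorem conj_R1 : ∀ ε, ∀ i ∈ setR1 ε, ∃ j, ∀ n, el8 ε j (el8 ε (6, 3) n) = el8 ε i (el8 ε j n) := by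
  decide +kernel

theorem conj_D : ∀ ε, ∀ i ∈ setD ε, ∃ j, ∀ n, el8 ε j (el8 ε (repD ε) n) = el8 ε i (el8 ε j n) := by
  decide +kernel

theorem fix_vals : ∀ ε, fixCount (el8 ε (6, 3)) = 4 ∧ fixCount (el8 ε (6, 0)) = 8 ∧
    fixCount (el8 true (repD true)) = 4 ∧ fixCount (el8 false (repD false)) = 8 := by decide +kernel

theorem oddF_cMap : ∀ k : Fin 6, ∀ v, oddF (el8 false (v, k)) = decide (3 ≤ k.val) := by
  decide +kernel

theorem linF_pure : ∀ k : Fin 6, ∀ v n, linF (el8 false (v, k)) n = cMap k n := by decide +kernel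

theorem cMap_unique : ∀ k k' : Fin 6, (∀ n, cMap k n = cMap k' n) → k = k' := by decide +kernel

/-- A linear map fixing `b` and normalising the six maps is one of them. -/
theorem lin_normaliser : ∀ i j k : Fin 8,
    (∀ m n, lin i j k m = lin i j k n → m = n) → lin i j k 6 = 6 →
    (∃ c, ∀ n, lin i j k (cMap 1 n) = cMap c (lin i j k n)) →
    (∃ c, ∀ n, lin i j k (cMap 3 n) = cMap c (lin i j k n)) →
    ∃ c, ∀ n, lin i j k (cMap c n) = n := by decide +kernel

end Cfsg.Agent.InvolTimesSym
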