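import Cfsg.Agent.Lib.InvolTimesSym.BFourClasses

/-!
# The intransitive case is impossible

`H = N(R)` has order `512` and a subgroup of index `2` whose complement contains exactly the
sixteen conjugates of `t` lying in `R`; so the counting lemma gives `1024 ∣ 32 m · 16`, `m` odd.
-/

set_option autoImplicit false
set_option maxRecDepth 20000
set_option linter.unusedSectionVars false

namespace Cfsg.Agent.InvolTimesSym

open Subgroup

/-- The class maps of the eight coset representatives. -/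
def mD : Fin 8 → Fin 16 → Fin 16 :=
  ![fun n => n, mK, mH, fun n => mH (mK n), mH1, fun n => mH1 (mK n), fun n => mH1 (mH n),
    fun n => mH1 (mH (mK n))]

theorem mD_inj : ∀ i j : Fin 8, (∀ n, mD i n = mD j n) → i = j := by decide +kernel

theorem mD_kinds : ∀ j : Fin 8, (∀ n, mD j (mD j n) = n) →
    j = 0 ∨ (j.val % 2 = 1 ∧ ∃ c : Fin 16, (c = 1 ∨ c = 5 ∨ c = 9 ∨ c = 15) ∧ mD j c = c) ∨
      (j.val % 2 = 0 ∧ ∀ e : Fin 16, e = 0 ∨ e = 2 → ∀ n : Fin 16, n.val % 2 = 1 →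
        xr4 (xr4 e (mD j n)) n ≠ 0) := by decide +kernel

theorem mH_inv : ∀ n, mH (mH n) = n := by decide +kernel
theorem mH1_inv : ∀ n, mH1 (mH1 n) = n := by decide +kernel
theorem mK_inv : ∀ n, mK (mK n) = n := by decide +kernel
theorem mH1_eq : ∀ n, mK (mH (mK n)) = mH1 n := by decide +kernel
theorem mC : ∀ n, mH1 (mH (mH1 (mH n))) = n := by decide +kernel
theorem mC_fix : ∀ n, mH n = n → mH1 n = n → n = 0 ∨ n = 2 := by decide +kernel
theorem mD_even : ∀ j n, n.val % 2 = 0 → (mD j n).val % 2 = 0 := by decide +kernel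
theorem mD_K : ∀ j n, mD j n = 1 → (n = 1 ∨ n = 5 ∨ n = 9 ∨ n = 15) := by decide +kernel

/-- The coset representatives. -/
def dd {G : Type*} [Group G] (hh h₁ k : G) : Fin 8 → G :=
  ![1, k, hh, hh * k, h₁, h₁ * k, h₁ * hh, h₁ * hh * k]

variable {G : Type*} [Group G] [Finite G] {t p q a b z σ τ k h₀ : G}

theorem conj_sup_mem {X Z : Subgroup G} {g x : G} (h1 : ∀ y ∈ X, g * y * g⁻¹ ∈ Z)
    (h2 : g * x * g⁻¹ ∈ Z) : ∀ y ∈ X ⊔ zpowers x, g * y * g⁻¹ ∈ Z := by
  intro y hy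
  have hle : X ⊔ zpowers x ≤ Z.comap (MulAut.conj g).toMonoidHom :=
    sup_le (fun y hy => by simpa using h1 y hy) (zpowers_le.mpr (by simpa using h2))
  simpa using hle hy

namespace BCfg

variable (h : BCfg t p q a b z σ τ) (F : FourData t p q a b z k h₀)
include h F

theorem act_one : Act t h₀ p q z a 1 (fun n => n) := fun _ _ hx => by simpa using hx

theorem act_rG {r : G} (hr : r ∈ rG t p q z a h₀) : Act t h₀ p q z a r (fun n => n) := by
  intro n x hx
  rcases h.conj_rG F hr (h.cls_mem F hx) with e | e <;> rw [e]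
  · exact hx
  · exact h.cls_mul_eq F hx (cls_zero (mem_sup_left (mem_zpowers z)))
      ((by decide : ∀ i, xr4 i 0 = i) n)

theorem act_unique {g : G} {L L' : Fin 16 → Fin 16} (h1 : Act t h₀ p q z a g L)
    (h2 : Act t h₀ p q z a g L') : ∀ n, L n = L' n :=
  fun n => h.cls_unique F (h1 n _ (h.cls_el F n)) (h2 n _ (h.cls_el F n))

theorem act_normalizer {g : G} {L : Fin 16 → Fin 16} (hg : Act t h₀ p q z a g L) :
    g ∈ normalizer (rG t p q z a h₀ : Set G) :=
  mem_normalizer_iff_cmap.mpr (eq_of_card (fun y hy => by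
    have := h.act_mem F hg _ (mem_cmap.mp hy)
    simpa [mul_assoc] using this) (card_cmap _ _))

theorem act_qG {g : G} {L : Fin 16 → Fin 16} (hg : Act t h₀ p q z a g L)
    (hL : ∀ n, n.val % 2 = 0 → (L n).val % 2 = 0) :
    ∀ y ∈ qG p q z a h₀, g * y * g⁻¹ ∈ qG p q z a h₀ := by
  intro y hy
  have hyR : y ∈ rG t p q z a h₀ :=
    (sup_le_sup_right (Base.mG_le_tG) (zpowers h₀) : qG p q z a h₀ ≤ rG t p q z a h₀) hy
  obtain ⟨n, hn⟩ := h.exists_cls F hyR
  exact (h.cls_qG F (hg n y hn)).mpr (hL n ((h.cls_qG F hn).mp hy))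

theorem count_classes (h8 : ¬ h.Eight) {y₀ : G} (hy₀ : IsConj t y₀)
    (hy₀c : Cls t h₀ p q (wG z a) 15 y₀) {n : Fin 16} {x : G}
    (hn : n = 1 ∨ n = 5 ∨ n = 9 ∨ n = 15) (hx : Cls t h₀ p q (wG z a) n x) : IsConj t x := by
  have B := h.toBase
  obtain ⟨c1, -, -, -⟩ := cls_gens (t := t) (h₀ := h₀) (p := p) (q := q) (z := z) (a := a)
  by_cases h15 : n = 15
  · subst h15
    have hw := h.cls_div F hy₀c hx
    by_cases h1 : y₀⁻¹ * x = 1
    · rwa [← inv_mul_eq_one.mp h1]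
    · have hwM := h.wG_le_M hw
      have hne : y₀⁻¹ * x ≠ y₀ := fun e => h.nK_M hwM (e.symm ▸ hy₀)
      have := (h.bax y₀ _ hy₀ (h.wG_sq hw) h1 hne
        (h.wG_central F hw (h.cls_mem F hy₀c)).symm).mpr (h.nK_M hwM)
      rwa [mul_inv_cancel_left] at this
  · obtain ⟨n', h'⟩ : ∃ n', xr4 1 n = n' := ⟨_, rfl⟩
    have hm := h.cls_mul_eq F (h.cls_inv F c1) hx h'
    have hn' : n' = 0 ∨ n' = 4 ∨ n' = 8 := by
      rcases hn with rfl | rfl | rfl | rfl
      · exact Or.inl (h'.symm.trans (by decide))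
      · exact Or.inr (Or.inl (h'.symm.trans (by decide)))
      · exact Or.inr (Or.inr (h'.symm.trans (by decide)))
      · exact absurd rfl h15
    have hmM := h.cls_M F (by rcases hn' with rfl | rfl | rfl <;> decide) hm
    have hm2 : t⁻¹ * x * (t⁻¹ * x) = 1 := by
      rw [h.cls_sq F hm]
      rcases hn' with rfl | rfl | rfl <;> simp [el, B.left.p2, B.right.p2]
    have := h.K_tM hmM hm2
    rwa [mul_inv_cancel_left] at this

theorem four_count (h8 : ¬ h.Eight) {y₀ : G} (hy₀ : IsConj t y₀)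
    (hy₀c : Cls t h₀ p q (wG z a) 15 y₀) {S : Set G}
    (hS : ∀ s, IsConj t s →
      (s ∈ S ↔ ∃ n : Fin 16, (n = 1 ∨ n = 5 ∨ n = 9 ∨ n = 15) ∧ Cls t h₀ p q (wG z a) n s)) :
    conjCount t S = 16 := by
  let c : Fin 4 → Fin 16 := ![1, 5, 9, 15]
  have hc : ∀ i, c i = 1 ∨ c i = 5 ∨ c i = 9 ∨ c i = 15 := by decide
  let f : Fin 4 × Fin 4 → G := fun ij => el t h₀ p q (c ij.1) * wl z a b ij.2
  have hfc : ∀ ij, Cls t h₀ p q (wG z a) (c ij.1) (f ij) := fun ij => by
    simpa [f, Cls] using h.mem_wG.mpr ⟨ij.2, rfl⟩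
  have hfK : ∀ ij, f ij ∈ S ∧ IsConj t (f ij) := fun ij => by
    have hK := h.count_classes F h8 hy₀ hy₀c (hc ij.1) (hfc ij)
    exact ⟨(hS _ hK).mpr ⟨_, hc ij.1, hfc ij⟩, hK⟩
  let g : Fin 4 × Fin 4 → {s : G // s ∈ S ∧ IsConj t s} := fun ij => ⟨f ij, hfK ij⟩
  have hg : Function.Bijective g := by
    constructor
    · rintro ⟨i, j⟩ ⟨i', j'⟩ he
      have he' : f (i, j) = f (i', j') := congrArg Subtype.val he
      have hii : i = i' := by
        have := h.cls_unique F (hfc (i, j)) (he' ▸ hfc (i', j'))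
        exact (by decide : ∀ i i' : Fin 4,
          (![1, 5, 9, 15] : Fin 4 → Fin 16) i = ![1, 5, 9, 15] i' → i = i') i i' this
      subst hii
      have hjj : j = j' := h.wl_inj (mul_left_cancel he')
      rw [hjj]
    · rintro ⟨s, hs, hK⟩
      obtain ⟨n, hn, hcs⟩ := (hS s hK).mp hs
      obtain ⟨i, hi⟩ : ∃ i, c i = n := by
        rcases hn with rfl | rfl | rfl | rfl
        exacts [⟨0, rfl⟩, ⟨1, rfl⟩, ⟨2, rfl⟩, ⟨3, rfl⟩]
      obtain ⟨j, hj⟩ := h.mem_wG.mp hcs
      refine ⟨(i, j), Subtype.ext ?_⟩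
      change el t h₀ p q (c i) * wl z a b j = s
      rw [hi, hj, mul_inv_cancel_left]
  rw [conjCount, ← Nat.card_congr (Equiv.ofBijective g hg), Nat.card_prod, Nat.card_fin]

end BCfg

namespace BCfg

variable (h : BCfg t p q a b z σ τ)
include h

/-- The intransitive case is impossible. -/
theorem four_false (h8 : ¬ h.Eight) : False := by
  have B := h.toBase
  obtain ⟨k, h₀, F⟩ := h.exists_four_data h8
  obtain ⟨hh, hAh, hh2, hh00, hha, hhz, y₀, hy₀, hy₀c⟩ := h.exists_h F h8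
  obtain ⟨c1, c2, c4, c8⟩ := cls_gens (t := t) (h₀ := h₀) (p := p) (q := q) (z := z) (a := a)
  set R := rG t p q z a h₀ with hR
  set Q := qG p q z a h₀ with hQ
  have hAk := h.act_k F
  have hQR : Q ≤ R := sup_le_sup_right Base.mG_le_tG _
  obtain ⟨m, hm, hk2⟩ := F.k2
  have hk2Q : k * k ∈ Q := by
    rw [hk2]; exact mul_mem (mem_sup_right (mem_zpowers h₀)) (mem_sup_left hm)
  have hk2R : k * k ∈ R := hQR hk2Q
  -- the action of `k⁻¹`
  have hAki : Act t h₀ p q z a k⁻¹ mK := by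
    have h1 := act_comp hAk (h.act_rG F (R.inv_mem hk2R))
    have e : k * (k * k)⁻¹ = k⁻¹ := by group
    rwa [e] at h1
  obtain ⟨h₁, eh₁⟩ : ∃ h₁, h₁ = k * hh * k⁻¹ := ⟨_, rfl⟩
  have hh12 : h₁ * h₁ = 1 := by rw [eh₁]; exact sq_one_conj hh2
  have hAh1 : Act t h₀ p q z a h₁ mH1 := by
    intro n x hx
    have := act_comp (act_comp hAk hAh) hAki n x hx
    simp only [mH1_eq] at this
    rwa [eh₁]
  set D := dd hh h₁ k with hDdef
  have hD : ∀ j, Act t h₀ p q z a (D j) (mD j) := by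
    intro j
    fin_cases j
    · exact h.act_one F
    · exact hAk
    · exact hAh
    · intro n x hx; exact act_comp hAh hAk n x hx
    · exact hAh1
    · intro n x hx; exact act_comp hAh1 hAk n x hx
    · intro n x hx; exact act_comp hAh1 hAh n x hx
    · intro n x hx; exact act_comp (act_comp hAh1 hAh) hAk n x hx
  set H := normalizer (R : Set G) with hH
  have hDH : ∀ j, D j ∈ H := fun j => h.act_normalizer F (hD j)
  have hRH : R ≤ H := Subgroup.le_normalizer
  have htR : t ∈ R := (h.gens_mem F).1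
  have hh₀R : h₀ ∈ R := (h.gens_mem F).2.1
  have hHR : ∀ g ∈ H, ∀ y ∈ R, g * y * g⁻¹ ∈ R := fun g hg y hy =>
    (mem_normalizer_iff.mp hg y).mp hy
  -- every element of `H` is some `D j * r`
  have hdec : ∀ g ∈ H, ∃ j, ∃ r ∈ R, g = D j * r := by
    intro g hg
    have hxR : g * t * g⁻¹ ∈ R := hHR g hg t htR
    have hxK : IsConj t (g * t * g⁻¹) := (isConj_conj t g t).mpr (IsConj.refl t)
    obtain ⟨c, hc, hcx⟩ := h.K_cls F h8 hxR hxK
    obtain ⟨i, hi0, hi⟩ : ∃ i : Fin 8, i.val % 2 = 0 ∧ mD i 1 = c := by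
      exact (by decide +kernel : ∀ c ∈ ({1, 5, 9, 15} : Finset (Fin 16)),
        ∃ i : Fin 8, i.val % 2 = 0 ∧ mD i 1 = c) c hc
    have hy := hHR _ (H.inv_mem (hDH i)) _ hxR
    rw [inv_inv] at hy
    obtain ⟨n, hn⟩ := h.exists_cls F hy
    have hDn := hD i n _ hn
    rw [show D i * ((D i)⁻¹ * (g * t * g⁻¹) * D i) * (D i)⁻¹ = g * t * g⁻¹ by group] at hDn
    have hn1 : n = 1 := by
      have e := h.cls_unique F hDn hcx
      rw [← hi] at e
      exact (by decide +kernel : ∀ i : Fin 8, i.val % 2 = 0 → ∀ n, mD i n = mD i 1 → n = 1)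
        i hi0 n e
    subst hn1
    have hw : t⁻¹ * ((D i)⁻¹ * (g * t * g⁻¹) * D i) ∈ wG z a := h.cls_div F c1 hn
    set g' := (D i)⁻¹ * g with hg'
    have hg't : g' * t * g'⁻¹ = (D i)⁻¹ * (g * t * g⁻¹) * D i := by rw [hg']; group
    rw [← hg't] at hw
    obtain ⟨w, hwl, ew⟩ : ∃ w, (∃ j, wl z a b j = w) ∧ g' * t * g'⁻¹ = t * w :=
      ⟨_, h.mem_wG.mp hw, (mul_inv_cancel_left _ _).symm⟩
    have hg'H : g' ∈ H := H.mul_mem (H.inv_mem (hDH i)) hg
    -- remove a power of `k`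
    have hzz : z * z = 1 := B.left.z2
    have hkH : k ∈ H := h.act_normalizer F hAk
    have key : ∀ f ∈ H, ∀ u, (u = 1 ∨ u = z) → f * t * f⁻¹ = t * u → f ∈ R := by
      intro f hf u hu ef
      rcases hu with rfl | rfl
      · exact h.stab_rG F (IsConj.refl t) htR (hHR f hf) (by rw [ef, mul_one])
      · have hin : h₀⁻¹ * f ∈ R := by
          refine h.stab_rG F (IsConj.refl t) htR (hHR _ (H.mul_mem (H.inv_mem (hRH hh₀R)) hf)) ?_
          rw [show h₀⁻¹ * f * t * (h₀⁻¹ * f)⁻¹ = h₀⁻¹ * (f * t * f⁻¹) * h₀ by group, ef]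
          conv_lhs => arg 1; arg 2; rw [← F.h₀t]
          group
        have := R.mul_mem hh₀R hin
        rwa [mul_inv_cancel_left] at this
    have fin2 : ∀ j : Fin 8, ∀ r ∈ R, g' = D j * r → (i.val % 2 = 0 → j.val ≤ 1) →
        ∃ j', ∃ r' ∈ R, g = D j' * r' := by
      intro j r hr e hj
      have hg2 : g = D i * (D j * r) := by rw [← e, hg', mul_inv_cancel_left]
      rcases (show j = 0 ∨ j = 1 by have := hj hi0; omega) with rfl | rfl
      · exact ⟨i, r, hr, by simpa [hDdef, dd] using hg2⟩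
      · obtain ⟨i', hi'⟩ : ∃ i', D i' = D i * k := by
          rcases (show i = 0 ∨ i = 2 ∨ i = 4 ∨ i = 6 by omega) with rfl | rfl | rfl | rfl
          · exact ⟨1, by simp [hDdef, dd]⟩
          · exact ⟨3, by simp [hDdef, dd]⟩
          · exact ⟨5, by simp [hDdef, dd]⟩
          · exact ⟨7, by simp [hDdef, dd]⟩
        refine ⟨i', r, hr, ?_⟩
        rw [hi', hg2, mul_assoc]
        simp [hDdef, dd]
    have hka : k⁻¹ * (t * b) * k = t := by rw [← F.kt]; group
    have hwz : k⁻¹ * z * k = z := (h.k_inv F).1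
    obtain ⟨jw, hjw⟩ := hwl
    fin_cases jw <;> simp only [wl] at hjw
    · exact fin2 0 g' (key g' hg'H w (Or.inl (by rw [← hjw]; simp)) ew) (by simp [hDdef, dd])
        (fun _ => by simp)
    · exact fin2 0 g' (key g' hg'H w (Or.inr (by rw [← hjw]; simp)) ew) (by simp [hDdef, dd])
        (fun _ => by simp)
    · have hwa : w = a := by rw [← hjw]; simp
      refine fin2 1 (k⁻¹ * g') (key _ (H.mul_mem (H.inv_mem hkH) hg'H) z (Or.inr rfl) ?_)
        (by simp [hDdef, dd]) (fun _ => by simp)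
      rw [show k⁻¹ * g' * t * (k⁻¹ * g')⁻¹ = k⁻¹ * (g' * t * g'⁻¹) * k by group, ew, hwa]
      have e : t * a = t * b * z := by rw [B.b_eq, mul_assoc t, mul_assoc a, hzz, mul_one]
      rw [e, show k⁻¹ * (t * b * z) * k = k⁻¹ * (t * b) * k * (k⁻¹ * z * k) by group, hka, hwz]
    · have hwb : w = b := by rw [← hjw]; simp
      refine fin2 1 (k⁻¹ * g') (key _ (H.mul_mem (H.inv_mem hkH) hg'H) 1 (Or.inl rfl) ?_)
        (by simp [hDdef, dd]) (fun _ => by simp)
      rw [show k⁻¹ * g' * t * (k⁻¹ * g')⁻¹ = k⁻¹ * (g' * t * g'⁻¹) * k by group, ew, hwb, hka,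
        mul_one]
  have huniq : ∀ j j' : Fin 8, ∀ r ∈ R, ∀ r' ∈ R, D j * r = D j' * r' → j = j' := by
    intro j j' r hr r' hr' e
    have h1 := act_comp (hD j) (h.act_rG F hr)
    have h2 := act_comp (hD j') (h.act_rG F hr')
    rw [e] at h1
    exact mD_inj j j' (h.act_unique F h1 h2)
  -- `|H| ≥ 512`
  have hHge : 512 ≤ Nat.card H := by
    let f : Fin 8 × R → H := fun x => ⟨D x.1 * x.2, H.mul_mem (hDH x.1) (hRH x.2.2)⟩
    have hf : Function.Injective f := by
      rintro ⟨j, r, hr⟩ ⟨j', r', hr'⟩ he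
      have e : D j * r = D j' * r' := congrArg Subtype.val he
      obtain rfl := huniq j j' r hr r' hr' e
      obtain rfl := mul_left_cancel e
      rfl
    have := Nat.card_le_card_of_injective f hf
    rwa [Nat.card_prod, Nat.card_fin, h.card_rG F] at this
  -- the subgroup of index two
  have hQconj : ∀ j, ∀ y ∈ Q, D j * y * (D j)⁻¹ ∈ Q := fun j =>
    h.act_qG F (hD j) (mD_even j)
  set c := h₁ * hh * (h₁ * hh) with hcdef
  have hcR : c ∈ R := by
    have hcH : c ∈ H := H.mul_mem (hDH 6) (hDH 6)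
    obtain ⟨j, r, hr, e⟩ := hdec c hcH
    have h1 : Act t h₀ p q z a c (fun n => n) := by
      intro n x hx
      have := act_comp (act_comp hAh1 hAh) (act_comp hAh1 hAh) n x hx
      simp only [mC] at this
      exact this
    have h2 := act_comp (hD j) (h.act_rG F hr)
    rw [← e] at h2
    have hj : j = 0 := mD_inj j 0 fun n => (h.act_unique F h2 h1 n).trans rfl
    subst hj
    rw [e]
    simpa [hDdef, dd] using hr
  obtain ⟨nc, hnc⟩ := h.exists_cls F hcR
  have hi2 : hh⁻¹ = hh := inv_of_sq hh2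
  have hi1 : h₁⁻¹ = h₁ := inv_of_sq hh12
  have hnc2 : nc = 0 ∨ nc = 2 := by
    refine mC_fix nc (h.cls_unique F (hAh nc c hnc) ?_) (h.cls_unique F (hAh1 nc c hnc) ?_)
    · have e : hh * c * hh⁻¹ = c⁻¹ := by
        rw [hcdef]
        calc hh * (h₁ * hh * (h₁ * hh)) * hh⁻¹ = hh * h₁ * (hh * h₁) := by group
          _ = hh⁻¹ * h₁⁻¹ * (hh⁻¹ * h₁⁻¹) := by rw [hi2, hi1]
          _ = _ := by group
      rw [e]; exact h.cls_inv F hnc
    · have e : h₁ * c * h₁⁻¹ = c⁻¹ := by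
        rw [hcdef]
        calc h₁ * (h₁ * hh * (h₁ * hh)) * h₁⁻¹ = h₁ * h₁ * (hh * h₁) * (hh * h₁⁻¹) := by group
          _ = hh⁻¹ * h₁⁻¹ * (hh⁻¹ * h₁⁻¹) := by rw [hh12, one_mul, hi2, hi1]
          _ = _ := by group
      rw [e]; exact h.cls_inv F hnc
  have hcQ : c ∈ Q := (h.cls_qG F hnc).mpr (by rcases hnc2 with rfl | rfl <;> decide)
  set N1 := Q ⊔ zpowers hh with hN1
  set N2 := N1 ⊔ zpowers h₁ with hN2
  set N3 := N2 ⊔ zpowers k with hN3
  have hQ1 : Q ≤ N1 := le_sup_left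
  have hQ2 : Q ≤ N2 := hQ1.trans le_sup_left
  have hQ3 : Q ≤ N3 := hQ2.trans le_sup_left
  have hhN1 : hh ∈ N1 := mem_sup_right (mem_zpowers hh)
  have hh1N2 : h₁ ∈ N2 := mem_sup_right (mem_zpowers h₁)
  have n1 : ∀ y ∈ Q, hh * y * hh⁻¹ ∈ Q := hQconj 2
  have n2 : ∀ y ∈ N1, h₁ * y * h₁⁻¹ ∈ N1 := by
    refine conj_sup_mem (fun y hy => hQ1 (hQconj 4 y hy)) ?_
    have e : h₁ * hh * h₁⁻¹ = c * hh := by
      rw [hcdef]
      calc h₁ * hh * h₁⁻¹ = h₁ * hh * h₁ * (hh * hh) := by rw [hh2, mul_one, hi1]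
        _ = _ := by group
    rw [e]; exact N1.mul_mem (hQ1 hcQ) hhN1
  have n3 : ∀ y ∈ N2, k * y * k⁻¹ ∈ N2 := by
    refine conj_sup_mem (conj_sup_mem (fun y hy => hQ2 (hQconj 1 y hy)) ?_) ?_
    · rw [← eh₁]; exact hh1N2
    · have e : k * h₁ * k⁻¹ = k * k * hh * (k * k)⁻¹ := by rw [eh₁]; group
      rw [e]
      exact N2.mul_mem (N2.mul_mem (hQ2 hk2Q) (mem_sup_left hhN1)) (N2.inv_mem (hQ2 hk2Q))
  have hQc : Nat.card Q ≤ 32 := by
    have := card_sup_zpowers_le (X := mG p q z a) (x := h₀) (by rw [hh00]; exact one_mem _)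
      (fun y hy => by rw [F.h₀M y hy, mul_inv_cancel_right]; exact hy)
    rw [B.card_mG] at this
    exact this
  have hN3le : Nat.card N3 ≤ 256 := by
    have h1 : Nat.card N1 ≤ 2 * Nat.card Q :=
      card_sup_zpowers_le (by rw [hh2]; exact one_mem _) n1
    have h2 : Nat.card N2 ≤ 2 * Nat.card N1 :=
      card_sup_zpowers_le (by rw [hh12]; exact one_mem _) n2
    have h3 : Nat.card N3 ≤ 2 * Nat.card N2 := card_sup_zpowers_le (hQ2 hk2Q) n3
    omega
  have hQH : Q ≤ H := hQR.trans hRH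
  have hN3H : N3 ≤ H := sup_le (sup_le (sup_le hQH (zpowers_le.mpr (hDH 2)))
    (zpowers_le.mpr (hDH 4))) (zpowers_le.mpr (hDH 1))
  have hDN : ∀ j, D j ∈ N3 := by
    have hkN : k ∈ N3 := mem_sup_right (mem_zpowers k)
    have hhN : hh ∈ N3 := mem_sup_left (mem_sup_left hhN1)
    have h1N : h₁ ∈ N3 := mem_sup_left hh1N2
    intro j
    fin_cases j
    exacts [one_mem _, hkN, hhN, mul_mem hhN hkN, h1N, mul_mem h1N hkN, mul_mem h1N hhN,
      mul_mem (mul_mem h1N hhN) hkN]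
  have hodd : ∀ {n : Fin 16} {r : G}, Cls t h₀ p q (wG z a) n r → n.val % 2 = 1 → r * t ∈ Q := by
    intro n r hn hn1
    refine (h.cls_qG F (h.cls_mul F hn c1)).mpr ?_
    exact (by decide : ∀ n : Fin 16, n.val % 2 = 1 → (xr4 n 1).val % 2 = 0) n hn1
  have hcover : ∀ g ∈ H, g ∈ N3 ∨ g * t ∈ N3 := by
    intro g hg
    obtain ⟨j, r, hr, rfl⟩ := hdec g hg
    obtain ⟨n, hn⟩ := h.exists_cls F hr
    rcases Nat.mod_two_eq_zero_or_one n.val with e | e
    · exact Or.inl (N3.mul_mem (hDN j) (hQ3 ((h.cls_qG F hn).mpr e)))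
    · exact Or.inr (by rw [mul_assoc]; exact N3.mul_mem (hDN j) (hQ3 (hodd hn e)))
  have htH : t ∈ H := hRH htR
  have htN : t ∉ N3 := by
    intro ht
    have hle : H ≤ N3 := fun g hg => by
      rcases hcover g hg with e | e
      · exact e
      · have := N3.mul_mem e (N3.inv_mem ht)
        rwa [mul_inv_cancel_right] at this
    have := Nat.le_of_dvd Nat.card_pos (Subgroup.card_dvd_of_le hle)
    omega
  have hHN : Nat.card H = 2 * Nat.card N3 :=
    card_eq_two_mul hN3H htH htN fun g hg => by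
      rcases hcover g⁻¹ (H.inv_mem hg) with e | e
      · exact Or.inl (by simpa using N3.inv_mem e)
      · exact Or.inr (by simpa using N3.inv_mem e)
  -- the conjugates of `t` in `H` outside the subgroup
  have hcount : conjCount t ((H : Set G) \ (N3 : Set G)) = 16 := by
    refine h.four_count F h8 hy₀ hy₀c fun s hs => ⟨?_, ?_⟩
    · rintro ⟨hsH, hsN⟩
      obtain ⟨j, r, hr, e⟩ := hdec s hsH
      have hs2 : s * s = 1 := h.sq_of_K hs
      have hA : Act t h₀ p q z a s (mD j) := by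
        have := act_comp (hD j) (h.act_rG F hr)
        rwa [← e] at this
      have hinv : ∀ n, mD j (mD j n) = n := by
        have := act_comp hA hA
        rw [hs2] at this
        exact h.act_unique F this (h.act_one F)
      obtain ⟨n, hn⟩ := h.exists_cls F hr
      have hn1 : n.val % 2 = 1 := by
        rcases Nat.mod_two_eq_zero_or_one n.val with e' | e'
        · exact absurd (e ▸ N3.mul_mem (hDN j) (hQ3 ((h.cls_qG F hn).mpr e'))) hsN
        · exact e'
      rcases mD_kinds j hinv with rfl | ⟨hj, c', hc', hfix⟩ | ⟨hj, hne⟩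
      · have hsR : s ∈ R := by rw [e]; simpa [hDdef, dd] using hr
        obtain ⟨n', hn', hcl⟩ := h.K_cls F h8 hsR hs
        exact ⟨n', by simpa using hn', hcl⟩
      · exfalso
        have hKx := h.count_classes F h8 hy₀ hy₀c hc' (h.cls_el F c')
        have hodd' : c'.val % 2 = 1 := by rcases hc' with rfl | rfl | rfl | rfl <;> decide
        have hconj : s * a * s⁻¹ = b ∧ s * b * s⁻¹ = a ∧ s * z * s⁻¹ = z := by
          have hrc : ∀ w ∈ wG z a, r * w * r⁻¹ = w := fun w hw =>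
            conj_of_comm' (h.wG_central F hw hr).symm
          have hd : ∀ d, (d = 1 ∨ d = hh ∨ d = h₁ ∨ d = h₁ * hh) →
              d * a * d⁻¹ = a ∧ d * z * d⁻¹ = z := by
            have h1a : h₁ * a * h₁⁻¹ = a := by
              rw [eh₁, show k * hh * k⁻¹ * a * (k * hh * k⁻¹)⁻¹ =
                k * (hh * (k⁻¹ * a * k) * hh⁻¹) * k⁻¹ by group, (h.k_inv F).2.1, B.b_eq,
                conj_prod hh a z, hha, hhz, ← B.b_eq, F.kb]
            have h1z : h₁ * z * h₁⁻¹ = z := by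
              rw [eh₁, show k * hh * k⁻¹ * z * (k * hh * k⁻¹)⁻¹ =
                k * (hh * (k⁻¹ * z * k) * hh⁻¹) * k⁻¹ by group, (h.k_inv F).1, hhz, F.kz]
            rintro d (rfl | rfl | rfl | rfl)
            · exact ⟨by group, by group⟩
            · exact ⟨hha, hhz⟩
            · exact ⟨h1a, h1z⟩
            · constructor
              · rw [show h₁ * hh * a * (h₁ * hh)⁻¹ = h₁ * (hh * a * hh⁻¹) * h₁⁻¹ by group, hha,
                  h1a]
              · rw [show h₁ * hh * z * (h₁ * hh)⁻¹ = h₁ * (hh * z * hh⁻¹) * h₁⁻¹ by group, hhz,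
                  h1z]
          obtain ⟨d, hdd, hDj⟩ : ∃ d, (d = 1 ∨ d = hh ∨ d = h₁ ∨ d = h₁ * hh) ∧ D j = d * k := by
            rcases (show j = 1 ∨ j = 3 ∨ j = 5 ∨ j = 7 by omega) with rfl | rfl | rfl | rfl
            · exact ⟨1, Or.inl rfl, by simp [hDdef, dd]⟩
            · exact ⟨hh, Or.inr (Or.inl rfl), rfl⟩
            · exact ⟨h₁, Or.inr (Or.inr (Or.inl rfl)), rfl⟩
            · exact ⟨h₁ * hh, Or.inr (Or.inr (Or.inr rfl)), rfl⟩
          obtain ⟨hda, hdz⟩ := hd d hdd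
          have hdb : d * b * d⁻¹ = b := by rw [B.b_eq, conj_prod, hda, hdz]
          have hsw : ∀ w ∈ wG z a, s * w * s⁻¹ = d * (k * w * k⁻¹) * d⁻¹ := by
            intro w hw
            rw [e, hDj, show d * k * r * w * (d * k * r)⁻¹ =
              d * (k * (r * w * r⁻¹) * k⁻¹) * d⁻¹ by group, hrc w hw]
          exact ⟨by rw [hsw a (mem_sup_right (mem_zpowers a)), F.ka, hdb],
            by rw [hsw b (h.mem_wG.mpr ⟨3, rfl⟩), F.kb, hda],
            by rw [hsw z (mem_sup_left (mem_zpowers z)), F.kz, hdz]⟩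
        refine h.no_swap F (hHR s hsH) hconj.1 hconj.2.1 hconj.2.2 hKx (h.cls_el F c') ?_
          hh₀R ((h.move_z F (h.cls_el F c')).1 hodd') ?_
        · have := hA c' _ (h.cls_el F c')
          rwa [hfix] at this
        · rw [hs2]; group
      · exfalso
        have hdj : ∃ e', (e' = 0 ∨ e' = 2) ∧ Cls t h₀ p q (wG z a) e' (D j * D j) := by
          rcases (show j = 0 ∨ j = 2 ∨ j = 4 ∨ j = 6 by omega) with rfl | rfl | rfl | rfl
          · exact ⟨0, Or.inl rfl, cls_zero (by simp [hDdef, dd, one_mem])⟩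
          · exact ⟨0, Or.inl rfl, cls_zero (by simp [hDdef, dd, hh2, one_mem])⟩
          · exact ⟨0, Or.inl rfl, cls_zero (by simp [hDdef, dd, hh12, one_mem])⟩
          · exact ⟨nc, hnc2, by simpa [hDdef, dd, hcdef] using hnc⟩
        obtain ⟨e', he', hdd⟩ := hdj
        obtain ⟨n', hn'⟩ := h.exists_cls F (hHR _ (H.inv_mem (hDH j)) r hr)
        have hmn : n' = mD j n := by
          have h1 := hD j n' _ hn'
          rw [inv_inv, show D j * ((D j)⁻¹ * r * D j) * (D j)⁻¹ = r by group] at h1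
          rw [← hinv n', h.cls_unique F h1 hn]
        rw [hmn] at hn'
        have h1 := h.cls_mul F (h.cls_mul F hdd hn') hn
        rw [inv_inv, show D j * D j * ((D j)⁻¹ * r * D j) * r = D j * r * (D j * r) by group, ← e,
          hs2] at h1
        exact hne e' he' n hn1 (h.cls_unique F h1 (cls_zero (one_mem _)))
    · rintro ⟨n, hn, hcl⟩
      have hsR := h.cls_mem F hcl
      refine ⟨hRH hsR, fun hin => htN ?_⟩
      have h1 := hQ3 (hodd hcl (by rcases hn with rfl | rfl | rfl | rfl <;> decide))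
      have := N3.mul_mem (N3.inv_mem hin) h1
      rwa [inv_mul_cancel_left] at this
  have hdvd := two_mul_card_dvd B.no B.t2 hN3H hHN
  rw [hcount] at hdvd
  obtain ⟨o, ho, hC⟩ := B.card
  rw [hC] at hdvd
  have hH512 : Nat.card H = 512 := by omega
  rw [hH512] at hdvd
  obtain ⟨d, hd⟩ := hdvd
  obtain ⟨l, hl⟩ := ho
  omega

end BCfg

end Cfsg.Agent.InvolTimesSym
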