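import Cfsg.Agent.Lib.InvolTimesSym.BFourR

/-!
# The intransitive case: the conjugates of `t` in `R` and the maps on its classes

`K ∩ R` consists of the classes `1, 5, 9, 15`, and `k`, `h`, `h₁ = khk⁻¹` permute the classes
linearly, where `h` is the conjugate of `h₀` by `σ²`.
-/

set_option autoImplicit false
set_option maxRecDepth 20000
set_option linter.unusedSectionVars false

namespace Cfsg.Agent.InvolTimesSym

open Subgroup Equiv

/-- The class map of `k`. -/
def mK : Fin 16 → Fin 16 := lin4 1 2 8 4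

/-- The class map of `h`. -/
def mH : Fin 16 → Fin 16 := lin4 5 2 4 10

/-- The class map of `h₁`. -/
def mH1 : Fin 16 → Fin 16 := lin4 9 2 6 8

variable {G : Type*} [Group G] [Finite G] {t p q a b z σ τ k h₀ : G}

/-- `g` maps the class `n` into the class `L n`. -/
def Act (t h₀ p q z a g : G) (L : Fin 16 → Fin 16) : Prop :=
  ∀ n x, Cls t h₀ p q (wG z a) n x → Cls t h₀ p q (wG z a) (L n) (g * x * g⁻¹)

/-- The four elements of `W`. -/
def wl (z a b : G) : Fin 4 → G := ![1, z, a, b]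

theorem conj_wG {g : G} (hz : g * z * g⁻¹ ∈ wG z a) (ha : g * a * g⁻¹ ∈ wG z a) :
    ∀ w ∈ wG z a, g * w * g⁻¹ ∈ wG z a := by
  intro w hw
  have hle : wG z a ≤ (wG z a).comap (MulAut.conj g).toMonoidHom :=
    sup_le (zpowers_le.mpr (by simpa using hz)) (zpowers_le.mpr (by simpa using ha))
  simpa using hle hw

theorem act_comp {g g' : G} {L L' : Fin 16 → Fin 16} (h1 : Act t h₀ p q z a g L)
    (h2 : Act t h₀ p q z a g' L') : Act t h₀ p q z a (g * g') (fun n => L (L' n)) := by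
  intro n x hx
  have := h1 _ _ (h2 n x hx)
  have e : g * g' * x * (g * g')⁻¹ = g * (g' * x * g'⁻¹) * g⁻¹ := by group
  rwa [e]

namespace BCfg

variable (h : BCfg t p q a b z σ τ) (F : FourData t p q a b z k h₀)
include h

theorem mem_wG {w : G} : w ∈ wG z a ↔ ∃ j, wl z a b j = w := by
  have B := h.toBase
  constructor
  · intro hw
    have hza : Commute z a := B.left.za
    have hzp : ∀ g, g ∈ zpowers z → g = 1 ∨ g = z := by
      intro g hg
      have h' := (mem_sup_zpowers (X := (⊥ : Subgroup G)) (x := z) (g := g)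
        (by simp [B.left.z2]) (by simp)).mp (mem_sup_right hg)
      simpa [inv_mul_eq_one, eq_comm] using h'
    have h' : w = 1 ∨ w = z ∨ w = a ∨ w = z * a := by
      rcases (mem_sup_zpowers (X := zpowers z) (x := a) (g := w)
        (by rw [B.left.a2]; exact one_mem _)
        (fun y hy => by
          rcases hzp y hy with rfl | rfl
          · simp [one_mem]
          · rw [conj_of_comm' hza.symm.eq]; exact hy)).mp hw with e | e
      · exact (hzp _ e).imp_right Or.inl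
      · rcases hzp _ e with e' | e'
        · exact Or.inr (Or.inr (Or.inl (inv_mul_eq_one.mp e').symm))
        · exact Or.inr (Or.inr (Or.inr (by rw [hza.eq, ← e', mul_inv_cancel_left])))
    rcases h' with e | e | e | e
    · exact ⟨0, e.symm⟩
    · exact ⟨1, e.symm⟩
    · exact ⟨2, e.symm⟩
    · exact ⟨3, by rw [e, hza.eq, ← B.b_eq]; rfl⟩
  · rintro ⟨j, rfl⟩
    fin_cases j
    · exact one_mem _
    · exact mem_sup_left (mem_zpowers z)
    · exact mem_sup_right (mem_zpowers a)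
    · change b ∈ wG z a
      rw [B.b_eq]; exact mul_mem (mem_sup_right (mem_zpowers a)) (mem_sup_left (mem_zpowers z))

theorem wl_inj : Function.Injective (wl z a b) := by
  have B := h.toBase
  obtain ⟨v0, -, v2, -, v4, -, v6, -⟩ := B.uAt_vals
  have e : ∀ j, wl z a b j = uAt p z a (![0, 2, 4, 6] j) := by
    intro j; fin_cases j <;> simp [wl, v0, v2, v4, v6]
  intro i j hij
  rw [e, e] at hij
  exact (by decide : ∀ i j : Fin 4, (![0, 2, 4, 6] : Fin 4 → Fin 8) i = ![0, 2, 4, 6] j → i = j)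
    i j (B.left.uAt_inj hij)

theorem wG_sq {w : G} (hw : w ∈ wG z a) : w * w = 1 := by
  have B := h.toBase
  obtain ⟨j, rfl⟩ := h.mem_wG.mp hw
  obtain ⟨-, -, -, -, -, -, v6, -⟩ := B.uAt_vals
  fin_cases j
  · exact one_mul 1
  · exact B.left.z2
  · exact B.left.a2
  · exact B.eG_sq (v6 ▸ B.uAt_mem 6)

theorem wG_le_M : wG z a ≤ mG p q z a := sup_le (zpowers_le.mpr (Base.uG_le_mG Side.z_mem))
  (zpowers_le.mpr (Base.uG_le_mG Side.a_mem))

include F

theorem cls_mul_eq {m n l : Fin 16} {x y : G} (hx : Cls t h₀ p q (wG z a) m x)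
    (hy : Cls t h₀ p q (wG z a) n y) (e : xr4 m n = l) :
    Cls t h₀ p q (wG z a) l (x * y) := e ▸ h.cls_mul F hx hy

theorem cls_el (n : Fin 16) : Cls t h₀ p q (wG z a) n (el t h₀ p q n) := by
  simp [Cls, one_mem]

theorem cls_div {n : Fin 16} {x y : G} (hx : Cls t h₀ p q (wG z a) n x)
    (hy : Cls t h₀ p q (wG z a) n y) : x⁻¹ * y ∈ wG z a := by
  have h1 := h.cls_mul F (h.cls_inv F hx) hy
  rw [show xr4 n n = 0 from (by decide : ∀ i, xr4 i i = 0) n] at h1
  simpa [Cls, el] using h1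

theorem cls_sq {n : Fin 16} {x : G} (hx : Cls t h₀ p q (wG z a) n x) :
    x * x = el t h₀ p q n * el t h₀ p q n := by
  have hc : Commute ((el t h₀ p q n)⁻¹ * x) (el t h₀ p q n) := h.wG_central F hx (h.el_mem F n)
  calc x * x = el t h₀ p q n * (((el t h₀ p q n)⁻¹ * x) * el t h₀ p q n) *
        ((el t h₀ p q n)⁻¹ * x) := by group
    _ = el t h₀ p q n * el t h₀ p q n *
        (((el t h₀ p q n)⁻¹ * x) * ((el t h₀ p q n)⁻¹ * x)) := by rw [hc.eq]; group
    _ = _ := by rw [h.wG_sq hx, mul_one]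

theorem cls_comm {m n : Fin 16} {x y : G} (hx : Cls t h₀ p q (wG z a) m x)
    (hy : Cls t h₀ p q (wG z a) n y) (he : Commute (el t h₀ p q m) (el t h₀ p q n)) :
    Commute x y := by
  have ex : x = el t h₀ p q m * ((el t h₀ p q m)⁻¹ * x) := (mul_inv_cancel_left _ _).symm
  have ey : y = el t h₀ p q n * ((el t h₀ p q n)⁻¹ * y) := (mul_inv_cancel_left _ _).symm
  rw [ex, ey]
  have h1 : Commute ((el t h₀ p q m)⁻¹ * x) (el t h₀ p q n) := h.wG_central F hx (h.el_mem F n)
  have h2 : Commute ((el t h₀ p q n)⁻¹ * y) (el t h₀ p q m) := h.wG_central F hy (h.el_mem F m)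
  have h3 : Commute ((el t h₀ p q m)⁻¹ * x) ((el t h₀ p q n)⁻¹ * y) :=
    h.wG_central F hx (h.wG_le_rG F hy)
  exact (he.mul_right h2.symm).mul_left (h1.mul_right h3)

theorem cls_M {n : Fin 16} {x : G} (hn : n.val % 4 = 0) (hx : Cls t h₀ p q (wG z a) n x) :
    x ∈ mG p q z a := by
  rw [← mul_inv_cancel_left (el t h₀ p q n) x]
  refine mul_mem ?_ (h.wG_le_M hx)
  rw [el, show n.val % 2 = 0 by omega, show n.val / 2 % 2 = 0 by omega, pow_zero, pow_zero, one_mul, one_mul]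
  exact mul_mem (pow_mem (Base.uG_le_mG Side.p_mem) _) (pow_mem (mem_sup_right (mem_zpowers q)) _)

theorem conj_h₀_inv : h₀⁻¹ * t * h₀ = t * z := by
  have e : h₀ * (t * z) * h₀⁻¹ = t := by
    rw [conj_prod, F.h₀t, conj_of_comm' (F.h₀M z (Base.uG_le_mG Side.z_mem)), mul_assoc,
      h.toBase.left.z2, mul_one]
  conv_lhs => rw [← e]
  group

theorem pq_sq : p * q * (p * q) = z := by
  have B := h.toBase
  rw [mul_assoc, ← mul_assoc q, B.left.qpq, ← mul_assoc, B.left.p2, one_mul]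

theorem el_sq : el t h₀ p q 12 * el t h₀ p q 12 = z ∧
    el t h₀ p q 15 * el t h₀ p q 15 = h₀ * h₀ := by
  have B := h.toBase
  refine ⟨by simpa [el] using h.pq_sq F, ?_⟩
  have e : el t h₀ p q 15 = h₀ * t * (p * q) := by simp [el, mul_assoc]
  have hpq : p * q ∈ mG p q z a :=
    mul_mem (Base.uG_le_mG Side.p_mem) (mem_sup_right (mem_zpowers q))
  have hc : Commute (p * q) (h₀ * t) :=
    (show Commute (p * q) h₀ from (F.h₀M _ hpq).symm).mul_right (B.t_comm_m hpq).symm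
  rw [e, hc.mul_mul_mul_comm, h.pq_sq F]
  have hz : z * t = t * z := B.central_z t (mem_sup_right (mem_zpowers t))
  calc h₀ * t * (h₀ * t) * z = h₀ * h₀ * (h₀⁻¹ * t * h₀) * t * z := by group
    _ = h₀ * h₀ * (t * t) * (z * z) := by
        rw [h.conj_h₀_inv F]
        simp only [mul_assoc]; rw [← mul_assoc z t z, hz, mul_assoc]
    _ = _ := by rw [B.t2, B.left.z2, mul_one, mul_one]

/-- `h₀` moves odd classes by `z`, and `t` those with second bit set. -/
theorem move_z {n : Fin 16} {x : G} (hx : Cls t h₀ p q (wG z a) n x) :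
    (n.val % 2 = 1 → h₀ * x * h₀⁻¹ = x * z) ∧ (n.val / 2 % 2 = 1 → t * x * t⁻¹ = x * z) := by
  have B := h.toBase
  obtain ⟨w, hw, ex⟩ : ∃ w ∈ wG z a, x = el t h₀ p q n * w :=
    ⟨_, hx, (mul_inv_cancel_left _ _).symm⟩
  have hpm : p ∈ mG p q z a := Base.uG_le_mG Side.p_mem
  have hqm : q ∈ mG p q z a := mem_sup_right (mem_zpowers q)
  obtain ⟨g1, g2, -, -⟩ := h.gens_mem F
  have hr : ∀ g ∈ rG t p q z a h₀, g * w * g⁻¹ = w := fun g hg =>
    conj_of_comm' (h.wG_central F hw hg).symm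
  have hzc : ∀ g ∈ rG t p q z a h₀, z * g = g * z := fun g hg =>
    h.wG_central F (mem_sup_left (mem_zpowers z)) hg
  have hrest : ∀ g, (∀ y ∈ mG p q z a, g * y = y * g) →
      g * (p ^ (n.val / 4 % 2) * q ^ (n.val / 8)) * g⁻¹ = p ^ (n.val / 4 % 2) * q ^ (n.val / 8) :=
    fun g hg => conj_of_comm' (hg _ (mul_mem (pow_mem hpm _) (pow_mem hqm _)))
  set m := p ^ (n.val / 4 % 2) * q ^ (n.val / 8)
  have hm : m ∈ rG t p q z a h₀ :=
    mul_mem (pow_mem (h.gens_mem F).2.2.1 _) (pow_mem (h.gens_mem F).2.2.2 _)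
  have eel : el t h₀ p q n = h₀ ^ (n.val / 2 % 2) * t ^ (n.val % 2) * m := by
    simp [el, m, mul_assoc]
  have hwR := h.wG_le_rG F hw
  have hzR : ∀ g ∈ rG t p q z a h₀, Commute z g := hzc
  constructor
  · intro h1
    rw [ex, eel, h1, pow_one]
    have e1 : h₀ * h₀ ^ (n.val / 2 % 2) * h₀⁻¹ = h₀ ^ (n.val / 2 % 2) :=
      conj_of_comm' ((Commute.refl h₀).pow_right _).eq
    rw [conj_prod, conj_prod, conj_prod, e1, F.h₀t, hrest h₀ F.h₀M, hr h₀ g2]
    calc h₀ ^ (n.val / 2 % 2) * (t * z) * m * w = h₀ ^ (n.val / 2 % 2) * t * (z * (m * w)) := by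
          group
      _ = _ := by rw [hzc _ (mul_mem hm hwR)]; group
  · intro h1
    rw [ex, eel, h1, pow_one]
    have e1 : t * t ^ (n.val % 2) * t⁻¹ = t ^ (n.val % 2) :=
      conj_of_comm' ((Commute.refl t).pow_right _).eq
    have e2 : t * h₀ * t⁻¹ = h₀ * z := by
      calc t * h₀ * t⁻¹ = h₀ * (h₀⁻¹ * t * h₀) * t⁻¹ := by group
        _ = h₀ * (t * z * t⁻¹) := by rw [h.conj_h₀_inv F]; group
        _ = h₀ * z := by rw [← hzc t g1, mul_inv_cancel_right]
    rw [conj_prod, conj_prod, conj_prod, e1, e2, hrest t (fun y hy => B.t_comm_m hy), hr t g1]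
    calc h₀ * z * t ^ (n.val % 2) * m * w = h₀ * (z * (t ^ (n.val % 2) * m * w)) := by group
      _ = _ := by rw [hzc _ (mul_mem (mul_mem (pow_mem g1 _) hm) hwR)]; group

/-- An element normalising `R`, exchanging `a` and `b`, cannot fix a class of conjugates of `t`
moved by `z` within `R`, if its square centralises it. -/
theorem no_swap {g x r : G} {n : Fin 16}
    (hg : ∀ y ∈ rG t p q z a h₀, g * y * g⁻¹ ∈ rG t p q z a h₀) (hga : g * a * g⁻¹ = b)
    (hgb : g * b * g⁻¹ = a) (hgz : g * z * g⁻¹ = z) (hx : IsConj t x)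
    (hn : Cls t h₀ p q (wG z a) n x) (hgn : Cls t h₀ p q (wG z a) n (g * x * g⁻¹))
    (hr : r ∈ rG t p q z a h₀) (hrx : r * x * r⁻¹ = x * z)
    (h2 : g * g * x * (g * g)⁻¹ = x) : False := by
  have B := h.toBase
  have hxR := h.cls_mem F hn
  obtain ⟨w, hw, ew⟩ : ∃ w ∈ wG z a, g * x * g⁻¹ = x * w :=
    ⟨_, h.cls_div F hn hgn, (mul_inv_cancel_left _ _).symm⟩
  obtain ⟨j, hj⟩ := h.mem_wG.mp hw
  have hww : w * (g * w * g⁻¹) = 1 := by
    have e : g * g * x * (g * g)⁻¹ = g * (g * x * g⁻¹) * g⁻¹ := by group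
    rw [e, ew, conj_prod, ew, mul_assoc] at h2
    exact mul_eq_left.mp h2
  obtain ⟨v0, -, v2, -, v4, -, v6, -⟩ := B.uAt_vals
  have hab : a * b ≠ 1 := by
    rw [← v4, ← v6, B.left.uAt_mul, ← v0]
    exact fun e => absurd (B.left.uAt_inj e) (by decide)
  have hba : b * a ≠ 1 := by
    rw [← v4, ← v6, B.left.uAt_mul, ← v0]
    exact fun e => absurd (B.left.uAt_inj e) (by decide)
  have hgR : g ∈ rG t p q z a h₀ := by
    fin_cases j <;> simp only [wl] at hj
    · exact h.stab_rG F hx hxR hg (by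
        rw [ew, ← hj]; simp)
    · have hgr : g * r ∈ rG t p q z a h₀ := by
        refine h.stab_rG F hx hxR (fun y hy => ?_) ?_
        · rw [show g * r * y * (g * r)⁻¹ = g * (r * y * r⁻¹) * g⁻¹ by group]
          exact hg _ (mul_mem (mul_mem hr hy) (inv_mem hr))
        · have hwz : w = z := by rw [← hj]; simp
          rw [show g * r * x * (g * r)⁻¹ = g * (r * x * r⁻¹) * g⁻¹ by group, hrx, conj_prod, ew,
            hgz, hwz, mul_assoc, B.left.z2, mul_one]
      have := mul_mem hgr (inv_mem hr)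
      simpa [mul_assoc] using this
    · have hwa : w = a := by rw [← hj]; simp
      rw [hwa, hga] at hww
      exact absurd hww hab
    · have hwb : w = b := by rw [← hj]; simp
      rw [hwb, hgb] at hww
      exact absurd hww hba
  have e := conj_of_comm' (h.wG_central F (mem_sup_right (mem_zpowers a)) hgR).symm
  rw [hga] at e
  rw [← v4, ← v6] at e
  exact absurd (B.left.uAt_inj e) (by decide)

theorem k_conj_M {x : G} (hx : x ∈ mG p q z a) : k * x * k⁻¹ ∈ mG p q z a := by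
  rw [← h.conj_M F.kT]; exact conj_mem_cmap hx

theorem k_wG : ∀ w ∈ wG z a, k * w * k⁻¹ ∈ wG z a := by
  refine conj_wG ?_ ?_
  · rw [F.kz]; exact mem_sup_left (mem_zpowers z)
  · rw [F.ka]; exact h.mem_wG.mpr ⟨3, rfl⟩

theorem k_inv : k⁻¹ * z * k = z ∧ k⁻¹ * a * k = b ∧ k⁻¹ * b * k = a := by
  refine ⟨?_, ?_, ?_⟩
  · conv_lhs => arg 1; arg 2; rw [← F.kz]
    group
  · conv_lhs => arg 1; arg 2; rw [← F.kb]
    group
  · conv_lhs => arg 1; arg 2; rw [← F.ka]
    group

theorem act_k : Act t h₀ p q z a k mK := by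
  have B := h.toBase
  obtain ⟨c1, c2, c4, c8⟩ := cls_gens (t := t) (h₀ := h₀) (p := p) (q := q) (z := z) (a := a)
  intro n x hx
  refine h.cls_conj F ?_ ?_ ?_ ?_ (h.k_wG F) hx
  · rw [F.kt]
    exact h.cls_mul_eq F c1 (cls_zero (h.mem_wG.mpr ⟨3, rfl⟩)) (by decide)
  · obtain ⟨m, hm, hk⟩ := F.k2
    obtain ⟨v, ev⟩ : ∃ v, k * h₀ * k⁻¹ = h₀ * v := ⟨_, (mul_inv_cancel_left _ _).symm⟩
    have hv : v = m * (k * m * k⁻¹)⁻¹ := by
      have e : k * h₀ * k⁻¹ * (k * m * k⁻¹) = h₀ * m := by rw [← conj_prod, ← hk]; group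
      rw [ev, mul_assoc] at e
      exact eq_mul_inv_of_mul_eq (mul_left_cancel e)
    have hvM : v ∈ mG p q z a := by rw [hv]; exact mul_mem hm (inv_mem (h.k_conj_M F hm))
    have hcM : ∀ y ∈ mG p q z a, v * y = y * v := by
      intro y hy
      have h1 : Commute h₀ y := F.h₀M y hy
      have hy' : k⁻¹ * y * k ∈ mG p q z a := by rw [← mem_cmap, h.conj_M F.kT]; exact hy
      have h2 : Commute (k * h₀ * k⁻¹) y := by
        have h3 := F.h₀M _ hy'
        have e := congrArg (fun u => k * u * k⁻¹) h3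
        simp only [Commute, SemiconjBy]
        simpa [mul_assoc] using e
      have e := ((h1.inv_left).mul_left h2).eq
      rwa [ev, inv_mul_cancel_left] at e
    have hvW : v ∈ wG z a := by
      have hcT : ∀ y ∈ tG t p q z a, v * y = y * v := B.comm_tW
        (hcM p (Base.uG_le_mG Side.p_mem)) (hcM q (mem_sup_right (mem_zpowers q)))
        (hcM a (Base.uG_le_mG Side.a_mem)) (B.t_comm_m hvM).symm
      rcases Base.mem_four B (B.centre_T (Base.mG_le_tG hvM) hcT) with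
        e | e | e | e | e | e | e | e
      · exact h.mem_wG.mpr ⟨0, e.symm⟩
      · exact h.mem_wG.mpr ⟨1, e.symm⟩
      · exact h.mem_wG.mpr ⟨2, e.symm⟩
      · exact h.mem_wG.mpr ⟨3, e.symm⟩
      all_goals
        exfalso
        rw [e] at hvM
      · exact B.t_not_mem_mG hvM
      · exact B.t_not_mem_mG (by simpa [wl] using mul_mem hvM (inv_mem (h.wG_le_M
          (h.mem_wG.mpr ⟨1, rfl⟩))))
      · exact B.t_not_mem_mG (by simpa [wl] using mul_mem hvM (inv_mem (h.wG_le_M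
          (h.mem_wG.mpr ⟨2, rfl⟩))))
      · exact B.t_not_mem_mG (by simpa [wl] using mul_mem hvM (inv_mem (h.wG_le_M
          (h.mem_wG.mpr ⟨3, rfl⟩))))
    rw [ev]
    exact h.cls_mul_eq F c2 (cls_zero hvW) (by decide)
  · have hx : k * p * k⁻¹ ∈ eG t q z b := by
      rw [← F.kE]; exact conj_mem_cmap (mem_sup_left Side.p_mem)
    have hM := h.k_conj_M F (Base.uG_le_mG Side.p_mem)
    obtain ⟨m, hm | hm⟩ := B.symm.mem_E_iff.mp hx
    · rw [← hm]
      have hz0 := cls_zero (t := t) (h₀ := h₀) (p := p) (q := q)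
        (mem_sup_left (mem_zpowers z) : z ∈ wG z a)
      have hb0 := cls_zero (t := t) (h₀ := h₀) (p := p) (q := q)
        (h.mem_wG.mpr ⟨3, rfl⟩ : b ∈ wG z a)
      have hW : uAt q z b m * (q ^ (m.val % 2))⁻¹ ∈ wG z a ∧
          uAt q z b m = q ^ (m.val % 2) * (z ^ (m.val / 2 % 2) * b ^ (m.val / 4)) :=
        ⟨by
          have hzq : Commute (z ^ (m.val / 2 % 2) * b ^ (m.val / 4)) (q ^ (m.val % 2)) :=
            (((show Commute z q from B.right.pz.symm).pow_left _).mul_left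
              ((show Commute b q from B.right.pa.symm).pow_left _)).pow_right _
          have e : uAt q z b m * (q ^ (m.val % 2))⁻¹ =
              z ^ (m.val / 2 % 2) * b ^ (m.val / 4) := by
            simp only [uAt, mul_assoc]
            rw [← mul_assoc (z ^ _) (b ^ _) _, ← mul_assoc, ← hzq.eq]
            group
          rw [e]
          exact mul_mem (pow_mem (mem_sup_left (mem_zpowers z)) _)
            (pow_mem (h.mem_wG.mpr ⟨3, rfl⟩) _), by simp [uAt, mul_assoc]⟩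
      rcases Nat.mod_two_eq_zero_or_one m.val with e | e
      · exfalso
        rw [e, pow_zero, inv_one, mul_one] at hW
        have hp : p ∈ wG z a := by
          have hkk : ∀ w ∈ wG z a, k⁻¹ * w * k ∈ wG z a := by
            intro w hw
            have := conj_wG (g := k⁻¹) (z := z) (a := a) ?_ ?_ w hw
            · simpa using this
            · rw [inv_inv, (h.k_inv F).1]; exact mem_sup_left (mem_zpowers z)
            · rw [inv_inv, (h.k_inv F).2.1]; exact h.mem_wG.mpr ⟨3, rfl⟩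
          have := hkk _ hW.1
          rw [hm] at this
          simpa [mul_assoc] using this
        have := h.el_not_W F 4 (by simpa [el] using hp)
        simp at this
      · rw [hW.2, e, pow_one]
        exact h.cls_mul_eq F c8 (cls_zero (mul_mem (pow_mem (mem_sup_left (mem_zpowers z)) _)
          (pow_mem (h.mem_wG.mpr ⟨3, rfl⟩) _))) (by decide)
    · exfalso
      rw [← hm] at hM
      have hu : uAt q z b m ∈ mG p q z a := by
        rw [← B.mG_symm]
        exact Base.uG_le_mG (B.right.mem_uG.mpr (B.right.mem_uList_iff.mpr ⟨m, rfl⟩))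
      exact B.t_not_mem_mG (by simpa using mul_mem hM (inv_mem hu))
  · have hx : k * q * k⁻¹ ∈ eG t p z a := by
      rw [← F.kE']; exact conj_mem_cmap (mem_sup_left Side.p_mem)
    have hM := h.k_conj_M F (mem_sup_right (mem_zpowers q))
    obtain ⟨m, hm | hm⟩ := B.mem_E_iff.mp hx
    · rw [← hm]
      rcases Nat.mod_two_eq_zero_or_one m.val with e | e
      · exfalso
        have hw : uAt p z a m ∈ wG z a := by
          simp only [uAt, e, pow_zero, one_mul]
          exact mul_mem (pow_mem (mem_sup_left (mem_zpowers z)) _)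
            (pow_mem (mem_sup_right (mem_zpowers a)) _)
        have hq : q ∈ wG z a := by
          obtain ⟨j, hj⟩ := h.mem_wG.mp hw
          refine h.mem_wG.mpr ⟨![0, 1, 3, 2] j, ?_⟩
          have e' : q = k⁻¹ * wl z a b j * k := by rw [hj, hm]; group
          rw [e']
          fin_cases j <;>
            simp [wl, (h.k_inv F).1, (h.k_inv F).2.1, (h.k_inv F).2.2]
        have := h.el_not_W F 8 (by simpa [el] using hq)
        simp at this
      · have e' : uAt p z a m = p * (z ^ (m.val / 2 % 2) * a ^ (m.val / 4)) := by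
          simp [uAt, e, mul_assoc]
        rw [e']
        exact h.cls_mul_eq F c4 (cls_zero (mul_mem (pow_mem (mem_sup_left (mem_zpowers z)) _)
          (pow_mem (mem_sup_right (mem_zpowers a)) _))) (by decide)
    · exfalso
      rw [← hm] at hM
      exact B.t_not_mem_mG (by
        simpa using mul_mem hM (inv_mem (Base.uG_le_mG (B.left.mem_uG.mpr
          (B.left.mem_uList_iff.mpr ⟨m, rfl⟩)) : uAt p z a m ∈ mG p q z a)))

theorem act_mem {g : G} {L : Fin 16 → Fin 16} (hg : Act t h₀ p q z a g L) :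
    ∀ y ∈ rG t p q z a h₀, g * y * g⁻¹ ∈ rG t p q z a h₀ := by
  intro y hy
  obtain ⟨n, hn⟩ := h.exists_cls F hy
  exact h.cls_mem F (hg n y hn)

/-- A conjugate of `t` in `R` lies in one of the classes `1, 5, 9, 15`. -/
theorem K_cls (h8 : ¬ h.Eight) {x : G} (hxR : x ∈ rG t p q z a h₀) (hK : IsConj t x) :
    ∃ n ∈ ({1, 5, 9, 15} : Finset (Fin 16)), Cls t h₀ p q (wG z a) n x := by
  have B := h.toBase
  obtain ⟨n, hn⟩ := h.exists_cls F hxR
  refine ⟨n, ?_, hn⟩
  have h2 := h.sq_of_K hK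
  have hzne := B.z_ne_one
  have cases := (by decide : ∀ n : Fin 16, n.val % 4 = 0 ∨
    n ∈ ({1, 5, 9, 15} : Finset (Fin 16)) ∨ n = 13 ∨ n = 14 ∨
      (n.val / 2 % 2 = 1 ∧ n.val / 4 ≠ 3)) n
  rcases cases with c | c | c | c | ⟨c, c'⟩
  · exact absurd hK (h.nK_M (h.cls_M F c hn))
  · exact c
  · exfalso
    subst c
    obtain ⟨c1, -, -, -⟩ := cls_gens (t := t) (h₀ := h₀) (p := p) (q := q) (z := z) (a := a)
    have hm := h.cls_mul F (h.cls_inv F c1) hn
    rw [show xr4 1 13 = 12 from by decide] at hm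
    have hsq := h.cls_sq F hm
    rw [(h.el_sq F).1] at hsq
    have hc : Commute t (t⁻¹ * x) := B.t_comm_m (h.cls_M F (by decide) hm)
    have e : x * x = t⁻¹ * x * (t⁻¹ * x) := by
      calc x * x = t * (t⁻¹ * x) * (t * (t⁻¹ * x)) := by group
        _ = t * t * (t⁻¹ * x * (t⁻¹ * x)) := hc.symm.mul_mul_mul_comm t _
        _ = _ := by rw [B.t2, one_mul]
    rw [e, hsq] at h2
    exact hzne h2
  · exfalso
    subst c
    obtain ⟨m, hm, hk⟩ := F.k2
    have hkR : k * k ∈ rG t p q z a h₀ := by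
      rw [hk]; exact mul_mem (h.gens_mem F).2.1 (mem_sup_left (Base.mG_le_tG hm))
    obtain ⟨c2, hc2⟩ := h.exists_cls F hkR
    have hfix : mK c2 = c2 := by
      refine h.cls_unique F (h.act_k F c2 _ hc2) ?_
      rwa [show k * (k * k) * k⁻¹ = k * k by group]
    have hev : c2.val % 2 = 0 := by
      refine (h.cls_qG F hc2).mp ?_
      rw [hk]; exact mul_mem (mem_sup_right (mem_zpowers h₀)) (mem_sup_left hm)
    have hnot : ¬ c2.val % 4 = 0 := by
      intro e
      have h' := h.cls_M F e hc2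
      rw [hk] at h'
      exact h.h₀_not_T F (Base.mG_le_tG (by simpa using mul_mem h' (inv_mem hm)))
    have hcomm : Commute (k * k) x := by
      refine h.cls_comm F hc2 hn ?_
      rcases (by decide +kernel : ∀ c : Fin 16, mK c = c → c.val % 2 = 0 → ¬ c.val % 4 = 0 →
        c = 2 ∨ c = 14) c2 hfix hev hnot with rfl | rfl
      · have hpq : p * q ∈ mG p q z a :=
          mul_mem (Base.uG_le_mG Side.p_mem) (mem_sup_right (mem_zpowers q))
        have e14 : el t h₀ p q 14 = h₀ * (p * q) := by simp [el, mul_assoc]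
        have e2 : el t h₀ p q 2 = h₀ := by simp [el]
        rw [e14, e2]
        exact (Commute.refl h₀).mul_right (F.h₀M _ hpq)
      · exact Commute.refl _
    refine h.no_swap F (h.act_mem F (h.act_k F)) F.ka F.kb F.kz hK hn ?_
      (h.gens_mem F).1 ((h.move_z F hn).2 (by decide)) (conj_of_comm' hcomm.eq)
    have := h.act_k F _ _ hn
    rwa [show mK 14 = 14 from by decide] at this
  · exfalso
    -- a conjugate of `t` in `h₀ E`
    obtain ⟨i, n', hi, hn', hx4, hi4⟩ : ∃ i n' : Fin 16, (i = 2 ∨ i = 3) ∧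
        (n' = 0 ∨ n' = 4 ∨ n' = 8) ∧ xr4 i n = n' ∧ n'.val % 4 = 0 := by
      exact (by decide +kernel : ∀ n : Fin 16, n.val / 2 % 2 = 1 → n.val / 4 ≠ 3 →
        ∃ i n' : Fin 16, (i = 2 ∨ i = 3) ∧ (n' = 0 ∨ n' = 4 ∨ n' = 8) ∧ xr4 i n = n' ∧
          n'.val % 4 = 0) n c c'
    obtain ⟨u, hu, hui⟩ : ∃ u, (u = h₀ ∨ u = h₀ * t) ∧ Cls t h₀ p q (wG z a) i u := by
      refine ⟨_, ?_, h.cls_el F i⟩
      rcases hi with rfl | rfl <;> simp [el]
    have hm := h.cls_mul F (h.cls_inv F hui) hn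
    rw [hx4] at hm
    have hmM := h.cls_M F hi4 hm
    have huM : Commute u (u⁻¹ * x) := by
      rcases hu with e | e <;> rw [e] at hmM ⊢
      · exact F.h₀M _ hmM
      · exact (show Commute h₀ _ from F.h₀M _ hmM).mul_left (B.t_comm_m hmM)
    have hm2 : u⁻¹ * x * (u⁻¹ * x) = 1 := by
      rw [h.cls_sq F hm]
      rcases hn' with rfl | rfl | rfl <;> simp [el, B.left.p2, B.right.p2]
    have hu2 : IsConj t u := by
      by_cases h1 : u⁻¹ * x = 1
      · rwa [inv_mul_eq_one.mp h1]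
      · have hux : u * (u⁻¹ * x) = x := mul_inv_cancel_left _ _
        have hxm : Commute x (u⁻¹ * x) := by
          have h' := huM.mul_left (Commute.refl (u⁻¹ * x))
          rwa [hux] at h'
        have hne : u⁻¹ * x ≠ x := fun e => h.nK_M hmM (e.symm ▸ hK)
        have := (h.bax x (u⁻¹ * x) hK hm2 h1 hne hxm.eq).mpr (h.nK_M hmM)
        have e : x * (u⁻¹ * x) = u := by
          calc x * (u⁻¹ * x) = u * (u⁻¹ * x) * (u⁻¹ * x) := by rw [hux]
            _ = u := by rw [mul_assoc, hm2, mul_one]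
        rwa [e] at this
    refine h.translation_free h8 F hu2 ?_
    rcases hu with e | e <;> rw [e]
    · simp [one_mem]
    · simpa using (Base.t_mem_eG : t ∈ eG t p z a)

theorem exists_h (h8 : ¬ h.Eight) :
    ∃ hh, Act t h₀ p q z a hh mH ∧ hh * hh = 1 ∧ h₀ * h₀ = 1 ∧ hh * a * hh⁻¹ = a ∧
      hh * z * hh⁻¹ = z ∧ ∃ y, IsConj t y ∧ Cls t h₀ p q (wG z a) 15 y := by
  have B := h.toBase
  have ha := h.acts_four h8
  obtain ⟨v0, v1, v2, v3, v4, v5, v6, v7⟩ := B.uAt_vals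
  set H0 := normalizer (eG t p z a : Set G)
  have hh0U : ∀ n, h₀ * uAt p z a n * h₀⁻¹ = uAt p z a n := fun n =>
    conj_of_comm' (F.h₀M _ (Base.uG_le_mG (B.left.mem_uG.mpr (B.left.mem_uList_iff.mpr ⟨n, rfl⟩))))
  have ph0 : ha.hom ⟨h₀, F.h₀E⟩ = swap 0 1 * swap 2 3 := by
    refine Equiv.ext fun i => ha.hom_eq _ _ _ ?_
    change h₀ * fourPts t p z a i * h₀⁻¹ = _
    rw [fourPts, conj_prod, F.h₀t, hh0U, mul_assoc, fourPts,
      show z * uAt p z a (four i) = uAt p z a (xr 2 (four i)) by rw [← B.left.uAt_mul, v2]]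
    congr 2
    revert i; decide
  have hσ : σ ∈ H0 := B.σ_mem_normC.1
  have hq : q ∈ H0 := B.q_mem_normC.1
  set hh := σ * σ * h₀ * (σ * σ)⁻¹
  have hhH : hh ∈ H0 := mul_mem (mul_mem (mul_mem hσ hσ) F.h₀E) (inv_mem (mul_mem hσ hσ))
  have phh : ha.hom ⟨hh, hhH⟩ = swap 0 2 * swap 1 3 := by
    have e : (⟨hh, hhH⟩ : H0) = ⟨σ, hσ⟩ * ⟨σ, hσ⟩ * ⟨h₀, F.h₀E⟩ * (⟨σ, hσ⟩ * ⟨σ, hσ⟩)⁻¹ := rfl
    rw [e, map_mul, map_mul, map_inv, map_mul, B.four_σ ha, ph0]
    decide
  have hσσ : ∀ n, σ * σ * uAt p z a n * (σ * σ)⁻¹ = uAt p z a (lin 4 5 3 n) := by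
    intro n
    rw [show σ * σ * uAt p z a n * (σ * σ)⁻¹ = σ * (σ * uAt p z a n * σ⁻¹) * σ⁻¹ by group,
      B.conj_σ_uAt, B.conj_σ_uAt]
    congr 1; revert n; decide
  have hσσt : σ * σ * t * (σ * σ)⁻¹ = t :=
    conj_of_comm' (((show Commute σ t from B.left.tσ.symm).mul_left B.left.tσ.symm).eq)
  have hσσi : (σ * σ)⁻¹ * t * (σ * σ) = t := by
    conv_lhs => rw [← hσσt]
    group
  have hht : hh * t * hh⁻¹ = t * (p * a) := by
    calc hh * t * hh⁻¹ = σ * σ * (h₀ * ((σ * σ)⁻¹ * t * (σ * σ)) * h₀⁻¹) * (σ * σ)⁻¹ := by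
          simp only [hh]; generalize σ * σ = w; group
      _ = t * uAt p z a (lin 4 5 3 2) := by
        rw [hσσi, F.h₀t, conj_prod, hσσt, ← hσσ 2, v2]
      _ = _ := by rw [show lin 4 5 3 2 = 5 from by decide, v5]
  have hhU : ∀ n, hh * uAt p z a n * hh⁻¹ = uAt p z a n := by
    intro n
    obtain ⟨m, rfl⟩ : ∃ m, lin 4 5 3 m = n := (by decide : ∀ n, ∃ m, lin 4 5 3 m = n) n
    calc hh * uAt p z a (lin 4 5 3 m) * hh⁻¹
        = σ * σ * (h₀ * ((σ * σ)⁻¹ * (σ * σ * uAt p z a m * (σ * σ)⁻¹) * (σ * σ)) * h₀⁻¹) *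
            (σ * σ)⁻¹ := by rw [hσσ]; simp only [hh]; generalize σ * σ = w; group
      _ = σ * σ * (h₀ * uAt p z a m * h₀⁻¹) * (σ * σ)⁻¹ := by group
      _ = _ := by rw [hh0U, hσσ]
  have hha : hh * a * hh⁻¹ = a := by have := hhU 4; rwa [v4] at this
  have hhz : hh * z * hh⁻¹ = z := by have := hhU 2; rwa [v2] at this
  have hhp : hh * p * hh⁻¹ = p := by have := hhU 1; rwa [v1] at this
  set y := hh * (t * q) * hh⁻¹
  have hyK : IsConj t y := (isConj_conj t hh _).mpr
    (h.K_tM (mem_sup_right (mem_zpowers q)) B.right.p2)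
  have htH : t ∈ H0 := Subgroup.le_normalizer Base.t_mem_eG
  have hye : (h₀ * q)⁻¹ * y ∈ eG t p z a := by
    have pt : ha.hom ⟨t, htH⟩ = 1 := (B.four_ker ha _).mpr Base.t_mem_eG
    have := (B.four_ker ha ((⟨h₀, F.h₀E⟩ * ⟨q, hq⟩)⁻¹ *
      (⟨hh, hhH⟩ * (⟨t, htH⟩ * ⟨q, hq⟩) * ⟨hh, hhH⟩⁻¹))).mp (by
        rw [map_mul, map_inv, map_mul, map_mul, map_mul, map_mul, map_inv, ph0, phh, pt,
          B.four_q ha]
        decide)
    simpa using this
  obtain ⟨c1, c2, c4, c8⟩ := cls_gens (t := t) (h₀ := h₀) (p := p) (q := q) (z := z) (a := a)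
  have ce : ∀ e ∈ eG t p z a, ∃ c : Fin 16, c.val / 8 = 0 ∧ c.val / 2 % 2 = 0 ∧
      Cls t h₀ p q (wG z a) c e := by
    intro e he
    obtain ⟨n, hn⟩ := B.mem_E_iff.mp he
    have hw : z ^ (n.val / 2 % 2) * a ^ (n.val / 4) ∈ wG z a :=
      mul_mem (pow_mem (mem_sup_left (mem_zpowers z)) _)
        (pow_mem (mem_sup_right (mem_zpowers a)) _)
    obtain ⟨d, hd, hu⟩ : ∃ d : Fin 16, (d = 0 ∨ d = 4) ∧
        Cls t h₀ p q (wG z a) d (uAt p z a n) := by
      rcases Nat.mod_two_eq_zero_or_one n.val with e' | e'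
      · exact ⟨0, Or.inl rfl, cls_zero (by simpa [uAt, e', mul_assoc] using hw)⟩
      · refine ⟨4, Or.inr rfl, ?_⟩
        have e'' : uAt p z a n = p * (z ^ (n.val / 2 % 2) * a ^ (n.val / 4)) := by
          simp [uAt, e', mul_assoc]
        rw [e'']
        exact h.cls_mul_eq F c4 (cls_zero hw) (by decide)
    rcases hn with hn | hn <;> rw [← hn]
    · exact ⟨d, by rcases hd with rfl | rfl <;> decide, by rcases hd with rfl | rfl <;> decide, hu⟩
    · exact ⟨_, by rcases hd with rfl | rfl <;> decide, by rcases hd with rfl | rfl <;> decide,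
        h.cls_mul F c1 hu⟩
  obtain ⟨c, hc8, hc2, hc⟩ := ce _ hye
  have hycls := h.cls_mul F (h.cls_mul F c2 c8) hc
  rw [mul_inv_cancel_left] at hycls
  obtain ⟨n, hn, hny⟩ := h.K_cls F h8 (h.cls_mem F hycls) hyK
  have hcn := h.cls_unique F hycls hny
  have hn15 : n = 15 := by
    rw [← hcn] at hn ⊢
    exact (by decide +kernel : ∀ c : Fin 16, c.val / 8 = 0 → c.val / 2 % 2 = 0 →
      xr4 (xr4 2 8) c ∈ ({1, 5, 9, 15} : Finset (Fin 16)) → xr4 (xr4 2 8) c = 15) c hc8 hc2 hn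
  subst hn15
  have hh00 : h₀ * h₀ = 1 := by
    rw [← (h.el_sq F).2, ← h.cls_sq F hny]; exact h.sq_of_K hyK
  have hh2 : hh * hh = 1 := sq_one_conj hh00
  have hW : ∀ w ∈ wG z a, hh * w * hh⁻¹ ∈ wG z a := conj_wG
    (by rw [hhz]; exact mem_sup_left (mem_zpowers z))
    (by rw [hha]; exact mem_sup_right (mem_zpowers a))
  have ct : Cls t h₀ p q (wG z a) 5 (hh * t * hh⁻¹) := by
    rw [hht]
    exact h.cls_mul_eq F c1 (h.cls_mul F c4 (cls_zero (mem_sup_right (mem_zpowers a)))) (by decide)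
  have cq : Cls t h₀ p q (wG z a) 10 (hh * q * hh⁻¹) := by
    have e : hh * q * hh⁻¹ = (hh * t * hh⁻¹)⁻¹ * y := by simp only [y]; group
    rw [e]; exact h.cls_mul_eq F (h.cls_inv F ct) hny (by decide)
  refine ⟨hh, ?_, hh2, hh00, hha, hhz, y, hyK, hny⟩
  intro n x hx
  refine h.cls_conj F ct ?_ (by rw [hhp]; exact c4) cq hW hx
  -- the image of `h₀` from the image of `q`
  have hv : (h₀ * q)⁻¹ * (hh * q * hh⁻¹) ∈ wG z a :=
    h.cls_div F (h.cls_mul_eq F c2 c8 (by decide : xr4 2 8 = 10)) cq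
  obtain ⟨v, hv', ev⟩ : ∃ v ∈ wG z a, hh * q * hh⁻¹ = h₀ * q * v :=
    ⟨_, hv, (mul_inv_cancel_left _ _).symm⟩
  have e : hh * h₀ * hh⁻¹ = hh * hh * q * (hh * hh)⁻¹ * (hh * v * hh⁻¹)⁻¹ *
      (hh * q * hh⁻¹)⁻¹ := by
    have e' : hh * hh * q * (hh * hh)⁻¹ = hh * (hh * q * hh⁻¹) * hh⁻¹ := by group
    rw [e']
    conv_rhs => arg 1; arg 1; rw [ev]
    group
  rw [e, hh2, one_mul, inv_one, mul_one]
  exact h.cls_mul_eq F (h.cls_mul F c8 (h.cls_inv F (cls_zero (hW _ hv')))) (h.cls_inv F cq)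
    (by decide)

end BCfg

end Cfsg.Agent.InvolTimesSym
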