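import Cfsg.Agent.Lib.InvolTimesSym.BFourTrans

/-!
# The intransitive case: the group `R = ⟨t, h₀⟩M` of order `64`

Modulo `W = ⟨z, a⟩` it is elementary abelian with basis `t, h₀, p, q` (bits `1, 2, 4, 8`).
The conjugates of `t` in it are the four classes `1, 5, 9, 15`.
-/

set_option autoImplicit false
set_option maxRecDepth 20000
set_option linter.unusedSectionVars false

namespace Cfsg.Agent.InvolTimesSym

open Subgroup

/-- Addition of bit masks of length four. -/
def xr4 (i j : Fin 16) : Fin 16 := i ^^^ j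

/-- The linear map with given images of `1, 2, 4, 8`. -/
def lin4 (i j k l n : Fin 16) : Fin 16 :=
  xr4 (xr4 (xr4 (if n.val % 2 = 1 then i else 0) (if n.val / 2 % 2 = 1 then j else 0))
    (if n.val / 4 % 2 = 1 then k else 0)) (if n.val / 8 = 1 then l else 0)

section

variable {G : Type*} [Group G]

/-- The representative of a class. -/
def el (t h₀ p q : G) (n : Fin 16) : G :=
  h₀ ^ (n.val / 2 % 2) * t ^ (n.val % 2) * p ^ (n.val / 4 % 2) * q ^ (n.val / 8)

/-- `x` lies in the class `n`. -/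
def Cls (t h₀ p q : G) (W : Subgroup G) (n : Fin 16) (x : G) : Prop :=
  (el t h₀ p q n)⁻¹ * x ∈ W

theorem xr4_shuffle : ∀ a b c d : Fin 16,
    xr4 (xr4 (xr4 (xr4 b a) c) d) 0 = xr4 (xr4 (xr4 a b) c) d := by decide +kernel

theorem exp_two_comm' {Q : Type*} [Group Q] (hsq : ∀ x : Q, x * x = 1) (x y : Q) : x * y = y * x := by
  have h3 := inv_of_sq (hsq (x * y))
  rw [mul_inv_rev, inv_of_sq (hsq x), inv_of_sq (hsq y)] at h3
  exact h3.symm

theorem el_mul {Q : Type*} [Group Q] (hsq : ∀ x : Q, x * x = 1) (A B C D : Q) (m n : Fin 16) :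
    el A B C D m * el A B C D n = el A B C D (xr4 m n) := by
  have hc : ∀ x y : Q, Commute x y := fun x y =>
    exp_two_comm' hsq x y
  obtain ⟨e1, e2, e3, e4⟩ : (xr4 m n).val % 2 = (m.val % 2 + n.val % 2) % 2 ∧
      (xr4 m n).val / 2 % 2 = (m.val / 2 % 2 + n.val / 2 % 2) % 2 ∧
      (xr4 m n).val / 4 % 2 = (m.val / 4 % 2 + n.val / 4 % 2) % 2 ∧
      (xr4 m n).val / 8 = (m.val / 8 + n.val / 8) % 2 := by revert m n; decide +kernel
  simp only [el]
  rw [e1, e2, e3, e4, ← pow_mod_two (hsq B) (_ + _), ← pow_mod_two (hsq A) (_ + _),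
    ← pow_mod_two (hsq C) (_ + _), ← pow_mod_two (hsq D) (_ + _), pow_add, pow_add, pow_add,
    pow_add]
  generalize B ^ (m.val / 2 % 2) = b1
  generalize B ^ (n.val / 2 % 2) = b2
  generalize A ^ (m.val % 2) = a1
  generalize A ^ (n.val % 2) = a2
  generalize C ^ (m.val / 4 % 2) = c1
  generalize C ^ (n.val / 4 % 2) = c2
  generalize D ^ (m.val / 8) = d1
  generalize D ^ (n.val / 8) = d2
  calc b1 * a1 * c1 * d1 * (b2 * a2 * c2 * d2)
      = (b1 * a1 * c1) * (b2 * a2 * c2) * (d1 * d2) := by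
        rw [(hc d1 (b2 * a2 * c2)).mul_mul_mul_comm]
    _ = _ := by
        rw [(hc c1 (b2 * a2)).mul_mul_mul_comm, (hc a1 b2).mul_mul_mul_comm]

end

/-- `⟨t, h₀⟩M`. -/
def rG {G : Type*} [Group G] (t p q z a h₀ : G) : Subgroup G := tG t p q z a ⊔ zpowers h₀

/-- `⟨h₀⟩M`. -/
def qG {G : Type*} [Group G] (p q z a h₀ : G) : Subgroup G := mG p q z a ⊔ zpowers h₀

/-- `⟨z, a⟩`. -/
def wG {G : Type*} [Group G] (z a : G) : Subgroup G := zpowers z ⊔ zpowers a

variable {G : Type*} [Group G] [Finite G] {t p q a b z σ τ k h₀ : G}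

namespace BCfg

variable (h : BCfg t p q a b z σ τ) (F : FourData t p q a b z k h₀)
include h F

theorem rG_mem {g : G} :
    g ∈ rG t p q z a h₀ ↔ g ∈ tG t p q z a ∨ h₀⁻¹ * g ∈ tG t p q z a := by
  refine mem_sup_zpowers ?_ fun y hy => by rw [← F.h₀T]; exact conj_mem_cmap hy
  rcases F.h₀sq with e | e <;> rw [e]
  exacts [one_mem _, Base.mG_le_tG (Base.uG_le_mG Side.z_mem)]

theorem h₀_not_T : h₀ ∉ tG t p q z a := by
  intro hin
  have e := F.h₀t
  rw [← h.toBase.central_t h₀ hin, mul_inv_cancel_right] at e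
  exact h.toBase.z_ne_one (mul_eq_left.mp e.symm)

theorem card_rG : Nat.card (rG t p q z a h₀) = 64 := by
  rw [rG, card_sup_zpowers (h.h₀_not_T F) (by
    rcases F.h₀sq with e | e <;> rw [e]
    exacts [one_mem _, Base.mG_le_tG (Base.uG_le_mG Side.z_mem)])
    (fun y hy => by rw [← F.h₀T]; exact conj_mem_cmap hy), h.toBase.card_tG]

omit [Finite G] in
theorem wG_le_T : wG z a ≤ tG t p q z a :=
  sup_le (zpowers_le.mpr (Base.mG_le_tG (Base.uG_le_mG Side.z_mem)))
    (zpowers_le.mpr (Base.mG_le_tG (Base.uG_le_mG Side.a_mem)))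

theorem wG_central {w x : G} (hw : w ∈ wG z a) (hx : x ∈ rG t p q z a h₀) : w * x = x * w := by
  have B := h.toBase
  have hle : wG z a ≤ centralizer ({x} : Set G) := by
    rcases (h.rG_mem F).mp hx with e | e
    · exact sup_le (zpowers_le.mpr (mem_centralizer_singleton_iff.mpr (B.central_z x e)))
        (zpowers_le.mpr (mem_centralizer_singleton_iff.mpr (B.central_a x e)))
    · have key : ∀ u ∈ mG p q z a, u * (h₀⁻¹ * x) = h₀⁻¹ * x * u → u * x = x * u := by
        intro u hu he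
        have := ((show Commute u h₀ from (F.h₀M u hu).symm).mul_right he).eq
        rwa [mul_inv_cancel_left] at this
      exact sup_le (zpowers_le.mpr (mem_centralizer_singleton_iff.mpr
          (key z (Base.uG_le_mG Side.z_mem) (B.central_z _ e))))
        (zpowers_le.mpr (mem_centralizer_singleton_iff.mpr
          (key a (Base.uG_le_mG Side.a_mem) (B.central_a _ e))))
  exact mem_centralizer_singleton_iff.mp (hle hw)

theorem sq_rG {x : G} (hx : x ∈ rG t p q z a h₀) : x * x = 1 ∨ x * x = z := by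
  have B := h.toBase
  rcases (h.rG_mem F).mp hx with e | e
  · exact B.sq_mem e
  · set u := h₀⁻¹ * x
    have hx' : x = h₀ * u := (mul_inv_cancel_left _ _).symm
    have hconj : h₀⁻¹ * u * h₀ = u ∨ h₀⁻¹ * u * h₀ = u * z := by
      rcases mem_tList.mp (B.mem_tG.mp e) with e' | e'
      · left
        rw [mul_assoc, ← F.h₀M u (B.mem_mG.mpr e'), inv_mul_cancel_left]
      · right
        set m := t⁻¹ * u
        have hm : m ∈ mG p q z a := B.mem_mG.mpr e'
        have hu : u = t * m := (mul_inv_cancel_left _ _).symm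
        have e1 : h₀⁻¹ * t * h₀ = t * z := by
          have e2 : h₀ * (t * z) * h₀⁻¹ = t := by
            rw [conj_prod, F.h₀t, conj_of_comm' (F.h₀M z (Base.uG_le_mG Side.z_mem)), mul_assoc,
              B.left.z2, mul_one]
          conv_lhs => rw [← e2]
          group
        calc h₀⁻¹ * u * h₀ = (h₀⁻¹ * t * h₀) * (h₀⁻¹ * (m * h₀)) := by rw [hu]; group
          _ = t * z * m := by rw [e1, ← F.h₀M m hm, inv_mul_cancel_left]
          _ = t * m * z := by
            rw [mul_assoc t z m, B.central_z m (Base.mG_le_tG hm), ← mul_assoc]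
          _ = u * z := by rw [← hu]
    have hz := B.central_z u e
    have e3 : x * x = h₀ * h₀ * (h₀⁻¹ * u * h₀ * u) := by rw [hx']; group
    have hu2 : ∀ w, w = u ∨ w = u * z → w * u = 1 ∨ w * u = z := by
      rintro w (rfl | rfl)
      · exact B.sq_mem e
      · rcases B.sq_mem e with e4 | e4 <;>
          rw [mul_assoc, hz, ← mul_assoc, e4] <;> simp [B.left.z2]
    rw [e3]
    rcases F.h₀sq with e4 | e4 <;> rcases hu2 _ hconj with e5 | e5 <;> rw [e4, e5] <;>
      simp [B.left.z2]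

theorem conj_rG {x y : G} (hx : x ∈ rG t p q z a h₀) (hy : y ∈ rG t p q z a h₀) :
    x * y * x⁻¹ = y ∨ x * y * x⁻¹ = y * z :=
  conj_of_squares (fun _ hu => h.sq_rG F hu) h.toBase.left.z2
    (fun _ hu => h.wG_central F (mem_sup_left (mem_zpowers z)) hu) hx hy

theorem gens_mem : t ∈ rG t p q z a h₀ ∧ h₀ ∈ rG t p q z a h₀ ∧ p ∈ rG t p q z a h₀ ∧
    q ∈ rG t p q z a h₀ :=
  ⟨mem_sup_left (mem_sup_right (mem_zpowers t)), mem_sup_right (mem_zpowers h₀),
    mem_sup_left (Base.mG_le_tG (Base.uG_le_mG Side.p_mem)),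
    mem_sup_left (Base.mG_le_tG (mem_sup_right (mem_zpowers q)))⟩

theorem el_mem (n : Fin 16) : el t h₀ p q n ∈ rG t p q z a h₀ := by
  obtain ⟨h1, h2, h3, h4⟩ := h.gens_mem F
  exact mul_mem (mul_mem (mul_mem (pow_mem h2 _) (pow_mem h1 _)) (pow_mem h3 _)) (pow_mem h4 _)

theorem wG_le_rG : wG z a ≤ rG t p q z a h₀ := le_trans (h.wG_le_T F) le_sup_left

theorem cls_mem {n : Fin 16} {x : G} (hx : Cls t h₀ p q (wG z a) n x) :
    x ∈ rG t p q z a h₀ := by
  rw [← mul_inv_cancel_left (el t h₀ p q n) x]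
  exact mul_mem (h.el_mem F n) (h.wG_le_rG F hx)

theorem el_mul_mem (m n : Fin 16) :
    (el t h₀ p q (xr4 m n))⁻¹ * (el t h₀ p q m * el t h₀ p q n) ∈ wG z a := by
  set R := rG t p q z a h₀
  set W' := (wG z a).subgroupOf R
  have hn : W'.Normal := ⟨fun w hw g => by
    rw [mem_subgroupOf] at hw ⊢
    have e : (g : G) * (w : G) * (g : G)⁻¹ = w := by
      rw [← h.wG_central F hw g.2, mul_inv_cancel_right]
    simpa [e] using hw⟩
  have hsq : ∀ x : R ⧸ W', x * x = 1 := by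
    intro x
    induction x using QuotientGroup.induction_on with
    | H g =>
      rw [← QuotientGroup.mk_mul, QuotientGroup.eq_one_iff, mem_subgroupOf, Subgroup.coe_mul]
      rcases h.sq_rG F g.2 with e | e <;> rw [e]
      exacts [one_mem _, mem_sup_left (mem_zpowers z)]
  obtain ⟨h1, h2, h3, h4⟩ := h.gens_mem F
  let e' : Fin 16 → R := fun i => el ⟨t, h1⟩ ⟨h₀, h2⟩ ⟨p, h3⟩ ⟨q, h4⟩ i
  have hval : ∀ i, ((e' i : R) : G) = el t h₀ p q i := fun i => by
    simp [e', el]
  have hπ : ∀ i, (QuotientGroup.mk' W') (e' i) = el ((QuotientGroup.mk' W') ⟨t, h1⟩)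
      ((QuotientGroup.mk' W') ⟨h₀, h2⟩) ((QuotientGroup.mk' W') ⟨p, h3⟩)
      ((QuotientGroup.mk' W') ⟨q, h4⟩) i := fun i => by
    simp only [e', el, map_mul, map_pow]
  have hmem : (e' (xr4 m n))⁻¹ * (e' m * e' n) ∈ W' := by
    rw [← QuotientGroup.eq_one_iff]
    change (QuotientGroup.mk' W') _ = 1
    rw [map_mul, map_inv, map_mul, hπ, hπ, hπ, el_mul hsq, inv_mul_cancel]
  rw [mem_subgroupOf] at hmem
  simpa [hval] using hmem

theorem cls_mul {m n : Fin 16} {x y : G} (hx : Cls t h₀ p q (wG z a) m x)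
    (hy : Cls t h₀ p q (wG z a) n y) : Cls t h₀ p q (wG z a) (xr4 m n) (x * y) := by
  set u := (el t h₀ p q m)⁻¹ * x
  have hu : u * el t h₀ p q n = el t h₀ p q n * u := h.wG_central F hx (h.el_mem F n)
  have e : (el t h₀ p q (xr4 m n))⁻¹ * (x * y) =
      (el t h₀ p q (xr4 m n))⁻¹ * (el t h₀ p q m * el t h₀ p q n) *
        (u * ((el t h₀ p q n)⁻¹ * y)) := by
    have ex : x = el t h₀ p q m * u := (mul_inv_cancel_left _ _).symm
    calc (el t h₀ p q (xr4 m n))⁻¹ * (x * y)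
        = (el t h₀ p q (xr4 m n))⁻¹ * el t h₀ p q m * (u * el t h₀ p q n) *
            ((el t h₀ p q n)⁻¹ * y) := by rw [ex]; group
      _ = _ := by rw [hu]; group
  unfold Cls
  rw [e]
  exact mul_mem (h.el_mul_mem F m n) (mul_mem hx hy)

omit [Finite G] h F in
theorem cls_zero {w : G} (hw : w ∈ wG z a) : Cls t h₀ p q (wG z a) 0 w := by
  simpa [Cls, el] using hw

omit [Finite G] h F in
theorem cls_gens : Cls t h₀ p q (wG z a) 1 t ∧ Cls t h₀ p q (wG z a) 2 h₀ ∧
    Cls t h₀ p q (wG z a) 4 p ∧ Cls t h₀ p q (wG z a) 8 q := by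
  simp [Cls, el]

theorem cls_inv {n : Fin 16} {x : G} (hx : Cls t h₀ p q (wG z a) n x) :
    Cls t h₀ p q (wG z a) n x⁻¹ := by
  have h2 : x * x ∈ wG z a := by
    rcases h.sq_rG F (h.cls_mem F hx) with e | e <;> rw [e]
    exacts [one_mem _, mem_sup_left (mem_zpowers z)]
  have e : x⁻¹ = x * (x * x)⁻¹ := by group
  have := h.cls_mul F hx (cls_zero (t := t) (h₀ := h₀) (p := p) (q := q) ((wG z a).inv_mem h2))
  rw [show xr4 n 0 = n from (by decide : ∀ i, xr4 i 0 = i) n] at this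
  rwa [e]

theorem exists_cls {x : G} (hx : x ∈ rG t p q z a h₀) : ∃ n, Cls t h₀ p q (wG z a) n x := by
  let S : Subgroup G :=
    { carrier := {x | ∃ n, Cls t h₀ p q (wG z a) n x}
      one_mem' := ⟨0, cls_zero (one_mem _)⟩
      mul_mem' := fun ⟨m, hm⟩ ⟨n, hn⟩ => ⟨_, h.cls_mul F hm hn⟩
      inv_mem' := fun ⟨m, hm⟩ => ⟨m, h.cls_inv F hm⟩ }
  obtain ⟨g1, g2, g3, g4⟩ := cls_gens (t := t) (h₀ := h₀) (p := p) (q := q) (z := z) (a := a)
  have hle : rG t p q z a h₀ ≤ S := by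
    simp only [rG, tG, mG, uG, sup_le_iff, zpowers_le]
    exact ⟨⟨⟨⟨⟨⟨4, g3⟩, ⟨0, cls_zero (mem_sup_left (mem_zpowers z))⟩⟩,
      ⟨0, cls_zero (mem_sup_right (mem_zpowers a))⟩⟩, ⟨8, g4⟩⟩, ⟨1, g1⟩⟩, ⟨2, g2⟩⟩
  exact hle hx

theorem el_not_W : ∀ n, el t h₀ p q n ∈ wG z a → n = 0 := by
  intro n hn
  have B := h.toBase
  obtain ⟨i, hi, j, hj, k', hk', l, hl, hn'⟩ : ∃ i < 2, ∃ j < 2, ∃ k' < 2, ∃ l < 2,
      n.val % 2 = i ∧ n.val / 2 % 2 = j ∧ n.val / 4 % 2 = k' ∧ n.val / 8 = l :=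
    ⟨_, Nat.mod_lt _ (by norm_num), _, Nat.mod_lt _ (by norm_num), _, Nat.mod_lt _ (by norm_num),
      _, by omega, rfl, rfl, rfl, rfl⟩
  obtain ⟨e1, e2, e3, e4⟩ := hn'
  simp only [el, e1, e2, e3, e4] at hn
  have hT : tG t p q z a = tG t p q z a := rfl
  have hqm : q ∈ mG p q z a := mem_sup_right (mem_zpowers q)
  have hpm : p ∈ mG p q z a := Base.uG_le_mG Side.p_mem
  have hm : p ^ k' * q ^ l ∈ mG p q z a := mul_mem (pow_mem hpm _) (pow_mem hqm _)
  have hWM : wG z a ≤ mG p q z a := sup_le (zpowers_le.mpr (Base.uG_le_mG Side.z_mem))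
    (zpowers_le.mpr (Base.uG_le_mG Side.a_mem))
  have hj0 : j = 0 := by
    by_contra hne
    rw [show j = 1 by omega, pow_one] at hn
    have h' := mul_mem ((h.wG_le_T F) hn) (inv_mem (mul_mem (mul_mem
      (pow_mem (mem_sup_right (mem_zpowers t) : t ∈ tG t p q z a) i)
      (pow_mem (Base.mG_le_tG hpm) k')) (pow_mem (Base.mG_le_tG hqm) l)))
    exact h.h₀_not_T F (by simpa [mul_assoc] using h')
  rw [hj0, pow_zero, one_mul] at hn
  have hi0 : i = 0 := by
    by_contra hne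
    rw [show i = 1 by omega, pow_one, mul_assoc] at hn
    exact B.t_not_mem_mG (by simpa [mul_assoc] using mul_mem (hWM hn) (inv_mem hm))
  rw [hi0, pow_zero, one_mul] at hn
  have hcp := h.wG_central F hn (h.gens_mem F).2.2.1
  have hcq := h.wG_central F hn (h.gens_mem F).2.2.2
  have hkl : k' = 0 ∧ l = 0 := by
    rcases (show k' = 0 ∨ k' = 1 by omega) with rfl | rfl <;>
      rcases (show l = 0 ∨ l = 1 by omega) with rfl | rfl
    · exact ⟨rfl, rfl⟩
    all_goals exfalso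
    · simp only [pow_zero, pow_one, one_mul] at hcp; exact B.p_not_central hcp.symm
    · simp only [pow_zero, pow_one, mul_one] at hcq; exact B.p_not_central hcq
    · simp only [pow_one] at hcp
      rw [mul_assoc] at hcp
      exact B.p_not_central (mul_left_cancel hcp).symm
  rw [hj0] at e2; rw [hi0] at e1; rw [hkl.1] at e3; rw [hkl.2] at e4
  apply Fin.ext
  have := n.isLt
  simp only [Fin.val_zero]
  omega

theorem cls_unique {m n : Fin 16} {x : G} (hm : Cls t h₀ p q (wG z a) m x)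
    (hn : Cls t h₀ p q (wG z a) n x) : m = n := by
  have h1 := h.cls_mul F hm (h.cls_inv F hn)
  rw [mul_inv_cancel] at h1
  have h2 : el t h₀ p q (xr4 m n) ∈ wG z a := by
    have h3 := (wG z a).inv_mem h1
    simpa [Cls] using h3
  exact (by decide +kernel : ∀ i j, xr4 i j = 0 → i = j) m n (h.el_not_W F _ h2)

/-- Elements normalising `R` and `W` act linearly on the classes. -/
theorem cls_conj {g : G} {i j k' l : Fin 16}
    (hi : Cls t h₀ p q (wG z a) i (g * t * g⁻¹))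
    (hj : Cls t h₀ p q (wG z a) j (g * h₀ * g⁻¹))
    (hk : Cls t h₀ p q (wG z a) k' (g * p * g⁻¹))
    (hl : Cls t h₀ p q (wG z a) l (g * q * g⁻¹))
    (hW : ∀ w ∈ wG z a, g * w * g⁻¹ ∈ wG z a)
    {n : Fin 16} {x : G} (hx : Cls t h₀ p q (wG z a) n x) :
    Cls t h₀ p q (wG z a) (lin4 i j k' l n) (g * x * g⁻¹) := by
  have e0 : ∀ (y : G) (d : ℕ) (c : Fin 16), d < 2 → Cls t h₀ p q (wG z a) c (g * y * g⁻¹) →
      Cls t h₀ p q (wG z a) (if d = 1 then c else 0) (g * y ^ d * g⁻¹) := by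
    intro y d c hd hc
    interval_cases d
    · simpa using cls_zero (t := t) (h₀ := h₀) (p := p) (q := q) (one_mem (wG z a))
    · simpa using hc
  have ex : x = el t h₀ p q n * ((el t h₀ p q n)⁻¹ * x) := (mul_inv_cancel_left _ _).symm
  have hw := cls_zero (t := t) (h₀ := h₀) (p := p) (q := q) (hW _ hx)
  have h1 := h.cls_mul F (h.cls_mul F (h.cls_mul F (h.cls_mul F
    (e0 h₀ _ j (Nat.mod_lt (n.val / 2) (by norm_num)) hj)
    (e0 t _ i (Nat.mod_lt n.val (by norm_num)) hi))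
    (e0 p _ k' (Nat.mod_lt (n.val / 4) (by norm_num)) hk))
    (e0 q (n.val / 8) l (by omega) hl)) hw
  have e : g * x * g⁻¹ = g * h₀ ^ (n.val / 2 % 2) * g⁻¹ * (g * t ^ (n.val % 2) * g⁻¹) *
      (g * p ^ (n.val / 4 % 2) * g⁻¹) * (g * q ^ (n.val / 8) * g⁻¹) *
      (g * ((el t h₀ p q n)⁻¹ * x) * g⁻¹) := by
    conv_lhs => rw [ex]
    simp only [el]; group
  rw [← e] at h1
  have hid : ∀ a b c d : Fin 16, xr4 (xr4 (xr4 (xr4 b a) c) d) 0 = xr4 (xr4 (xr4 a b) c) d :=
    xr4_shuffle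
  rwa [hid] at h1

/-- A class is in `⟨h₀⟩M` exactly when its first bit vanishes. -/
theorem cls_qG {n : Fin 16} {x : G} (hx : Cls t h₀ p q (wG z a) n x) :
    x ∈ qG p q z a h₀ ↔ n.val % 2 = 0 := by
  have hWQ : wG z a ≤ qG p q z a h₀ := sup_le
    (zpowers_le.mpr (mem_sup_left (Base.uG_le_mG Side.z_mem)))
    (zpowers_le.mpr (mem_sup_left (Base.uG_le_mG Side.a_mem)))
  have hh : h₀ ∈ qG p q z a h₀ := mem_sup_right (mem_zpowers h₀)
  have hp' : p ∈ qG p q z a h₀ := mem_sup_left (Base.uG_le_mG Side.p_mem)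
  have hq' : q ∈ qG p q z a h₀ := mem_sup_left (mem_sup_right (mem_zpowers q))
  have htQ : t ∉ qG p q z a h₀ := by
    intro ht
    rw [qG, mem_sup_zpowers (by
      rcases F.h₀sq with e | e <;> rw [e]
      exacts [one_mem _, Base.uG_le_mG Side.z_mem])
      (fun y hy => by rw [F.h₀M y hy, mul_inv_cancel_right]; exact hy)] at ht
    rcases ht with e | e
    · exact h.toBase.t_not_mem_mG e
    · refine h.h₀_not_T F ?_
      have h' := mul_mem (mem_sup_right (mem_zpowers t) : t ∈ tG t p q z a)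
        (inv_mem (Base.mG_le_tG e))
      simpa [tG, mul_assoc] using h'
  have hel : el t h₀ p q n ∈ qG p q z a h₀ ↔ n.val % 2 = 0 := by
    rw [el, mul_mem_cancel_right (pow_mem hq' _), mul_mem_cancel_right (pow_mem hp' _),
      mul_mem_cancel_left (pow_mem hh _)]
    rcases Nat.mod_two_eq_zero_or_one n.val with e | e <;> rw [e]
    · simp
    · simpa using htQ
  rw [← hel, ← mul_inv_cancel_left (el t h₀ p q n) x]
  conv_rhs => rw [← mul_mem_cancel_right (hWQ hx)]

/-- An element normalising `R` and fixing a conjugate of `t` in it lies in it. -/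
theorem stab_rG {s g : G} (hs : IsConj t s) (hsR : s ∈ rG t p q z a h₀)
    (hg : ∀ x ∈ rG t p q z a h₀, g * x * g⁻¹ ∈ rG t p q z a h₀) (hfix : g * s * g⁻¹ = s) :
    g ∈ rG t p q z a h₀ := by
  have B := h.toBase
  set R := rG t p q z a h₀
  set X := R ⊓ centralizer ({s} : Set G)
  have hgR : cmap g R = R := eq_of_card (fun y hy => by
    have := hg _ (mem_cmap.mp hy); simpa [mul_assoc] using this) (card_cmap g R)
  obtain ⟨g₀, hg₀⟩ := isConj_iff.mp hs
  have hCs : Nat.card (centralizer ({s} : Set G)) = Nat.card (centralizer ({t} : Set G)) := by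
    rw [← card_cmap g₀ (centralizer ({t} : Set G))]
    congr 2
    ext x
    rw [mem_cmap, mem_centralizer_singleton_iff, mem_centralizer_singleton_iff, ← hg₀]
    constructor
    · intro e; simpa [mul_assoc] using congrArg (fun w => g₀⁻¹ * w * g₀) e
    · intro e; simpa [mul_assoc] using congrArg (fun w => g₀ * w * g₀⁻¹) e
  have hX64 : Nat.card X ≠ 64 := by
    intro e
    have h1 := Subgroup.card_dvd_of_le (inf_le_right : X ≤ centralizer ({s} : Set G))
    obtain ⟨m, hm, hC⟩ := B.card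
    rw [e, hCs, hC] at h1
    obtain ⟨d, hd⟩ := h1
    obtain ⟨j, hj⟩ := hm
    omega
  have hX : Nat.card X = 32 := by
    by_cases hr : ∃ r ∈ R, r ∉ X
    · obtain ⟨r, hr1, hr2⟩ := hr
      have hmv : ∀ u ∈ R, u ∉ X → u * s * u⁻¹ = s * z := fun u hu hu' =>
        (h.conj_rG F hu hsR).resolve_left fun e =>
          hu' ⟨hu, mem_centralizer_singleton_iff.mpr (comm_of_conj e)⟩
      have h2 := card_eq_two_mul (inf_le_left : X ≤ R) hr1 hr2 fun u hu => by
        by_cases hu' : u ∈ X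
        · exact Or.inl hu'
        · refine Or.inr ⟨R.mul_mem (R.inv_mem hr1) hu,
            mem_centralizer_singleton_iff.mpr (comm_of_conj ?_)⟩
          calc r⁻¹ * u * s * (r⁻¹ * u)⁻¹ = r⁻¹ * (u * s * u⁻¹) * r := by group
            _ = r⁻¹ * (r * s * r⁻¹) * r := by rw [hmv u hu hu', hmv r hr1 hr2]
            _ = s := by group
      rw [h.card_rG F] at h2
      change 64 = 2 * Nat.card X at h2
      omega
    · push Not at hr
      have : X = R := le_antisymm inf_le_left hr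
      exact absurd (this ▸ h.card_rG F) hX64
  obtain ⟨g', hg', hg'T⟩ := B.sylow_adjust hs inf_le_right hX
  have hgX : cmap g X = X := eq_of_card (fun y hy => by
    obtain ⟨h1, h2⟩ := mem_cmap.mp hy
    refine ⟨hgR ▸ mem_cmap.mpr h1, mem_centralizer_singleton_iff.mpr ?_⟩
    have h3 := mem_centralizer_singleton_iff.mp h2
    have h4 : g⁻¹ * s * g = s := by
      conv_lhs => rw [← hfix]
      group
    rw [← h4] at h3
    simpa [mul_assoc] using congrArg (fun w => g * w * g⁻¹) h3) (card_cmap g X)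
  have hinT := B.normC_T (g := g'⁻¹ * g * g') (comm_of_conj (by
      calc g'⁻¹ * g * g' * t * (g'⁻¹ * g * g')⁻¹
          = g'⁻¹ * (g * (g' * t * g'⁻¹) * g⁻¹) * g' := by group
        _ = t := by rw [hg', hfix, ← hg']; group))
    (by rw [cmap_mul, cmap_mul, show cmap g' (tG t p q z a) = X from hg'T, hgX,
      ← show cmap g' (tG t p q z a) = X from hg'T, ← cmap_mul, inv_mul_cancel, cmap_one])
  have hh := conj_mem_cmap (g := g') hinT
  rw [hg'T] at hh
  have := hh.1
  simpa [mul_assoc] using this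

end BCfg

end Cfsg.Agent.InvolTimesSym
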