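import Cfsg.Agent.Lib.InvolTimesSym.BFourSetup

/-!
# The intransitive case: no conjugate of `t` induces a translation

Otherwise a subgroup of order `128` of `N(E)` has a homomorphism onto `ℤ/2` with twenty odd
conjugates of `t`.
-/

set_option autoImplicit false
set_option maxRecDepth 20000

namespace Cfsg.Agent.InvolTimesSym

open Subgroup Equiv

variable {G : Type*} [Group G] [Finite G] {t p q a b z σ τ k h₀ : G}

omit [Finite G] in
theorem conj_closed {X : Subgroup G} {x : G} (h : X ≤ cmap x⁻¹ X) :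
    ∀ y ∈ X, x * y * x⁻¹ ∈ X := fun y hy => by
  have := mem_cmap.mp (h hy)
  rwa [inv_inv] at this

omit [Finite G] in
theorem card_zpowers_le {x : G} (h : x * x = 1) [Finite G] : Nat.card (zpowers x) ≤ 2 := by
  rw [Nat.card_zpowers]
  exact orderOf_le_of_pow_eq_one (by norm_num) (by rw [pow_two, h])

theorem two_mul_card_le {X Y : Subgroup G} (h : X ≤ Y) {g : G} (hg : g ∈ Y) (hgX : g ∉ X) :
    2 * Nat.card X ≤ Nat.card Y := by
  obtain ⟨d, hd⟩ := Subgroup.card_dvd_of_le h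
  have hne : Nat.card X ≠ Nat.card Y := fun e => hgX (eq_of_card h e ▸ hg)
  rcases Nat.lt_or_ge d 2 with h2 | h2
  · interval_cases d
    · have := Nat.card_pos (α := Y); omega
    · simp only [mul_one] at hd; exact absurd hd.symm hne
  · rw [hd, mul_comm]; exact Nat.mul_le_mul_left _ h2

omit [Finite G] in
theorem mul_mem_iff_index_two {H N : Subgroup G} {x : G}
    (h : ∀ g ∈ H, g ∈ N ∨ x⁻¹ * g ∈ N) {g g' : G} (hg : g ∈ H) (hg' : g' ∈ H) :
    g * g' ∈ N ↔ (g ∈ N ↔ g' ∈ N) := by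
  constructor
  · intro e
    exact ⟨fun e1 => by simpa using N.mul_mem (N.inv_mem e1) e,
      fun e1 => by simpa using N.mul_mem e (N.inv_mem e1)⟩
  · intro e
    by_cases e1 : g ∈ N
    · exact N.mul_mem e1 (e.mp e1)
    · by_contra hgg
      have e2 : g' ∉ N := fun q => e1 (e.mpr q)
      have a1 := (h g hg).resolve_left e1
      have a2 := (h _ (H.mul_mem hg hg')).resolve_left hgg
      have := N.mul_mem (N.inv_mem a1) a2
      exact e2 (by simpa [mul_assoc] using this)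

theorem centraliser_invol : ∀ π : Perm (Fin 4), π * π = 1 →
    π * (swap 0 1 * swap 2 3) = (swap 0 1 * swap 2 3) * π →
    π = 1 ∨ π = swap 2 3 ∨ π = swap 0 1 ∨ π = swap 0 1 * swap 2 3 ∨
      π = swap 0 2 * swap 1 3 ∨ π = swap 0 3 * swap 1 2 := by decide +kernel

namespace BCfg

variable (h : BCfg t p q a b z σ τ)
include h

set_option maxHeartbeats 1600000 in
theorem translation_free (h8 : ¬ h.Eight) (F : FourData t p q a b z k h₀)
    {s₀ : G} (hs₀ : IsConj t s₀) (hs₀E : h₀⁻¹ * s₀ ∈ eG t p z a) : False := by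
  classical
  have B := h.toBase
  have ha := h.acts_four h8
  obtain ⟨v0, v1, v2, v3, v4, v5, v6, v7⟩ := B.uAt_vals
  set U := fun n => uAt p z a n
  have hh0U : ∀ n, h₀ * uAt p z a n * h₀⁻¹ = uAt p z a n := fun n =>
    conj_of_comm' (F.h₀M _ (Base.uG_le_mG (B.left.mem_uG.mpr (B.left.mem_uList_iff.mpr ⟨n, rfl⟩))))
  have hh0z : h₀ * z * h₀⁻¹ = z := by have := hh0U 2; rwa [v2] at this
  have htz : ∀ n, t * z * uAt p z a n = t * uAt p z a (xr 2 n) := fun n => by
    rw [mul_assoc, ← B.left.uAt_mul, v2]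
  -- permutations
  set H0 := normalizer (eG t p z a : Set G)
  have hperm : ∀ (g : G) (hg : g ∈ H0) (π : Fin 4 → Fin 4),
      (∀ i, g * fourPts t p z a i * g⁻¹ = fourPts t p z a (π i)) → ∀ i, ha.hom ⟨g, hg⟩ i = π i :=
    fun g hg π e i => ha.hom_eq _ _ _ (e i)
  have ph0 : ha.hom ⟨h₀, F.h₀E⟩ = swap 0 1 * swap 2 3 := by
    refine Equiv.ext fun i => hperm h₀ F.h₀E (fun i => (swap 0 1 * swap 2 3 : Perm (Fin 4)) i)
      (fun i => ?_) i
    rw [fourPts, conj_prod, F.h₀t, hh0U, htz, fourPts]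
    congr 2
    revert i; decide
  have hσ : σ ∈ H0 := B.σ_mem_normC.1
  have hq : q ∈ H0 := B.q_mem_normC.1
  set hh := σ * σ * h₀ * (σ * σ)⁻¹
  have hhH : hh ∈ H0 := mul_mem (mul_mem (mul_mem hσ hσ) F.h₀E) (inv_mem (mul_mem hσ hσ))
  have phh : ha.hom ⟨hh, hhH⟩ = swap 0 2 * swap 1 3 := by
    have e : (⟨hh, hhH⟩ : H0) = ⟨σ, hσ⟩ * ⟨σ, hσ⟩ * ⟨h₀, F.h₀E⟩ * (⟨σ, hσ⟩ * ⟨σ, hσ⟩)⁻¹ := rfl
    rw [e, map_mul, map_mul, map_inv, map_mul, B.four_σ ha, ph0]
    decide
  have hσσ : ∀ n, σ * σ * uAt p z a n * (σ * σ)⁻¹ = uAt p z a (lin 4 5 3 n) := by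
    intro n
    rw [show σ * σ * uAt p z a n * (σ * σ)⁻¹ = σ * (σ * uAt p z a n * σ⁻¹) * σ⁻¹ by group,
      B.conj_σ_uAt, B.conj_σ_uAt]
    congr 1; revert n; decide
  have hσσt : σ * σ * t * (σ * σ)⁻¹ = t :=
    conj_of_comm' (((show Commute σ t from B.left.tσ.symm).mul_left B.left.tσ.symm).eq)
  have hσσi : (σ * σ)⁻¹ * t * (σ * σ) = t := by
    conv_lhs => rw [← hσσt]
    group
  have hht : hh * t * hh⁻¹ = t * (p * a) := by
    calc hh * t * hh⁻¹ = σ * σ * (h₀ * ((σ * σ)⁻¹ * t * (σ * σ)) * h₀⁻¹) * (σ * σ)⁻¹ := by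
          simp only [hh]; generalize σ * σ = w; group
      _ = t * uAt p z a (lin 4 5 3 2) := by
        rw [hσσi, F.h₀t, conj_prod, hσσt, ← hσσ 2, v2]
      _ = _ := by rw [show lin 4 5 3 2 = 5 from by decide, v5]
  have hhU : ∀ n, hh * uAt p z a n * hh⁻¹ = uAt p z a n := by
    intro n
    obtain ⟨m, rfl⟩ : ∃ m, lin 4 5 3 m = n := (by decide : ∀ n, ∃ m, lin 4 5 3 m = n) n
    calc hh * uAt p z a (lin 4 5 3 m) * hh⁻¹
        = σ * σ * (h₀ * ((σ * σ)⁻¹ * (σ * σ * uAt p z a m * (σ * σ)⁻¹) * (σ * σ)) * h₀⁻¹) *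
            (σ * σ)⁻¹ := by rw [hσσ]; simp only [hh]; generalize σ * σ = w; group
      _ = σ * σ * (h₀ * uAt p z a m * h₀⁻¹) * (σ * σ)⁻¹ := by group
      _ = _ := by rw [hh0U, hσσ]
  have hhz : hh * z * hh⁻¹ = z := by have := hhU 2; rwa [v2] at this
  set c := q⁻¹ * (hh * q * hh⁻¹)
  have hcH : c ∈ H0 := mul_mem (inv_mem hq) (mul_mem (mul_mem hhH hq) (inv_mem hhH))
  set e := h₀⁻¹ * c
  have he : e ∈ eG t p z a := by
    have := (B.four_ker ha (⟨h₀, F.h₀E⟩⁻¹ * ⟨c, hcH⟩)).mp (by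
      have e' : (⟨c, hcH⟩ : H0) = ⟨q, hq⟩⁻¹ * (⟨hh, hhH⟩ * ⟨q, hq⟩ * ⟨hh, hhH⟩⁻¹) := rfl
      rw [e', map_mul, map_inv, map_mul, map_inv, map_mul, map_mul, map_inv, ph0, phh,
        B.four_q ha]
      decide)
    simpa using this
  have hce : c = h₀ * e := (mul_inv_cancel_left _ _).symm
  have hct : c * t * c⁻¹ = t * z := by
    rw [hce, show h₀ * e * t * (h₀ * e)⁻¹ = h₀ * (e * t * e⁻¹) * h₀⁻¹ by group,
      conj_of_comm' (B.eG_comm he Base.t_mem_eG), F.h₀t]
  have hcU : ∀ n, c * uAt p z a n * c⁻¹ = uAt p z a n := fun n => by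
    rw [hce, show h₀ * e * uAt p z a n * (h₀ * e)⁻¹ = h₀ * (e * uAt p z a n * e⁻¹) * h₀⁻¹ by group,
      conj_of_comm' (B.eG_comm he (B.uAt_mem n)), hh0U]
  have qT : q ∈ tG t p q z a := Base.mG_le_tG (mem_sup_right (mem_zpowers q))
  have hcq : c * q * c⁻¹ = q ∨ c * q * c⁻¹ = q * z := by
    rw [hce, show h₀ * e * q * (h₀ * e)⁻¹ = h₀ * (e * q * e⁻¹) * h₀⁻¹ by group]
    have h0q : h₀ * q * h₀⁻¹ = q := conj_of_comm' (F.h₀M q (mem_sup_right (mem_zpowers q)))
    rcases conj_of_squares (fun x hx => B.sq_mem hx) B.left.z2 B.central_z (Base.eG_le_tG he) qT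
      with e' | e' <;> rw [e']
    · exact Or.inl h0q
    · exact Or.inr (by rw [conj_prod, h0q, ← v2, hh0U, v2])
  have hc2 : c * c = 1 ∨ c * c = z := by
    have he' : h₀⁻¹ * e * h₀ * e = 1 ∨ h₀⁻¹ * e * h₀ * e = z := by
      obtain ⟨n, hn | hn⟩ := B.mem_E_iff.mp he <;> rw [← hn]
      · left
        conv_lhs => arg 1; arg 1; arg 2; rw [← hh0U n]
        rw [← B.eG_sq (B.uAt_mem n)]; group
      · right
        have e1 : h₀⁻¹ * (t * uAt p z a n) * h₀ = t * z * uAt p z a n := by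
          have e2 : h₀ * (t * z * uAt p z a n) * h₀⁻¹ = t * uAt p z a n := by
            rw [conj_prod, conj_prod, F.h₀t, hh0z, hh0U, mul_assoc t z z, B.left.z2, mul_one]
          conv_lhs => rw [← e2]
          group
        have hzu : Commute z (t * uAt p z a n) := B.central_z _ (Base.eG_le_tG (B.t_uAt_mem n))
        rw [e1, show t * z = z * t from B.left.zt, mul_assoc z t, mul_assoc z,
          B.eG_sq (B.t_uAt_mem n), mul_one]
    have e1 : c * c = h₀ * h₀ * (h₀⁻¹ * e * h₀ * e) := by rw [hce]; group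
    rw [e1]
    rcases F.h₀sq with e2 | e2 <;> rcases he' with e3 | e3 <;> rw [e2, e3] <;>
      simp [B.left.z2]
  -- the subgroup of index two
  set X1 := zpowers t ⊔ zpowers z
  set X2 := X1 ⊔ zpowers (p * a)
  set X3 := X2 ⊔ zpowers q
  set X4 := X3 ⊔ zpowers c
  set N := X4 ⊔ zpowers hh
  have gz1 : z ∈ X1 := mem_sup_right (mem_zpowers z)
  have gt1 : t ∈ X1 := mem_sup_left (mem_zpowers t)
  have gz2 : z ∈ X2 := mem_sup_left gz1
  have gt2 : t ∈ X2 := mem_sup_left gt1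
  have gpa2 : p * a ∈ X2 := mem_sup_right (mem_zpowers _)
  have gq3 : q ∈ X3 := mem_sup_right (mem_zpowers _)
  have gc4 : c ∈ X4 := mem_sup_right (mem_zpowers _)
  have hzc : Commute z t := B.left.zt.symm
  have hpat : Commute (p * a) t :=
    (show Commute p t from B.left.tp.symm).mul_left B.left.ta.symm
  have hpaz : Commute (p * a) z := (show Commute p z from B.left.pz).mul_left B.left.za.symm
  have n2 : ∀ y ∈ zpowers t, z * y * z⁻¹ ∈ zpowers t := conj_closed (by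
    rw [zpowers_le, mem_cmap, inv_inv, hzc.eq, mul_inv_cancel_right]; exact mem_zpowers t)
  have n3 : ∀ y ∈ X1, p * a * y * (p * a)⁻¹ ∈ X1 := conj_closed (by
    refine sup_le ?_ ?_ <;> rw [zpowers_le, mem_cmap, inv_inv]
    · rw [hpat.eq, mul_inv_cancel_right]; exact gt1
    · rw [hpaz.eq, mul_inv_cancel_right]; exact gz1)
  have qt : q * t * q⁻¹ = t := conj_of_comm' B.left.tq.symm
  have qz' : q * z * q⁻¹ = z := conj_of_comm' B.right.pz
  have qpa : q * (p * a) * q⁻¹ = p * a * z := by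
    rw [← v5, B.conj_q_uAt, show lin 3 2 4 5 = xr 5 2 from by decide, ← B.left.uAt_mul, v2]
  have n4 : ∀ y ∈ X2, q * y * q⁻¹ ∈ X2 := conj_closed (by
    refine sup_le (sup_le ?_ ?_) ?_ <;> rw [zpowers_le, mem_cmap, inv_inv]
    · rw [qt]; exact gt2
    · rw [qz']; exact gz2
    · rw [qpa]; exact mul_mem gpa2 gz2)
  have n5 : ∀ y ∈ X3, c * y * c⁻¹ ∈ X3 := conj_closed (by
    refine sup_le (sup_le (sup_le ?_ ?_) ?_) ?_ <;> rw [zpowers_le, mem_cmap, inv_inv]
    · rw [hct]; exact mul_mem (mem_sup_left gt2) (mem_sup_left gz2)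
    · rw [← v2, hcU, v2]; exact mem_sup_left gz2
    · rw [← v5, hcU, v5]; exact mem_sup_left gpa2
    · rcases hcq with e' | e' <;> rw [e']
      exacts [gq3, mul_mem gq3 (mem_sup_left gz2)])
  have hhq : hh * q * hh⁻¹ = q * c := (mul_inv_cancel_left _ _).symm
  have hh2 : hh * hh = 1 ∨ hh * hh = p * a := by
    have e1 : hh * hh = σ * σ * (h₀ * h₀) * (σ * σ)⁻¹ := by simp only [hh]; generalize σ * σ = w; group
    rw [e1]
    rcases F.h₀sq with e2 | e2 <;> rw [e2]
    · left; group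
    · right; rw [← v2, hσσ, show lin 4 5 3 2 = 5 from by decide, v5]
  have n6 : ∀ y ∈ X4, hh * y * hh⁻¹ ∈ X4 := conj_closed (by
    refine sup_le (sup_le (sup_le (sup_le ?_ ?_) ?_) ?_) ?_ <;> rw [zpowers_le, mem_cmap, inv_inv]
    · rw [hht]; exact mul_mem (mem_sup_left (mem_sup_left gt2)) (mem_sup_left (mem_sup_left gpa2))
    · rw [← v2, hhU, v2]; exact mem_sup_left (mem_sup_left gz2)
    · rw [← v5, hhU, v5]; exact mem_sup_left (mem_sup_left gpa2)
    · rw [hhq]; exact mul_mem (mem_sup_left gq3) gc4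
    · have hmem : hh * hh ∈ X4 := by
        rcases hh2 with e' | e' <;> rw [e']
        exacts [one_mem _, mem_sup_left (mem_sup_left gpa2)]
      have e1 : hh * c * hh⁻¹ =
          (hh * q * hh⁻¹)⁻¹ * (hh * hh * q * (hh * hh)⁻¹) := by simp only [c]; group
      rw [e1, hhq]
      exact mul_mem (inv_mem (mul_mem (mem_sup_left gq3) gc4))
        (mul_mem (mul_mem hmem (mem_sup_left gq3)) (inv_mem hmem)))
  have s1 : Nat.card X1 ≤ 4 := le_trans (card_sup_zpowers_le (by rw [B.left.z2]; exact one_mem _) n2)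
    (by have := card_zpowers_le B.t2; omega)
  have s2 : Nat.card X2 ≤ 8 := le_trans (card_sup_zpowers_le (by
    rw [← v5, B.eG_sq (B.uAt_mem 5)]; exact one_mem _) n3) (by omega)
  have s3 : Nat.card X3 ≤ 16 := le_trans (card_sup_zpowers_le
    (by rw [B.right.p2]; exact one_mem _) n4) (by omega)
  have s4 : Nat.card X4 ≤ 32 := le_trans (card_sup_zpowers_le (by
    rcases hc2 with e' | e' <;> rw [e']
    exacts [one_mem _, mem_sup_left gz2]) n5) (by omega)
  have s5 : Nat.card N ≤ 64 := le_trans (card_sup_zpowers_le (by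
    rcases hh2 with e' | e' <;> rw [e']
    exacts [one_mem _, mem_sup_left (mem_sup_left gpa2)]) n6) (by omega)
  have gtN : t ∈ N := mem_sup_left (mem_sup_left (mem_sup_left gt2))
  have gzN : z ∈ N := mem_sup_left (mem_sup_left (mem_sup_left gz2))
  have gpaN : p * a ∈ N := mem_sup_left (mem_sup_left (mem_sup_left gpa2))
  have gqN : q ∈ N := mem_sup_left (mem_sup_left gq3)
  have gcN : c ∈ N := mem_sup_left gc4
  have ghN : hh ∈ N := mem_sup_right (mem_zpowers hh)
  set H := N ⊔ zpowers p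
  have hp2 : p * p = 1 := B.left.p2
  have n7 : ∀ y ∈ N, p * y * p⁻¹ ∈ N := conj_closed (by
    refine sup_le (sup_le (sup_le (sup_le (sup_le ?_ ?_) ?_) ?_) ?_) ?_ <;>
      rw [zpowers_le, mem_cmap, inv_inv]
    · rw [conj_of_comm' B.left.tp.symm]; exact gtN
    · rw [conj_of_comm' B.left.pz]; exact gzN
    · rw [conj_of_comm' (show p * (p * a) = p * a * p by rw [mul_assoc p a p, ← B.left.pa])]
      exact gpaN
    · rw [inv_of_sq B.left.p2, B.right.qpq]; exact mul_mem gqN gzN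
    · have e1 : p * c * p⁻¹ = c := by
        apply conj_of_comm'
        rw [← v1]; exact (comm_of_conj (hcU 1)).symm
      rw [e1]; exact gcN
    · have e1 : p * hh * p⁻¹ = hh := by
        apply conj_of_comm'
        rw [← v1]; exact (comm_of_conj (hhU 1)).symm
      rw [e1]; exact ghN)
  have sH : Nat.card H ≤ 2 * Nat.card N :=
    card_sup_zpowers_le (by rw [hp2]; exact one_mem _) n7
  have gaH : a ∈ H := by
    have e1 : a = p * (p * a) := by rw [← mul_assoc, hp2, one_mul]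
    rw [e1]; exact mul_mem (mem_sup_right (mem_zpowers p)) (mem_sup_left gpaN)
  have hUH : uG p z a ≤ H := by
    simp only [uG, sup_le_iff, zpowers_le]
    exact ⟨⟨mem_sup_right (mem_zpowers p), mem_sup_left gzN⟩, gaH⟩
  have hEH : eG t p z a ≤ H := sup_le hUH (zpowers_le.mpr (mem_sup_left gtN))
  have hTH : tG t p q z a ≤ H := sup_le (sup_le hUH (zpowers_le.mpr (mem_sup_left gqN)))
    (zpowers_le.mpr (mem_sup_left gtN))
  have gh0H : h₀ ∈ H := by
    have e1 : h₀ = c * e⁻¹ := by rw [hce, mul_inv_cancel_right]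
    rw [e1]; exact mul_mem (mem_sup_left gcN) (inv_mem (hEH he))
  have sH' : 128 ≤ Nat.card H := by
    have hXH : tG t p q z a ⊔ zpowers h₀ ≤ H := sup_le hTH (zpowers_le.mpr gh0H)
    have hn : ∀ y ∈ tG t p q z a, h₀ * y * h₀⁻¹ ∈ tG t p q z a := fun y hy => by
      rw [← F.h₀T]; exact conj_mem_cmap hy
    have hsq : h₀ * h₀ ∈ tG t p q z a := by
      rcases F.h₀sq with e' | e' <;> rw [e']
      exacts [one_mem _, Base.mG_le_tG (Base.uG_le_mG Side.z_mem)]
    have hnot : h₀ ∉ tG t p q z a := by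
      intro hin
      have e' := F.h₀t
      rw [← B.central_t h₀ hin, mul_inv_cancel_right] at e'
      exact B.z_ne_one (mul_eq_left.mp e'.symm)
    have hc64 := card_sup_zpowers hnot hsq hn
    have hhX : hh ∉ tG t p q z a ⊔ zpowers h₀ := by
      intro hin
      have hval : hh * t * hh⁻¹ = t ∨ hh * t * hh⁻¹ = t * z := by
        rcases (mem_sup_zpowers hsq hn).mp hin with e' | e'
        · left; rw [← B.central_t hh e', mul_inv_cancel_right]
        · right
          calc hh * t * hh⁻¹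
              = h₀ * ((h₀⁻¹ * hh) * t * (h₀⁻¹ * hh)⁻¹) * h₀⁻¹ := by group
            _ = t * z := by rw [← B.central_t _ e', mul_inv_cancel_right, F.h₀t]
      rw [hht, ← v5] at hval
      have hval' : t * uAt p z a 5 = t ∨ t * uAt p z a 5 = t * uAt p z a 2 :=
        hval.imp id fun e' => e'.trans (by rw [v2])
      clear hval
      rename' hval' => hval
      rcases hval with e' | e'
      · have e2 : uAt p z a 5 = uAt p z a 0 := by rw [v0]; exact mul_eq_left.mp e'
        exact absurd (B.left.uAt_inj e2) (by decide)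
      · exact absurd (B.t_uAt_inj e') (by decide)
    have := two_mul_card_le hXH (mem_sup_left ghN) hhX
    rw [hc64, B.card_tG] at this
    omega
  have hcard : Nat.card H = 2 * Nat.card N := le_antisymm sH (by omega)
  have hNH : N ≤ H := le_sup_left
  have hpN : p ∉ N := by
    intro hin
    have : H = N := sup_eq_left.mpr (zpowers_le.mpr hin)
    rw [this] at sH'
    omega
  have hsplit : ∀ g ∈ H, g ∈ N ∨ p⁻¹ * g ∈ N := fun g hg =>
    (mem_sup_zpowers (by rw [hp2]; exact one_mem _) n7).mp hg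
  have hpH : p ∈ H := mem_sup_right (mem_zpowers p)
  have hmm : ∀ {g g'}, g ∈ H → g' ∈ H → (g * g' ∈ N ↔ (g ∈ N ↔ g' ∈ N)) := fun hg hg' =>
    mul_mem_iff_index_two hsplit hg hg'
  have hHn : H ≤ H0 := by
    have hgens : ∀ g, g ∈ eG t p z a → g ∈ H0 := fun g hg => Subgroup.le_normalizer hg
    simp only [H, N, X4, X3, X2, X1, sup_le_iff, zpowers_le]
    exact ⟨⟨⟨⟨⟨⟨hgens _ Base.t_mem_eG, hgens _ (mem_sup_left Side.z_mem)⟩,
      hgens _ (mem_sup_left (mul_mem Side.p_mem Side.a_mem))⟩, hq⟩, hcH⟩, hhH⟩,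
      hgens _ (mem_sup_left Side.p_mem)⟩
  -- the images commute with `(01)(23)`
  set D := Subgroup.comap ha.hom (centralizer ({(swap 0 1 * swap 2 3 : Perm (Fin 4))} : Set _))
  have hD : ∀ (g : G) (hg : g ∈ H), ha.hom ⟨g, hHn hg⟩ * (swap 0 1 * swap 2 3) =
      (swap 0 1 * swap 2 3) * ha.hom ⟨g, hHn hg⟩ := by
    have hle : H ≤ D.map H0.subtype := by
      have hE' : ∀ g (hg : g ∈ eG t p z a), (⟨g, Subgroup.le_normalizer hg⟩ : H0) ∈ D := by
        intro g hg
        rw [mem_comap, (B.four_ker ha _).mpr hg]; exact one_mem _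
      have hc' : (⟨c, hcH⟩ : H0) ∈ D := by
        have e1 : (⟨c, hcH⟩ : H0) = ⟨h₀, F.h₀E⟩ * ⟨e, Subgroup.le_normalizer he⟩ :=
          Subtype.ext hce
        rw [e1]
        exact mul_mem (by rw [mem_comap, ph0, mem_centralizer_singleton_iff]) (hE' e he)
      simp only [H, N, X4, X3, X2, X1, sup_le_iff, zpowers_le]
      refine ⟨⟨⟨⟨⟨⟨⟨_, hE' t Base.t_mem_eG, rfl⟩, ⟨_, hE' z (mem_sup_left Side.z_mem), rfl⟩⟩,
        ⟨_, hE' (p * a) (mem_sup_left (mul_mem Side.p_mem Side.a_mem)), rfl⟩⟩,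
        ⟨⟨q, hq⟩, ?_, rfl⟩⟩, ⟨_, hc', rfl⟩⟩, ⟨⟨hh, hhH⟩, ?_, rfl⟩⟩,
        ⟨_, hE' p (mem_sup_left Side.p_mem), rfl⟩⟩
      · rw [SetLike.mem_coe, mem_comap, B.four_q ha, mem_centralizer_singleton_iff]; decide
      · rw [SetLike.mem_coe, mem_comap, phh, mem_centralizer_singleton_iff]; decide
    intro g hg
    obtain ⟨g', hg', e'⟩ := hle hg
    have : g' = ⟨g, hHn hg⟩ := Subtype.ext e'
    exact mem_centralizer_singleton_iff.mp (this ▸ hg')
  -- the twenty elements
  have hd := two_mul_card_dvd B.no B.t2 hNH hcard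
  set f : G → Perm (Fin 4) := fun g => if hg : g ∈ H0 then ha.hom ⟨g, hg⟩ else 1
  set A := {s | s ∈ (H : Set G) \ (N : Set G) ∧ IsConj t s}
  have hA : conjCount t ((H : Set G) \ (N : Set G)) = A.ncard := Nat.card_coe_set_eq _
  have hfib : ∀ x ∈ H0, ∀ s ∈ H, f s = f x → x⁻¹ * s ∈ eG t p z a := by
    intro x hx s hs e'
    simp only [f, dif_pos hx, dif_pos (hHn hs)] at e'
    have := (B.four_ker ha (⟨x, hx⟩⁻¹ * ⟨s, hHn hs⟩)).mp (by
      rw [map_mul, map_inv, e', inv_mul_cancel])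
    simpa using this
  have hfib' : ∀ x ∈ H0, ∀ e' ∈ eG t p z a, f (x * e') = f x := by
    intro x hx e' he'
    have hxe : x * e' ∈ H0 := mul_mem hx (Subgroup.le_normalizer he')
    simp only [f, dif_pos hx, dif_pos hxe]
    rw [show (⟨x * e', hxe⟩ : H0) = ⟨x, hx⟩ * ⟨e', Subgroup.le_normalizer he'⟩ from rfl, map_mul,
      (B.four_ker ha ⟨e', Subgroup.le_normalizer he'⟩).mpr he', mul_one]
  have huH : ∀ n, uAt p z a n ∈ H := fun n => hEH (B.uAt_mem n)
  have huN : ∀ n, uAt p z a n ∈ N ↔ n ∈ ({0, 2, 5, 7} : Finset (Fin 8)) := by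
    have m0 : uAt p z a 0 ∈ N := v0 ▸ one_mem N
    have m2 : uAt p z a 2 ∈ N := by rw [v2]; exact gzN
    have m5 : uAt p z a 5 ∈ N := by rw [v5]; exact gpaN
    have m7 : uAt p z a 7 ∈ N := by
      rw [show (7 : Fin 8) = xr 2 5 from by decide, ← B.left.uAt_mul]; exact mul_mem m2 m5
    have hin : ∀ n ∈ ({0, 2, 5, 7} : Finset (Fin 8)), uAt p z a n ∈ N := by
      intro n hn
      simp only [Finset.mem_insert, Finset.mem_singleton] at hn
      rcases hn with rfl | rfl | rfl | rfl <;> assumption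
    intro n
    refine ⟨fun hn => ?_, hin n⟩
    by_contra hout
    have hx : xr n 1 ∈ ({0, 2, 5, 7} : Finset (Fin 8)) :=
      (by decide : ∀ m : Fin 8, m ∉ ({0, 2, 5, 7} : Finset (Fin 8)) →
        xr m 1 ∈ ({0, 2, 5, 7} : Finset (Fin 8))) n hout
    have := mul_mem (inv_mem hn) (hin _ hx)
    rw [← B.left.uAt_mul, inv_mul_cancel_left, v1] at this
    exact hpN this
  -- translation cosets
  have hCoset : ∀ x ∈ H, (∀ n, x * uAt p z a n * x⁻¹ = uAt p z a n) → x * t * x⁻¹ ≠ t →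
      ∀ s₁, IsConj t s₁ → x⁻¹ * s₁ ∈ eG t p z a →
      (A ∩ {s | f s = f x}).ncard = 4 := by
    intro x hxH hxU hxt s₁ hs₁ hs₁E
    have hx := hHn hxH
    have hs₁H : s₁ ∈ H := by
      rw [← mul_inv_cancel_left x s₁]; exact mul_mem hxH (hEH hs₁E)
    have hs₁U : ∀ n, s₁ * uAt p z a n = uAt p z a n * s₁ := by
      intro n
      rw [← mul_inv_cancel_left x s₁]
      exact ((show Commute x (uAt p z a n) from comm_of_conj (hxU n)).mul_left
        (B.eG_comm hs₁E (B.uAt_mem n))).eq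
    have hK : ∀ n, IsConj t (s₁ * uAt p z a n) := by
      intro n
      by_cases hn : n = 0
      · rw [hn, v0, mul_one]; exact hs₁
      · refine (h.bax s₁ _ hs₁ (B.eG_sq (B.uAt_mem n))
          (fun e' => hn (B.left.uAt_inj (e'.trans v0.symm)))
          (fun e' => h.nK n (e' ▸ hs₁)) (hs₁U n)).mpr (h.nK n)
    have hall : A ∩ {s | f s = f x} = (fun n => s₁ * uAt p z a n) ''
        {n | ¬ (s₁ ∈ N ↔ uAt p z a n ∈ N)} := by
      ext s
      constructor
      · rintro ⟨⟨⟨hsH, hsN⟩, hsK⟩, hfs⟩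
        have hd' : s₁⁻¹ * s ∈ eG t p z a := by
          have e1 : s₁⁻¹ * s = (x⁻¹ * s₁)⁻¹ * (x⁻¹ * s) := by group
          rw [e1]; exact mul_mem (inv_mem hs₁E) (hfib x hx s hsH hfs)
        obtain ⟨n, hn | hn⟩ := B.mem_E_iff.mp hd'
        · refine ⟨n, fun e' => hsN ?_, ?_⟩
          · rw [← mul_inv_cancel_left s₁ s, ← hn]
            exact (hmm hs₁H (huH n)).mpr e'
          · simp only; rw [hn, mul_inv_cancel_left]
        · exfalso
          have hs2 := h.sq_of_K hsK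
          have e1 : s = s₁ * (t * uAt p z a n) := by rw [hn, mul_inv_cancel_left]
          have hfix : s₁ * (t * uAt p z a n) * s₁⁻¹ = t * uAt p z a n := by
            rw [e1] at hs2
            have hu := inv_of_sq (B.eG_sq (B.t_uAt_mem n))
            have hs1 := inv_of_sq (h.sq_of_K hs₁)
            have e3 : s₁ * (t * uAt p z a n) * s₁ = (t * uAt p z a n)⁻¹ :=
              eq_inv_of_mul_eq_one_left (by rw [mul_assoc]; exact hs2)
            rw [hs1, e3, hu]
          rw [conj_prod, conj_of_comm' (hs₁U n)] at hfix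
          apply hxt
          have e2 : x = s₁ * (x⁻¹ * s₁)⁻¹ := by group
          rw [e2, show s₁ * (x⁻¹ * s₁)⁻¹ * t * (s₁ * (x⁻¹ * s₁)⁻¹)⁻¹ =
            s₁ * ((x⁻¹ * s₁)⁻¹ * t * (x⁻¹ * s₁)⁻¹⁻¹) * s₁⁻¹ by group,
            conj_of_comm' (B.eG_comm (inv_mem hs₁E) Base.t_mem_eG)]
          exact mul_right_cancel hfix
      · rintro ⟨n, hn, rfl⟩
        refine ⟨⟨⟨mul_mem hs₁H (huH n), fun e' => hn ((hmm hs₁H (huH n)).mp e')⟩, hK n⟩, ?_⟩
        change f (s₁ * uAt p z a n) = f x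
        rw [← mul_inv_cancel_left x s₁, mul_assoc]
        exact hfib' x hx _ (mul_mem hs₁E (B.uAt_mem n))
    rw [hall, Set.ncard_image_of_injective _ (fun m n e' => B.left.uAt_inj (mul_left_cancel e'))]
    by_cases hsN : s₁ ∈ N
    · have : {n | ¬ (s₁ ∈ N ↔ uAt p z a n ∈ N)} = (↑({1, 3, 4, 6} : Finset (Fin 8)) : Set _) := by
        ext n; simp only [Set.mem_ofPred_eq, Finset.mem_coe, hsN, true_iff, huN]
        revert n; decide
      rw [this, Set.ncard_coe_finset]; rfl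
    · have : {n | ¬ (s₁ ∈ N ↔ uAt p z a n ∈ N)} = (↑({0, 2, 5, 7} : Finset (Fin 8)) : Set _) := by
        ext n; simp only [Set.mem_ofPred_eq, Finset.mem_coe, hsN, false_iff, not_not, huN]
      rw [this, Set.ncard_coe_finset]; rfl
  -- the coset of `E`
  have hF1 : (A ∩ {s | f s = 1}).ncard = 4 := by
    have hall : A ∩ {s | f s = 1} = (fun n => t * uAt p z a n) ''
        (↑({1, 3, 4, 6} : Finset (Fin 8)) : Set _) := by
      ext s
      constructor
      · rintro ⟨⟨⟨hsH, hsN⟩, hsK⟩, hfs⟩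
        have hsE : s ∈ eG t p z a := by
          have := hfib 1 (one_mem _) s hsH (by
            rw [show f 1 = 1 from by simp only [f, dif_pos (one_mem H0)]; exact map_one _]
            exact hfs)
          simpa using this
        obtain ⟨n, hn⟩ := (h.K_eG_iff hsE).mp hsK
        refine ⟨n, ?_, hn⟩
        have h1 : n ∉ ({0, 2, 5, 7} : Finset (Fin 8)) := fun e' => hsN (by
          rw [← hn]; exact mul_mem gtN ((huN n).mpr e'))
        exact (by decide : ∀ m : Fin 8, m ∉ ({0, 2, 5, 7} : Finset (Fin 8)) →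
          m ∈ ({1, 3, 4, 6} : Finset (Fin 8))) n h1
      · rintro ⟨n, hn, rfl⟩
        refine ⟨⟨⟨mul_mem (mem_sup_left gtN) (huH n), fun e' => ?_⟩, h.K_tu n⟩, ?_⟩
        · have : uAt p z a n ∈ N := by simpa using mul_mem (inv_mem gtN) e'
          exact (by decide : ∀ m ∈ ({1, 3, 4, 6} : Finset (Fin 8)),
            m ∉ ({0, 2, 5, 7} : Finset (Fin 8))) n hn ((huN n).mp this)
        · change f (t * uAt p z a n) = 1
          have hm' : t * uAt p z a n ∈ H0 := Subgroup.le_normalizer (B.t_uAt_mem n)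
          simp only [f, dif_pos hm']
          exact (B.four_ker ha _).mpr (B.t_uAt_mem n)
    rw [hall, Set.ncard_image_of_injective _ (fun m n e' => B.t_uAt_inj e'), Set.ncard_coe_finset]
    rfl
  have hF2 : (A ∩ {s | f s = swap 2 3}).ncard = 2 := by
    have hfq : f q = swap 2 3 := (dif_pos hq).trans (B.four_q ha)
    have hall : A ∩ {s | f s = swap 2 3} = {t * (q * a), t * (q * b)} := by
      ext s
      constructor
      · rintro ⟨⟨⟨hsH, hsN⟩, hsK⟩, hfs⟩
        have hd' := hfib q hq s hsH (hfs.trans hfq.symm)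
        obtain ⟨n, hn | hn⟩ := B.mem_E_iff.mp hd'
        · refine absurd ?_ (h.nK_M (m := q * uAt p z a n) (mul_mem (mem_sup_right (mem_zpowers q))
            (Base.uG_le_mG (B.left.mem_uG.mpr (B.left.mem_uList_iff.mpr ⟨n, rfl⟩)))))
          rw [hn, mul_inv_cancel_left]; exact hsK
        · have e1 : s = t * (q * uAt p z a n) := by
            rw [← mul_assoc, B.left.tq, mul_assoc, hn, mul_inv_cancel_left]
          have hqu : q * uAt p z a n * (q * uAt p z a n) = 1 := by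
            have h2 := h.sq_of_K hsK
            have hc' : Commute t (q * uAt p z a n) :=
              B.t_comm_m (mul_mem (mem_sup_right (mem_zpowers q))
                (Base.uG_le_mG (B.left.mem_uG.mpr (B.left.mem_uList_iff.mpr ⟨n, rfl⟩))))
            rwa [e1, hc'.symm.mul_mul_mul_comm, B.t2, one_mul] at h2
          have hfx : q * uAt p z a n * q⁻¹ = uAt p z a n := by
            calc q * uAt p z a n * q⁻¹
                = (q * uAt p z a n * (q * uAt p z a n)) * (uAt p z a n)⁻¹ * (q * q)⁻¹ := by group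
              _ = uAt p z a n := by
                rw [hqu, B.right.p2, inv_of_sq (B.eG_sq (B.uAt_mem n)), one_mul, inv_one, mul_one]
          rw [B.conj_q_uAt] at hfx
          have hnN : n ∉ ({0, 2, 5, 7} : Finset (Fin 8)) := fun e' => hsN (by
            rw [e1]; exact mul_mem gtN (mul_mem gqN ((huN n).mpr e')))
          rcases (by decide : ∀ m : Fin 8, lin 3 2 4 m = m →
              m ∉ ({0, 2, 5, 7} : Finset (Fin 8)) → m = 4 ∨ m = 6) n (B.left.uAt_inj hfx) hnN with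
            e' | e' <;> rw [e1, e']
          · exact Or.inl (by rw [v4])
          · exact Or.inr (by rw [v6]; rfl)
      · intro hs
        have key : ∀ m, (m = 4 ∨ m = 6) →
            t * (q * uAt p z a m) ∈ A ∩ {s | f s = swap 2 3} := by
          intro m hm
          have hqm : q * uAt p z a m ∈ mG p q z a := mul_mem (mem_sup_right (mem_zpowers q))
            (Base.uG_le_mG (B.left.mem_uG.mpr (B.left.mem_uList_iff.mpr ⟨m, rfl⟩)))
          have hc' : Commute q (uAt p z a m) := comm_of_conj (by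
            rw [B.conj_q_uAt]; congr 1; rcases hm with rfl | rfl <;> decide)
          have h2 : q * uAt p z a m * (q * uAt p z a m) = 1 := by
            rw [hc'.symm.mul_mul_mul_comm, B.right.p2, B.eG_sq (B.uAt_mem m), one_mul]
          refine ⟨⟨⟨mul_mem (mem_sup_left gtN) (mul_mem (mem_sup_left gqN) (huH m)), fun e' => ?_⟩,
            h.K_tM hqm h2⟩, ?_⟩
          · have h3 : uAt p z a m ∈ N := by
              simpa using mul_mem (inv_mem gqN) (mul_mem (inv_mem gtN) e')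
            rcases hm with rfl | rfl <;> exact absurd ((huN _).mp h3) (by decide)
          · change f (t * (q * uAt p z a m)) = swap 2 3
            rw [← mul_assoc, B.left.tq, mul_assoc, hfib' q hq _ (B.t_uAt_mem m), hfq]
        simp only [Set.mem_insert_iff, Set.mem_singleton_iff] at hs
        rcases hs with rfl | rfl
        · have := key 4 (Or.inl rfl); rwa [v4] at this
        · have := key 6 (Or.inr rfl); rwa [v6] at this
    rw [hall, Set.ncard_pair]
    intro e'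
    have := mul_left_cancel (mul_left_cancel e')
    rw [← v4, ← v6] at this
    exact absurd (B.left.uAt_inj this) (by decide)
  have hF3 : (A ∩ {s | f s = swap 0 1}).ncard = 2 := by
    rw [← hF2]
    have hconj : ∀ x, x ∈ A → hh * x * hh⁻¹ ∈ A ∧ hh⁻¹ * x * hh ∈ A := by
      rintro x ⟨⟨hxH, hxN⟩, hxK⟩
      refine ⟨⟨⟨mul_mem (mul_mem (mem_sup_left ghN) hxH) (inv_mem (mem_sup_left ghN)),
        fun e' => hxN ?_⟩, (isConj_conj t hh x).mpr hxK⟩,
        ⟨mul_mem (mul_mem (inv_mem (mem_sup_left ghN)) hxH) (mem_sup_left ghN),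
        fun e' => hxN ?_⟩, ?_⟩
      · simpa [mul_assoc] using mul_mem (mul_mem (inv_mem ghN) e') ghN
      · simpa [mul_assoc] using mul_mem (mul_mem ghN e') (inv_mem ghN)
      · have := (isConj_conj t hh⁻¹ x).mpr hxK
        rwa [inv_inv] at this
    have hf : ∀ x ∈ H, f (hh * x * hh⁻¹) = (swap 0 2 * swap 1 3) * f x * (swap 0 2 * swap 1 3)⁻¹ := by
      intro x hx
      have hm' : hh * x * hh⁻¹ ∈ H0 := mul_mem (mul_mem hhH (hHn hx)) (inv_mem hhH)
      simp only [f, dif_pos hm', dif_pos (hHn hx)]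
      rw [show (⟨hh * x * hh⁻¹, hm'⟩ : H0) = ⟨hh, hhH⟩ * ⟨x, hHn hx⟩ * ⟨hh, hhH⟩⁻¹ from rfl,
        map_mul, map_mul, map_inv, phh]
    refine (Set.ncard_congr (fun x _ => hh * x * hh⁻¹) ?_ ?_ ?_).symm
    · rintro x ⟨hx, hfx⟩
      refine ⟨(hconj x hx).1, ?_⟩
      change f _ = _
      rw [hf x hx.1.1, show f x = swap 2 3 from hfx]; decide
    · intro x y _ _ e'; exact mul_left_cancel (mul_right_cancel e')
    · rintro y ⟨hy, hfy⟩
      have hy' := (hconj y hy).2
      refine ⟨hh⁻¹ * y * hh, ⟨hy', ?_⟩, by group⟩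
      have e' := hf _ hy'.1.1
      rw [show hh * (hh⁻¹ * y * hh) * hh⁻¹ = y by group, show f y = swap 0 1 from hfy] at e'
      change f _ = _
      have e2 : f (hh⁻¹ * y * hh) =
          (swap 0 2 * swap 1 3 : Perm (Fin 4))⁻¹ * swap 0 1 * (swap 0 2 * swap 1 3) := by
        rw [e']; group
      rw [e2]; decide
  have hT1 := hCoset h₀ gh0H hh0U (fun e' => B.z_ne_one
    (mul_eq_left.mp (F.h₀t.symm.trans e'))) s₀ hs₀ hs₀E
  have hσE : ∀ {g x : G}, g ∈ H0 → x ∈ eG t p z a → g * x * g⁻¹ ∈ eG t p z a :=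
    fun hg hx => (cmap_mem_iff hg _).mp hx
  have hT2 := hCoset hh (mem_sup_left ghN) hhU (fun e' => by
      rw [hht, ← v5] at e'
      have e2 : uAt p z a 5 = uAt p z a 0 := by rw [v0]; exact mul_eq_left.mp e'
      exact absurd (B.left.uAt_inj e2) (by decide))
    (σ * σ * s₀ * (σ * σ)⁻¹) ((isConj_conj t _ _).mpr hs₀) (by
      have e1 : hh⁻¹ * (σ * σ * s₀ * (σ * σ)⁻¹) = σ * σ * (h₀⁻¹ * s₀) * (σ * σ)⁻¹ := by
        simp only [hh]; generalize σ * σ = w; group
      rw [e1]; exact hσE (mul_mem hσ hσ) hs₀E)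
  -- the third translation
  set h1 := σ * h₀ * σ⁻¹
  have h1H0 : h1 ∈ H0 := mul_mem (mul_mem hσ F.h₀E) (inv_mem hσ)
  have ph1 : ha.hom ⟨h1, h1H0⟩ = swap 0 3 * swap 1 2 := by
    rw [show (⟨h1, h1H0⟩ : H0) = ⟨σ, hσ⟩ * ⟨h₀, F.h₀E⟩ * ⟨σ, hσ⟩⁻¹ from rfl, map_mul, map_mul,
      map_inv, B.four_σ ha, ph0]
    decide
  have h1E : (hh * h₀)⁻¹ * h1 ∈ eG t p z a := by
    have := (B.four_ker ha ((⟨hh, hhH⟩ * ⟨h₀, F.h₀E⟩)⁻¹ * ⟨h1, h1H0⟩)).mp (by
      rw [map_mul, map_inv, map_mul, phh, ph0, ph1]; decide)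
    simpa using this
  have hgU : ∀ n, hh * h₀ * uAt p z a n * (hh * h₀)⁻¹ = uAt p z a n := fun n => by
    rw [show hh * h₀ * uAt p z a n * (hh * h₀)⁻¹ = hh * (h₀ * uAt p z a n * h₀⁻¹) * hh⁻¹ by group,
      hh0U, hhU]
  have hT3 := hCoset (hh * h₀) (mul_mem (mem_sup_left ghN) gh0H) hgU (fun e' => by
      rw [show hh * h₀ * t * (hh * h₀)⁻¹ = hh * (h₀ * t * h₀⁻¹) * hh⁻¹ by group, F.h₀t,
        conj_prod, hht, hhz, mul_assoc] at e'
      rw [← v5] at e'
      have e3 : uAt p z a 5 * z = uAt p z a (xr 5 2) := by rw [← B.left.uAt_mul, v2]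
      rw [e3] at e'
      have e2 : uAt p z a (xr 5 2) = uAt p z a 0 := by rw [v0]; exact mul_eq_left.mp e'
      exact absurd (B.left.uAt_inj e2) (by decide))
    (σ * s₀ * σ⁻¹) ((isConj_conj t _ _).mpr hs₀) (by
      have e1 : (hh * h₀)⁻¹ * (σ * s₀ * σ⁻¹) =
          (hh * h₀)⁻¹ * h1 * (σ * (h₀⁻¹ * s₀) * σ⁻¹) := by simp only [h1]; group
      rw [e1]; exact mul_mem h1E (hσE hσ hs₀E))
  have pf0 : f h₀ = swap 0 1 * swap 2 3 := (dif_pos F.h₀E).trans ph0
  have pfh : f hh = swap 0 2 * swap 1 3 := by simp only [f, dif_pos hhH]; exact phh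
  have pfhh0 : f (hh * h₀) = swap 0 3 * swap 1 2 := by
    have hm' : hh * h₀ ∈ H0 := mul_mem hhH F.h₀E
    simp only [f, dif_pos hm']
    rw [show (⟨hh * h₀, hm'⟩ : H0) = ⟨hh, hhH⟩ * ⟨h₀, F.h₀E⟩ from rfl, map_mul, phh, ph0]
    decide
  rw [pf0] at hT1
  rw [pfh] at hT2
  rw [pfhh0] at hT3
  have hcover : A = (A ∩ {s | f s = 1}) ∪ (A ∩ {s | f s = swap 2 3}) ∪
      (A ∩ {s | f s = swap 0 1}) ∪ (A ∩ {s | f s = swap 0 1 * swap 2 3}) ∪
      (A ∩ {s | f s = swap 0 2 * swap 1 3}) ∪ (A ∩ {s | f s = swap 0 3 * swap 1 2}) := by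
    ext s
    constructor
    · intro hs
      have hsH := hs.1.1
      have hfs : f s = ha.hom ⟨s, hHn hsH⟩ := by simp only [f, dif_pos (hHn hsH)]
      have h2 : f s * f s = 1 := by
        rw [hfs, ← map_mul]
        exact (congrArg ha.hom (Subtype.ext (h.sq_of_K hs.2))).trans (map_one _)
      have hcm : f s * (swap 0 1 * swap 2 3) = (swap 0 1 * swap 2 3) * f s := by
        rw [hfs]; exact hD s hsH
      rcases centraliser_invol (f s) h2 hcm with e' | e' | e' | e' | e' | e'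
      · exact Or.inl (Or.inl (Or.inl (Or.inl (Or.inl ⟨hs, e'⟩))))
      · exact Or.inl (Or.inl (Or.inl (Or.inl (Or.inr ⟨hs, e'⟩))))
      · exact Or.inl (Or.inl (Or.inl (Or.inr ⟨hs, e'⟩)))
      · exact Or.inl (Or.inl (Or.inr ⟨hs, e'⟩))
      · exact Or.inl (Or.inr ⟨hs, e'⟩)
      · exact Or.inr ⟨hs, e'⟩
    · rintro (((((hs | hs) | hs) | hs) | hs) | hs) <;> exact hs.1
  have hdj : ∀ π π' : Perm (Fin 4), π ≠ π' →
      Disjoint (A ∩ {s | f s = π}) (A ∩ {s | f s = π'}) := fun π π' hne =>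
    Set.disjoint_left.mpr fun x hx hx' => hne (hx.2.symm.trans hx'.2)
  have hN1 : A.ncard = 20 := by
    rw [hcover, Set.ncard_union_eq, Set.ncard_union_eq, Set.ncard_union_eq, Set.ncard_union_eq,
      Set.ncard_union_eq, hF1, hF2, hF3, hT1, hT2, hT3]
    all_goals try simp only [Set.disjoint_union_left]
    all_goals
      first
        | exact hdj _ _ (by decide)
        | exact ⟨hdj _ _ (by decide), hdj _ _ (by decide)⟩
        | exact ⟨⟨hdj _ _ (by decide), hdj _ _ (by decide)⟩, hdj _ _ (by decide)⟩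
        | exact ⟨⟨⟨hdj _ _ (by decide), hdj _ _ (by decide)⟩, hdj _ _ (by decide)⟩,
            hdj _ _ (by decide)⟩
        | exact ⟨⟨⟨⟨hdj _ _ (by decide), hdj _ _ (by decide)⟩, hdj _ _ (by decide)⟩,
            hdj _ _ (by decide)⟩, hdj _ _ (by decide)⟩
  rw [hA, hN1] at hd
  obtain ⟨m, hm, hC⟩ := B.card
  rw [hC] at hd
  have hH128 : Nat.card H = 128 := by omega
  rw [hH128] at hd
  obtain ⟨d, hd'⟩ := hd
  obtain ⟨j, hj⟩ := hm
  omega

end BCfg

end Cfsg.Agent.InvolTimesSym
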