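import Cfsg.Agent.Lib.InvolTimesSym.Frame

/-!
# The normaliser of `T` and the centre of `T`; impossible fusion patterns
-/

set_option autoImplicit false

namespace Cfsg.Agent.InvolTimesSym

open Subgroup

variable {G : Type*} [Group G] [Finite G] {t p q a b z σ τ : G}

namespace Base

variable (B : Base t p q a b z σ τ)
include B

omit [Finite G] in
theorem comm_tW {g : G} (hp : g * p = p * g) (hq : g * q = q * g) (ha : g * a = a * g)
    (ht : g * t = t * g) : ∀ x ∈ tG t p q z a, g * x = x * g := by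
  have hz : g * z = z * g := by
    have e : z = p * (q * p * q) := by rw [B.left.qpq, ← mul_assoc, B.left.p2, one_mul]
    have c1 : Commute g p := hp
    have c2 : Commute g q := hq
    rw [e]; exact (c1.mul_right ((c2.mul_right c1).mul_right c2)).eq
  intro x hx
  have h : tG t p q z a ≤ centralizer ({g} : Set G) := by
    simp only [tG, mG, uG, sup_le_iff, zpowers_le, mem_centralizer_singleton_iff]
    exact ⟨⟨⟨⟨hp.symm, hz.symm⟩, ha.symm⟩, hq.symm⟩, ht.symm⟩
  exact (mem_centralizer_singleton_iff.mp (h hx)).symm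

omit [Finite G] in
theorem z_ne_one : z ≠ 1 := by
  intro h
  have hn : ([1, p, z, p * z, a, p * a, z * a, p * z * a] : List G).Nodup :=
    B.left.nodup.of_append_left.of_append_left
  simp [h] at hn

omit [Finite G] in
theorem uAt_vals : uAt p z a 0 = 1 ∧ uAt p z a 1 = p ∧ uAt p z a 2 = z ∧ uAt p z a 3 = p * z ∧
    uAt p z a 4 = a ∧ uAt p z a 5 = p * a ∧ uAt p z a 6 = b ∧ uAt p z a 7 = p * z * a := by
  rw [← B.left.az, ← B.left.za]
  simp [uAt]

omit [Finite G] in
theorem conj_q_uAt (n : Fin 8) : q * uAt p z a n * q⁻¹ = uAt p z a (lin 3 2 4 n) := by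
  obtain ⟨-, -, h2, h3, h4, -⟩ := B.uAt_vals
  refine B.left.conj_uAt ?_ ?_ ?_ n
  · rw [h3, inv_of_sq B.right.p2, B.left.qpq]
  · rw [h2]; exact conj_of_comm' B.right.pz
  · rw [h4]; exact conj_of_comm' B.left.qa

omit [Finite G] in
theorem conj_q_u {u : G} (hu : u ∈ uList p z a) : q * u * q⁻¹ = u ∨ q * u * q⁻¹ = u * z := by
  obtain ⟨n, rfl⟩ := B.left.mem_uList_iff.mp hu
  rw [B.conj_q_uAt]
  have h : ∀ n : Fin 8, lin 3 2 4 n = n ∨ lin 3 2 4 n = xr n 2 := by decide
  rcases h n with h | h
  · exact Or.inl (by rw [h])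
  · exact Or.inr (by rw [h, ← B.left.uAt_mul, B.uAt_vals.2.2.1])

theorem sq_mem {x : G} (hx : x ∈ tG t p q z a) : x * x = 1 ∨ x * x = z := by
  have hM : ∀ m ∈ mList p q z a, m * m = 1 ∨ m * m = z := by
    intro m hm
    rw [mList, List.mem_append, List.mem_map] at hm
    rcases hm with hm | ⟨u, hu, rfl⟩
    · exact Or.inl (B.eG_sq (mem_sup_left (B.left.mem_uG.mpr hm)))
    · have h2 : u * u = 1 := B.eG_sq (mem_sup_left (B.left.mem_uG.mpr hu))
      have e : q * u * (q * u) = (q * u * q⁻¹) * u * ((u⁻¹ * (q * q) * u)) := by group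
      rw [B.right.p2] at e
      rcases B.conj_q_u hu with h | h
      · left; rw [e, h, h2]; group
      · right
        have hc : Commute z u := by
          have hu' := hu
          simp only [uList, List.mem_cons, List.not_mem_nil, or_false] at hu'
          have c1 : Commute z p := B.left.pz.symm
          have c2 : Commute z a := B.left.za
          have c3 : Commute z z := Commute.refl z
          rcases hu' with rfl | rfl | rfl | rfl | rfl | rfl | rfl | rfl
          · exact Commute.one_right z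
          · exact c1
          · exact c3
          · exact c1.mul_right c3
          · exact c2
          · exact c1.mul_right c2
          · exact c3.mul_right c2
          · exact (c1.mul_right c3).mul_right c2
        rw [e, h, mul_assoc u z u, hc.eq, ← mul_assoc u u z, h2]; group
  rw [B.mem_tG, mem_tList] at hx
  rcases hx with h | h
  · exact hM x h
  · have hc : Commute t (t⁻¹ * x) := B.t_comm_m (B.mem_mG.mpr h)
    have e : x * x = t⁻¹ * x * (t⁻¹ * x) := by
      conv_lhs => rw [← mul_inv_cancel_left t x]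
      rw [hc.symm.mul_mul_mul_comm, B.t2, one_mul]
    rw [e]; exact hM _ h

theorem conj_z {g : G} (hg : cmap g (tG t p q z a) = tG t p q z a) : g * z * g⁻¹ = z := by
  have hx : g * (p * q) * g⁻¹ ∈ tG t p q z a := by
    rw [← hg]; apply conj_mem_cmap
    exact mG_le_tG (mul_mem (uG_le_mG Side.p_mem) (mem_sup_right (mem_zpowers q)))
  have e : p * q * (p * q) = z := by
    rw [mul_assoc, ← mul_assoc q, B.left.qpq, ← mul_assoc, B.left.p2, one_mul]
  have e2 : g * z * g⁻¹ = g * (p * q) * g⁻¹ * (g * (p * q) * g⁻¹) := by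
    calc g * z * g⁻¹ = g * (p * q * (p * q)) * g⁻¹ := by rw [e]
      _ = _ := by group
  rcases B.sq_mem hx with h | h
  · rw [h] at e2
    exact absurd (by simpa [mul_assoc] using congrArg (fun w => g⁻¹ * w * g) e2) B.z_ne_one
  · rw [e2, h]

omit [Finite G] in
theorem b_eq : b = a * z := B.left.az.symm

/-- The centre of `T` is `⟨t⟩ × {1, z, a, b}`. -/
theorem centre_T {g : G} (hg : g ∈ tG t p q z a) (hc : ∀ x ∈ tG t p q z a, g * x = x * g) :
    g ∈ tList t [1, z, a, b] := by
  have hE : g ∈ eG t p z a := B.cent_eG fun x hx => hc x (eG_le_tG hx)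
  rw [B.left.mem_eG B.t2] at hE
  have hq : g * q = q * g := hc q (mG_le_tG (mem_sup_right (mem_zpowers q)))
  have key : ∀ u ∈ uList p z a, q * u * q⁻¹ = u → u ∈ [1, z, a, b] := by
    intro u hu h
    obtain ⟨n, rfl⟩ := B.left.mem_uList_iff.mp hu
    rw [B.conj_q_uAt] at h
    have hn := B.left.uAt_inj h
    have := (by decide : ∀ m : Fin 8, lin 3 2 4 m = m → m = 0 ∨ m = 2 ∨ m = 4 ∨ m = 6) n hn
    obtain ⟨h0, -, h2, -, h4, -, h6, -⟩ := B.uAt_vals
    rcases this with rfl | rfl | rfl | rfl
    · simp [h0]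
    · simp [h2]
    · simp [h4]
    · simp [h6]
  rcases mem_tList.mp hE with h | h
  · exact mem_tList.mpr (Or.inl (key g h (conj_of_comm' hq.symm)))
  · refine mem_tList.mpr (Or.inr (key _ h (conj_of_comm' ?_)))
    have h1 : Commute q t := B.left.tq.symm
    have h2 : Commute q g := hq.symm
    exact (h1.inv_right.mul_right h2).eq

omit [Finite G] in
theorem central_t : ∀ x ∈ tG t p q z a, t * x = x * t :=
  fun _ hx => (mem_centralizer_singleton_iff.mp (B.tG_le hx)).symm

omit [Finite G] in
theorem central_a : ∀ x ∈ tG t p q z a, a * x = x * a :=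
  B.comm_tW B.left.pa.symm B.left.qa.symm rfl B.left.ta.symm

omit [Finite G] in
theorem central_z : ∀ x ∈ tG t p q z a, z * x = x * z :=
  B.comm_tW B.left.pz.symm B.right.pz.symm B.left.za B.left.zt.symm

omit [Finite G] in
theorem central_b : ∀ x ∈ tG t p q z a, b * x = x * b := by
  intro x hx
  rw [B.b_eq]
  exact ((show Commute a x from B.central_a x hx).mul_left (B.central_z x hx)).eq

omit [Finite G] B in
theorem central_mul {T : Subgroup G} {u v : G} (hu : ∀ x ∈ T, u * x = x * u)
    (hv : ∀ x ∈ T, v * x = x * v) : ∀ x ∈ T, u * v * x = x * (u * v) :=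
  fun x hx => ((show Commute u x from hu x hx).mul_left (hv x hx)).eq

omit [Finite G] B in
theorem central_conj {T : Subgroup G} {g u : G} (hg : cmap g T = T) (hu : ∀ x ∈ T, u * x = x * u) :
    ∀ x ∈ T, g * u * g⁻¹ * x = x * (g * u * g⁻¹) := by
  intro x hx
  rw [← hg, mem_cmap] at hx
  calc g * u * g⁻¹ * x = g * (u * (g⁻¹ * x * g)) * g⁻¹ := by group
    _ = g * ((g⁻¹ * x * g) * u) * g⁻¹ := by rw [hu _ hx]
    _ = x * (g * u * g⁻¹) := by group

theorem conj_centre {g u : G} (hg : cmap g (tG t p q z a) = tG t p q z a)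
    (hu : u ∈ tG t p q z a) (hc : ∀ x ∈ tG t p q z a, u * x = x * u) :
    g * u * g⁻¹ ∈ tList t [1, z, a, b] :=
  B.centre_T (by rw [← hg]; exact conj_mem_cmap hu) (central_conj hg hc)

/-- A central element of `T` conjugate to `t` is so inside `N(T)`. -/
theorem exists_normT {s : G} (hK : IsConj t s) (hc : ∀ x ∈ tG t p q z a, s * x = x * s) :
    ∃ g, g * t * g⁻¹ = s ∧ cmap g (tG t p q z a) = tG t p q z a :=
  B.sylow_adjust hK (fun x hx => mem_centralizer_singleton_iff.mpr (hc x hx).symm) B.card_tG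

theorem not_conj_z : ¬ IsConj t z := by
  intro h
  obtain ⟨g, hg, hT⟩ := B.exists_normT h B.central_z
  have h1 : g * z * g⁻¹ = g * t * g⁻¹ := by rw [B.conj_z hT, hg]
  exact B.t_not_mem_mG (mul_left_cancel (mul_right_cancel h1) ▸ uG_le_mG Side.z_mem)

/-- Fixed points on the centre of elements of `N(T)` outside `T`. -/
theorem normT_fix {g u : G} (hg : cmap g (tG t p q z a) = tG t p q z a) (hK : IsConj t u)
    (hc : ∀ x ∈ tG t p q z a, u * x = x * u) (hfix : g * u * g⁻¹ = u) :
    g ∈ tG t p q z a := by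
  obtain ⟨k, hk, hkT⟩ := B.exists_normT hK hc
  have hk' : cmap k⁻¹ (tG t p q z a) = tG t p q z a := by
    conv_lhs => rw [← hkT]
    rw [← cmap_mul, inv_mul_cancel, cmap_one]
  have h1 : k⁻¹ * g * k * t = t * (k⁻¹ * g * k) := by
    have h2 := comm_of_conj hfix
    rw [← hk] at h2
    simpa [mul_assoc] using congrArg (fun w => k⁻¹ * w * k) h2
  have h3 := B.normC_T h1 (by rw [cmap_mul, cmap_mul, hkT, hg, hk'])
  have h4 := conj_mem_cmap (g := k) h3
  rw [hkT] at h4
  simpa [mul_assoc] using h4

end Base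

end Cfsg.Agent.InvolTimesSym
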