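import Cfsg.Agent.Lib.InvolTimesSym.Patterns

/-!
# The two possible configurations of `t^G ∩ C(t)`

With `C(t) = ⟨t⟩ × L` and no subgroup of index `2`, the classes of involutions of `C(t)` conjugate
to `t` are `t·{1} ∪ t·(double transpositions)`, or, after replacing `L` by the other complement,
`t·({1} ∪ involutions of L)`.
-/

set_option autoImplicit false

namespace Cfsg.Agent.InvolTimesSym

open Subgroup

/-- `L` is the complement of `⟨t⟩` in the centraliser of `t`. -/
structure Emb {G L : Type*} [Group G] [Group L] (t : G) (ι : L →* G) : Prop where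
  inj : Function.Injective ι
  comm : ∀ l, t * ι l = ι l * t
  notmem : ∀ l, ι l ≠ t
  cent : ∀ g, g * t = t * g → ∃ l, g = ι l ∨ g = t * ι l
  t2 : t * t = 1

/-- The configuration with only `t·c` conjugate to `t`. -/
structure TwoCfg {G : Type*} [Group G] (t p q a b z σ τ : G) : Prop extends Base t p q a b z σ τ where
  tz : IsConj t (t * z)
  na : ¬ IsConj t a
  nb : ¬ IsConj t b
  nta : ¬ IsConj t (t * a)
  ntb : ¬ IsConj t (t * b)

/-- The configuration with all of `t·involution` conjugate to `t`. -/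
structure BCfg {G : Type*} [Group G] (t p q a b z σ τ : G) : Prop extends Base t p q a b z σ τ where
  na : ¬ IsConj t a
  nb : ¬ IsConj t b
  bax : ∀ s u, IsConj t s → u * u = 1 → u ≠ 1 → u ≠ s → s * u = u * s →
    (IsConj t (s * u) ↔ ¬ IsConj t u)

variable {G L : Type*} [Group G] [Group L] {t : G} {ι : L →* G}

namespace Emb

variable (e : Emb t ι)
include e

theorem inj' {k l : L} : t * ι k ≠ ι l := fun h => e.notmem (l * k⁻¹) (by
  rw [map_mul, map_inv, ← h, mul_inv_cancel_right])

theorem t_ne : t ≠ 1 := fun h => e.notmem 1 (by rw [map_one, h])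

theorem mem_list {l : L} {X : List L} (h : ι l ∈ tList t (X.map ι)) : l ∈ X := by
  rcases mem_tList.mp h with h | h
  · obtain ⟨k, hk, hk'⟩ := List.mem_map.mp h
    rwa [← e.inj hk']
  · obtain ⟨k, -, hk'⟩ := List.mem_map.mp h
    exact absurd (by rw [hk', mul_inv_cancel_left]) (e.inj' (k := k) (l := l))

omit e in
theorem map_uList (p z a : L) : uList (ι p) (ι z) (ι a) = (uList p z a).map ι := by
  simp [uList, map_mul]

omit e in
theorem map_mList (p q z a : L) : mList (ι p) (ι q) (ι z) (ι a) = (mList p q z a).map ι := by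
  simp [mList, map_uList, map_mul, Function.comp_def]

omit e in
theorem map_nList (p q z a σ : L) :
    nList (ι p) (ι q) (ι z) (ι a) (ι σ) = (nList p q z a σ).map ι := by
  simp [nList, map_mList, map_mul, Function.comp_def]

theorem nodup_tList {X : List L} (h : X.Nodup) : (tList t (X.map ι)).Nodup := by
  refine List.Nodup.append (h.map e.inj) ((h.map e.inj).map (mul_right_injective t)) ?_
  intro x h1 h2
  obtain ⟨l, -, rfl⟩ := List.mem_map.mp h1
  obtain ⟨y, hy, hy'⟩ := List.mem_map.mp h2
  obtain ⟨k, -, rfl⟩ := List.mem_map.mp hy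
  exact e.inj' hy'

/-- Split an element of the centraliser of `t`. -/
theorem split {g : G} (hg : g * t = t * g) :
    ∃ l, (g = ι l ∨ g = t * ι l) ∧ ∀ x, g * ι x * g⁻¹ = ι (l * x * l⁻¹) := by
  obtain ⟨l, hl⟩ := e.cent g hg
  refine ⟨l, hl, fun x => ?_⟩
  rcases hl with rfl | rfl
  · simp
  · calc t * ι l * ι x * (t * ι l)⁻¹ = t * (ι l * ι x * (ι l)⁻¹) * t⁻¹ := by group
      _ = t * ι (l * x * l⁻¹) * t⁻¹ := by simp
      _ = _ := by rw [e.comm, mul_inv_cancel_right]

theorem side {p q a b z σ τ : L} (h : Half p q a b z σ) (_h' : Half q p b a z τ) :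
    Side t (ι p) (ι q) (ι a) (ι b) (ι z) (ι σ) where
  tp := e.comm p
  tq := e.comm q
  ta := e.comm a
  tσ := e.comm σ
  p2 := by rw [← map_mul, h.p2, map_one]
  a2 := by rw [← map_mul, h.a2, map_one]
  z2 := by rw [← map_mul, h.z2, map_one]
  pa := by rw [← map_mul, h.pa, map_mul]
  qa := by rw [← map_mul, h.qa, map_mul]
  pz := by rw [← map_mul, h.pz, map_mul]
  za := by rw [← map_mul, h.za, map_mul]
  az := by rw [← map_mul, h.az]
  qpq := by rw [← map_mul, ← map_mul, h.qpq, map_mul]
  sp := by rw [← map_mul, h.sp, map_mul, map_mul]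
  spz := by rw [← map_mul, ← map_mul, h.spz, map_mul]
  sa := by rw [← map_mul, h.sa, map_mul]
  nodup := by rw [map_mList]; exact e.nodup_tList h.nodup
  nodupN := by rw [map_nList]; exact e.nodup_tList h.nodupN
  subM := by rw [map_mList, map_mList]; exact List.map_subset ι h.subM
  invM := by
    rw [map_mList, map_uList, map_uList]
    intro m hm h2
    obtain ⟨l, hl, rfl⟩ := List.mem_map.mp hm
    have : l * l = 1 := e.inj (by rw [map_mul, h2, map_one])
    exact (h.invM l hl this).imp List.mem_map_of_mem List.mem_map_of_mem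
  mixed := by
    rw [map_uList, map_uList]
    intro u hu v hv h2
    obtain ⟨u', hu', rfl⟩ := List.mem_map.mp hu
    obtain ⟨v', hv', rfl⟩ := List.mem_map.mp hv
    have : u' * v' = v' * u' := e.inj (by rw [map_mul, h2, map_mul])
    exact (h.mixed u' hu' v' hv' this).imp List.mem_map_of_mem List.mem_map_of_mem
  cent := by
    intro g hg hp hz ha
    obtain ⟨l, hl, hc⟩ := e.split hg
    have key : ∀ x, g * ι x = ι x * g → l * x = x * l := fun x hx => by
      have h1 := hc x
      rw [hx, mul_inv_cancel_right] at h1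
      exact comm_of_conj (e.inj h1).symm
    have hu := List.mem_map_of_mem (f := ι) (h.cent l (key p hp) (key z hz) (key a ha))
    rw [map_uList]
    rcases hl with rfl | rfl
    · exact mem_tList.mpr (Or.inl hu)
    · exact mem_tList.mpr (Or.inr (by rwa [inv_mul_cancel_left]))
  norm := by
    intro g hg hp hz ha
    obtain ⟨l, hl, hc⟩ := e.split hg
    rw [hc, map_uList] at hp hz ha
    have hu := List.mem_map_of_mem (f := ι)
      (h.norm l (e.mem_list hp) (e.mem_list hz) (e.mem_list ha))
    rw [map_nList]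
    rcases hl with rfl | rfl
    · exact mem_tList.mpr (Or.inl hu)
    · exact mem_tList.mpr (Or.inr (by rwa [inv_mul_cancel_left]))
  notConj := by
    intro g hg ⟨hp, hz, ha⟩
    obtain ⟨l, -, hc⟩ := e.split hg
    rw [hc, map_uList] at hp hz ha
    exact h.notConj l ⟨e.mem_list hp, e.mem_list hz, e.mem_list ha⟩
  qb := by
    obtain ⟨c, hc⟩ := isConj_iff.mp h.qb
    exact ⟨ι c, (e.comm c).symm, by rw [← map_inv, ← map_mul, ← map_mul, hc, map_mul]⟩

theorem normM {p q a b z σ τ : L} (h : LFacts p q a b z σ τ) : ∀ g, g * t = t * g →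
    g * ι p * g⁻¹ ∈ tList t (mList (ι p) (ι q) (ι z) (ι a)) →
    g * ι q * g⁻¹ ∈ tList t (mList (ι p) (ι q) (ι z) (ι a)) →
    g * ι a * g⁻¹ ∈ tList t (mList (ι p) (ι q) (ι z) (ι a)) →
    g ∈ tList t (mList (ι p) (ι q) (ι z) (ι a)) := by
  intro g hg hp hq ha
  obtain ⟨l, hl, hc⟩ := e.split hg
  rw [hc, map_mList] at hp hq ha
  have hu := List.mem_map_of_mem (f := ι)
    (h.normM l (e.mem_list hp) (e.mem_list hq) (e.mem_list ha))
  rw [map_mList]
  rcases hl with rfl | rfl
  · exact mem_tList.mpr (Or.inl hu)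
  · exact mem_tList.mpr (Or.inr (by rwa [inv_mul_cancel_left]))

theorem card_cent [Finite G] :
    Nat.card (centralizer ({t} : Set G)) = 2 * Nat.card L := by
  have : Finite L := Finite.of_injective ι e.inj
  let f : L ⊕ L → centralizer ({t} : Set G) := fun s =>
    match s with
    | .inl l => ⟨ι l, mem_centralizer_singleton_iff.mpr (e.comm l).symm⟩
    | .inr l => ⟨t * ι l, mem_centralizer_singleton_iff.mpr (by
        rw [mul_assoc, ← e.comm, ← mul_assoc])⟩
  have hf : Function.Bijective f := by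
    constructor
    · rintro (k | k) (l | l) h <;> simp only [f, Subtype.mk.injEq] at h
      · rw [e.inj h]
      · exact absurd h.symm e.inj'
      · exact absurd h e.inj'
      · rw [e.inj (mul_left_cancel h)]
    · rintro ⟨g, hg⟩
      obtain ⟨l, h | h⟩ := e.cent g (mem_centralizer_singleton_iff.mp hg)
      · exact ⟨.inl l, Subtype.ext h.symm⟩
      · exact ⟨.inr l, Subtype.ext h.symm⟩
  rw [← Nat.card_eq_of_bijective f hf, Nat.card_sum]; ring

theorem base [Finite G] {p q a b z σ τ : L} (h : LFacts p q a b z σ τ)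
    (hno : ¬ ∃ H : Subgroup G, H.index = 2) :
    Base t (ι p) (ι q) (ι a) (ι b) (ι z) (ι σ) (ι τ) where
  left := e.side h.left h.right
  right := e.side h.right h.left
  normM := e.normM h
  normM' := e.normM h.symm
  card := by
    obtain ⟨m, hm, hL⟩ := h.card
    exact ⟨m, hm, by rw [e.card_cent, hL]; ring⟩
  no := hno
  t2 := e.t2
  t1 := e.t_ne

omit [Group G] e in
/-- The parity of `#{l : l * l = 1, P l}` for a class function `P`. -/
theorem card_class_split [Finite L] {a b z : L} (hL : LClasses a b z) (hz1 : z ≠ 1) (P : L → Prop)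
    (hinv : ∀ l, P l → l * l = 1) (hconj : ∀ k l, IsConj k l → (P k ↔ P l)) [Decidable (P 1)]
    [Decidable (P a)] [Decidable (P b)] [Decidable (P z)] :
    (Nat.card {l // P l} : ZMod 2) =
      (if P 1 then 1 else 0) + (if P a then 1 else 0) + (if P b then 1 else 0) +
        (if P z then 1 else 0) := by
  classical
  have := Fintype.ofFinite L
  have hne : a ≠ 1 ∧ b ≠ 1 := by
    obtain ⟨ε, ha, hb, -⟩ := hL.eps
    constructor
    · rintro rfl; simp at ha
    · rintro rfl; simp at hb
  have h1 : ∀ x : L, x ≠ 1 → ¬ IsConj x 1 := fun x hx h => hx (isConj_one_right.mp h.symm)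
  have key : ∀ l, (if P l then (1 : ZMod 2) else 0) =
      (if P 1 then 1 else 0) * (if l = 1 then 1 else 0) +
      (if P a then 1 else 0) * (if IsConj a l then 1 else 0) +
      (if P b then 1 else 0) * (if IsConj b l then 1 else 0) +
      (if P z then 1 else 0) * (if IsConj z l then 1 else 0) := by
    intro l
    by_cases hl1 : l = 1
    · subst hl1
      rw [if_neg (h1 a hne.1), if_neg (h1 b hne.2), if_neg (h1 z hz1), if_pos rfl]
      ring
    by_cases hla : IsConj a l
    · have hb' : ¬ IsConj b l := fun h => hL.ab (hla.trans h.symm)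
      have hz' : ¬ IsConj z l := fun h => hL.az (hla.trans h.symm)
      rw [if_pos hla, if_neg hb', if_neg hz', if_neg hl1]
      simp only [hconj a l hla]
      ring
    by_cases hlb : IsConj b l
    · have hz' : ¬ IsConj z l := fun h => hL.bz (hlb.trans h.symm)
      rw [if_neg hla, if_pos hlb, if_neg hz', if_neg hl1]
      simp only [hconj b l hlb]
      ring
    by_cases hlz : IsConj z l
    · rw [if_neg hla, if_neg hlb, if_pos hlz, if_neg hl1]
      simp only [hconj z l hlz]
      ring
    have : ¬ P l := fun h => by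
      rcases hL.invol l (hinv l h) with h | h | h | h <;> contradiction
    rw [if_neg this, if_neg hla, if_neg hlb, if_neg hlz, if_neg hl1]
    simp
  have hodd : ∀ x : L, Odd (Nat.card {l : L // IsConj x l}) →
      (∑ l : L, (if IsConj x l then (1 : ZMod 2) else 0)) = 1 := by
    intro x hx
    rw [Nat.card_eq_fintype_card, Fintype.card_subtype] at hx
    rw [Finset.sum_boole]
    exact ZMod.natCast_eq_one_iff_odd.mpr hx
  rw [Nat.card_eq_fintype_card, Fintype.card_subtype, ← Finset.sum_boole]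
  simp only [key, Finset.sum_add_distrib, ← Finset.mul_sum, hodd a hL.oddA, hodd b hL.oddB,
    hodd z hL.oddZ, mul_one, Finset.sum_ite_eq', Finset.mem_univ, if_true]

/-- The other complement: `l ↦ t^(ε l) ι l`. -/
noncomputable def twist (ε : L →* ℤˣ) : L →* G where
  toFun l := if ε l = 1 then ι l else t * ι l
  map_one' := by simp
  map_mul' k l := by
    have e1 : ι k * (t * ι l) = t * (ι k * ι l) := by rw [← mul_assoc, ← e.comm, mul_assoc]
    rcases Int.units_eq_one_or (ε k) with hk | hk <;> rcases Int.units_eq_one_or (ε l) with hl | hl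
    · simp [hk, hl]
    · simp [hk, hl, e1]
    · simp [hk, hl, mul_assoc]
    · simp only [map_mul, hk, hl, show ((-1 : ℤˣ) * -1) = 1 from rfl,
        show ((-1 : ℤˣ) = 1) = False from eq_false (by decide), if_true, if_false]
      rw [mul_assoc, e1, ← mul_assoc, e.t2, one_mul]

theorem twist_pos {ε : L →* ℤˣ} {l : L} (h : ε l = 1) : e.twist ε l = ι l := by
  simp [twist, h]

theorem twist_neg {ε : L →* ℤˣ} {l : L} (h : ε l = -1) : e.twist ε l = t * ι l := by
  simp [twist, h]

theorem twist_emb (ε : L →* ℤˣ) : Emb t (e.twist ε) := by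
  have tt : ∀ x, t * (t * x) = x := fun x => by rw [← mul_assoc, e.t2, one_mul]
  refine ⟨?_, ?_, ?_, ?_, e.t2⟩
  · intro k l h
    rcases Int.units_eq_one_or (ε k) with hk | hk <;> rcases Int.units_eq_one_or (ε l) with hl | hl
    · rw [e.twist_pos hk, e.twist_pos hl] at h; exact e.inj h
    · rw [e.twist_pos hk, e.twist_neg hl] at h; exact absurd h.symm e.inj'
    · rw [e.twist_neg hk, e.twist_pos hl] at h; exact absurd h e.inj'
    · rw [e.twist_neg hk, e.twist_neg hl] at h; exact e.inj (mul_left_cancel h)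
  · intro l
    rcases Int.units_eq_one_or (ε l) with hl | hl
    · rw [e.twist_pos hl]; exact e.comm l
    · rw [e.twist_neg hl, mul_assoc, ← e.comm]
  · intro l h
    rcases Int.units_eq_one_or (ε l) with hl | hl
    · rw [e.twist_pos hl] at h; exact e.notmem l h
    · rw [e.twist_neg hl] at h
      have h1 : ι l = 1 := mul_eq_left.mp h
      rw [show l = 1 from e.inj (by rw [h1, map_one]), map_one] at hl
      exact absurd hl (by decide)
  · intro g hg
    obtain ⟨l, h⟩ := e.cent g hg
    refine ⟨l, ?_⟩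
    rcases Int.units_eq_one_or (ε l) with hl | hl
    · rw [e.twist_pos hl]; exact h
    · rw [e.twist_neg hl, tt]; exact h.symm

theorem isConj_ι {k l : L} (h : IsConj k l) :
    (IsConj t (ι k) ↔ IsConj t (ι l)) ∧ (IsConj t (t * ι k) ↔ IsConj t (t * ι l)) := by
  obtain ⟨c, rfl⟩ := isConj_iff.mp h
  constructor
  · rw [map_mul, map_mul, map_inv, isConj_conj]
  · have e' : t * ι (c * k * c⁻¹) = ι c * (t * ι k) * (ι c)⁻¹ := by
      rw [map_mul, map_mul, map_inv, ← mul_assoc (ι c) t (ι k), ← e.comm]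
      group
    rw [e', isConj_conj]

theorem sq_of_conj {x : G} (h : IsConj t x) : x * x = 1 := by
  obtain ⟨g, rfl⟩ := isConj_iff.mp h
  calc g * t * g⁻¹ * (g * t * g⁻¹) = g * (t * t) * g⁻¹ := by group
    _ = 1 := by rw [e.t2]; group

theorem sq_ι {l : L} (h : IsConj t (ι l)) : l * l = 1 :=
  e.inj (by rw [map_mul, map_one, e.sq_of_conj h])

theorem sq_tι {l : L} (h : IsConj t (t * ι l)) : l * l = 1 := by
  refine e.inj ?_
  rw [map_mul, map_one]
  have h' := e.sq_of_conj h
  rwa [(show Commute (ι l) t from (e.comm l).symm).mul_mul_mul_comm, e.t2, one_mul] at h'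

open scoped Classical in
/-- The first parity: from the complement `L`. -/
theorem parity_one [Finite G] {a b z : L} (hL : LClasses a b z) (hz1 : z ≠ 1)
    (hno : ¬ ∃ H : Subgroup G, H.index = 2) :
    (1 : ZMod 2) + (if IsConj t (t * ι a) then 1 else 0) + (if IsConj t (t * ι b) then 1 else 0) +
      (if IsConj t (t * ι z) then 1 else 0) = 0 := by
  have : Finite L := Finite.of_injective ι e.inj
  set C := centralizer ({t} : Set G)
  have hle : ι.range ≤ C := by
    rintro _ ⟨l, rfl⟩; exact mem_centralizer_singleton_iff.mpr (e.comm l).symm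
  have hN : Nat.card ι.range = Nat.card L :=
    (Nat.card_congr (MonoidHom.ofInjective e.inj).toEquiv).symm
  have hd := two_mul_card_dvd hno e.t2 hle (by rw [e.card_cent, hN])
  rw [mul_comm 2] at hd
  have h2 := Nat.dvd_of_mul_dvd_mul_left Nat.card_pos hd
  have hcount : conjCount t ((C : Set G) \ (ι.range : Set G)) =
      Nat.card {l : L // IsConj t (t * ι l)} := by
    refine (Nat.card_congr (Equiv.ofBijective
      (fun l : {l : L // IsConj t (t * ι l)} => (⟨t * ι l.1, ⟨mem_centralizer_singleton_iff.mpr (by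
        rw [mul_assoc, ← e.comm, ← mul_assoc]), fun ⟨k, hk⟩ => e.inj' hk.symm⟩, l.2⟩ :
          {s : G // s ∈ (C : Set G) \ (ι.range : Set G) ∧ IsConj t s})) ⟨?_, ?_⟩)).symm
    · intro k l h
      exact Subtype.ext (e.inj (mul_left_cancel (congrArg Subtype.val h)))
    · rintro ⟨s, ⟨hs, hs'⟩, hK⟩
      obtain ⟨l, h | h⟩ := e.cent s (mem_centralizer_singleton_iff.mp hs)
      · exact absurd ⟨l, h.symm⟩ hs'
      · exact ⟨⟨l, h ▸ hK⟩, Subtype.ext h.symm⟩
  rw [hcount, ← ZMod.natCast_eq_zero_iff_even.trans even_iff_two_dvd] at h2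
  rw [card_class_split hL hz1 (fun l => IsConj t (t * ι l)) (fun l => e.sq_tι)
    (fun k l h => (e.isConj_ι h).2)] at h2
  rw [map_one, mul_one, if_pos (IsConj.refl t)] at h2
  exact h2

open scoped Classical in
/-- The second parity: from the sign. -/
theorem parity_two [Finite G] {a b z : L} (hL : LClasses a b z) (hz1 : z ≠ 1)
    (hno : ¬ ∃ H : Subgroup G, H.index = 2) :
    (if IsConj t (ι a) then 1 else 0) + (if IsConj t (ι b) then 1 else 0) +
      (if IsConj t (t * ι a) then 1 else 0) + (if IsConj t (t * ι b) then (1 : ZMod 2) else 0) =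
      0 := by
  have : Finite L := Finite.of_injective ι e.inj
  have hsplit := fun Q h1 h2 => card_class_split hL hz1 Q h1 h2
  obtain ⟨ε, hεa, hεb, hεz⟩ := hL.eps
  set C := centralizer ({t} : Set G)
  have hnt : ∀ y ∈ ε.ker.map ι, t * y * t⁻¹ ∈ ε.ker.map ι := by
    rintro _ ⟨l, hl, rfl⟩
    rw [e.comm, mul_inv_cancel_right]
    exact ⟨l, hl, rfl⟩
  set N := ε.ker.map ι ⊔ zpowers t
  have hmem : ∀ g, g ∈ N ↔ g ∈ ε.ker.map ι ∨ t⁻¹ * g ∈ ε.ker.map ι := fun g =>
    mem_sup_zpowers (by rw [e.t2]; exact one_mem _) hnt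
  have hN1 : ∀ l, ι l ∈ N ↔ ε l = 1 := by
    intro l
    rw [hmem, mem_map_iff_mem e.inj, MonoidHom.mem_ker]
    constructor
    · rintro (h | ⟨k, -, hk⟩)
      · exact h
      · exact absurd (by rw [hk, mul_inv_cancel_left]) (e.inj' (k := k) (l := l))
    · exact Or.inl
  have hN2 : ∀ l, t * ι l ∈ N ↔ ε l = 1 := by
    intro l
    rw [← hN1, mul_mem_cancel_left (show t ∈ N from mem_sup_right (mem_zpowers t))]
  have hle : N ≤ C := sup_le
    (by rintro _ ⟨l, -, rfl⟩; exact mem_centralizer_singleton_iff.mpr (e.comm l).symm)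
    (zpowers_le.mpr (mem_centralizer_singleton_iff.mpr rfl))
  have hneg : ∀ l, ε l ≠ 1 → ε l = -1 := fun l h => (Int.units_eq_one_or _).resolve_left h
  have hne : (-1 : ℤˣ) ≠ 1 := by decide
  have hcard : Nat.card C = 2 * Nat.card N := by
    refine card_eq_two_mul hle (x := ι a) (mem_centralizer_singleton_iff.mpr (e.comm a).symm)
      (fun h => hne (hεa.symm.trans ((hN1 a).mp h))) fun g hg => ?_
    obtain ⟨l, hl⟩ := e.cent g (mem_centralizer_singleton_iff.mp hg)
    by_cases h : ε l = 1
    · left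
      rcases hl with rfl | rfl
      exacts [(hN1 l).mpr h, (hN2 l).mpr h]
    · right
      have hh : ε (a⁻¹ * l) = 1 := by rw [map_mul, map_inv, hεa, hneg l h]; rfl
      rcases hl with rfl | rfl
      · rw [← map_inv, ← map_mul]; exact (hN1 _).mpr hh
      · rw [← mul_assoc, ← map_inv, ← e.comm, mul_assoc, ← map_mul]; exact (hN2 _).mpr hh
  have hd := two_mul_card_dvd hno e.t2 hle hcard
  rw [mul_comm 2] at hd
  have h2 := Nat.dvd_of_mul_dvd_mul_left Nat.card_pos hd
  have hcount : conjCount t ((C : Set G) \ (N : Set G)) =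
      Nat.card {l : L // ε l = -1 ∧ IsConj t (ι l)} +
        Nat.card {l : L // ε l = -1 ∧ IsConj t (t * ι l)} := by
    rw [← Nat.card_sum]
    let f : {l : L // ε l = -1 ∧ IsConj t (ι l)} ⊕ {l : L // ε l = -1 ∧ IsConj t (t * ι l)} →
        {s : G // s ∈ (C : Set G) \ (N : Set G) ∧ IsConj t s} := fun x =>
      match x with
      | .inl l => ⟨ι l.1, ⟨mem_centralizer_singleton_iff.mpr (e.comm l.1).symm,
          fun h => hne (l.2.1.symm.trans ((hN1 _).mp h))⟩, l.2.2⟩
      | .inr l => ⟨t * ι l.1, ⟨mem_centralizer_singleton_iff.mpr (by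
          rw [mul_assoc, ← e.comm, ← mul_assoc]),
          fun h => hne (l.2.1.symm.trans ((hN2 _).mp h))⟩, l.2.2⟩
    refine (Nat.card_congr (Equiv.ofBijective f ⟨?_, ?_⟩)).symm
    · rintro (k | k) (l | l) h <;> simp only [f, Subtype.mk.injEq] at h
      · rw [Subtype.ext (e.inj h)]
      · exact absurd h.symm e.inj'
      · exact absurd h e.inj'
      · rw [Subtype.ext (e.inj (mul_left_cancel h))]
    · rintro ⟨s, ⟨hs, hs'⟩, hK⟩
      obtain ⟨l, h | h⟩ := e.cent s (mem_centralizer_singleton_iff.mp hs)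
      · exact ⟨.inl ⟨l, hneg l fun h' => hs' (h ▸ (hN1 l).mpr h'), h ▸ hK⟩, Subtype.ext h.symm⟩
      · exact ⟨.inr ⟨l, hneg l fun h' => hs' (h ▸ (hN2 l).mpr h'), h ▸ hK⟩, Subtype.ext h.symm⟩
  rw [hcount, ← ZMod.natCast_eq_zero_iff_even.trans even_iff_two_dvd] at h2
  have hεconj : ∀ k l, IsConj k l → ε k = ε l := fun k l h => isConj_iff_eq.mp (ε.map_isConj h)
  push_cast at h2
  rw [hsplit (fun l => ε l = -1 ∧ IsConj t (ι l)) (fun l h => e.sq_ι h.2)
      (fun k l h => by rw [hεconj k l h, (e.isConj_ι h).1]),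
    hsplit (fun l => ε l = -1 ∧ IsConj t (t * ι l)) (fun l h => e.sq_tι h.2)
      (fun k l h => by rw [hεconj k l h, (e.isConj_ι h).2])] at h2
  simp only [hεa, hεb, hεz, map_one, hne.symm, true_and, false_and, if_false, zero_add,
    add_zero, ← add_assoc] at h2
  exact h2

/-- `t·({1} ∪ involutions)` is the set of conjugates of `t` in the centraliser. -/
theorem bax {a b z : L} (hL : LClasses a b z) (hta : IsConj t (t * ι a))
    (htb : IsConj t (t * ι b)) (htz : IsConj t (t * ι z)) (ha : ¬ IsConj t (ι a))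
    (hb : ¬ IsConj t (ι b)) (hz : ¬ IsConj t (ι z)) :
    ∀ s u, IsConj t s → u * u = 1 → u ≠ 1 → u ≠ s → s * u = u * s →
      (IsConj t (s * u) ↔ ¬ IsConj t u) := by
  intro s u hs hu hu1 hus hc
  obtain ⟨g, rfl⟩ := isConj_iff.mp hs
  set v := g⁻¹ * u * g
  have hv : v * v = 1 := by
    calc v * v = g⁻¹ * (u * u) * g := by simp only [v]; group
      _ = 1 := by rw [hu]; group
  have hv1 : v ≠ 1 := fun h => hu1 (by
    calc u = g * v * g⁻¹ := by simp only [v]; group
      _ = 1 := by rw [h]; group)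
  have hvt : v ≠ t := fun h => hus (by
    calc u = g * v * g⁻¹ := by simp only [v]; group
      _ = _ := by rw [h])
  have hvc : v * t = t * v := by
    simpa [v, mul_assoc] using (congrArg (fun w => g⁻¹ * w * g) hc).symm
  have e1 : u = g * v * g⁻¹ := by simp only [v]; group
  have e2 : g * t * g⁻¹ * u = g * (t * v) * g⁻¹ := by rw [e1]; group
  rw [e2, e1, isConj_conj, isConj_conj]
  obtain ⟨l, h⟩ := e.cent v hvc
  have hl : l * l = 1 := by
    refine e.inj ?_
    rw [map_mul, map_one]
    rcases h with h | h <;> rw [h] at hv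
    · exact hv
    · rwa [(show Commute (ι l) t from (e.comm l).symm).mul_mul_mul_comm, e.t2, one_mul] at hv
  have hl1 : l ≠ 1 := by
    rintro rfl
    rw [map_one, mul_one] at h
    exact h.elim hv1 hvt
  have key : IsConj t (t * ι l) ∧ ¬ IsConj t (ι l) := by
    rcases hL.invol l hl with h' | h' | h' | h'
    · exact absurd h' hl1
    all_goals refine ⟨(e.isConj_ι h').2.mp ?_, fun hh => absurd ((e.isConj_ι h').1.mpr hh) ?_⟩
    all_goals assumption
  rcases h with h | h <;> rw [h]
  · exact ⟨fun _ => key.2, fun _ => key.1⟩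
  · rw [← mul_assoc, e.t2, one_mul]
    exact ⟨fun h' => absurd h' key.2, fun h' => absurd key.1 h'⟩

/-- The configuration theorem. -/
theorem config [Finite G] {p q a b z σ τ : L} (h : LFacts p q a b z σ τ) (hL : LClasses a b z)
    (hno : ¬ ∃ H : Subgroup G, H.index = 2) :
    ∃ κ : L →* G, Emb t κ ∧ (TwoCfg t (κ p) (κ q) (κ a) (κ b) (κ z) (κ σ) (κ τ) ∨
      BCfg t (κ p) (κ q) (κ a) (κ b) (κ z) (κ σ) (κ τ)) := by
  classical
  have B := e.base h hno
  have hz1 : z ≠ 1 := fun h' => B.z_ne_one (by rw [h', map_one])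
  have hcz := B.not_conj_z
  have e1 := e.parity_one hL hz1 hno
  have e2 := e.parity_two hL hz1 hno
  have hbad := B.no_pattern_a
  have hbad' := B.symm.no_pattern_a
  have hbad2 := B.no_pattern_b
  have hbad2' := B.symm.no_pattern_b
  have hbad6 := B.no_pattern_six
  by_cases hA : IsConj t (ι a) <;> by_cases hB : IsConj t (ι b) <;>
    by_cases hα : IsConj t (t * ι a) <;> by_cases hβ : IsConj t (t * ι b) <;>
    by_cases hγ : IsConj t (t * ι z) <;>
    simp only [hA, hB, hα, hβ, hγ, if_true, if_false] at e1 e2 <;>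
    first
    | exact absurd e1 (by decide)
    | exact absurd e2 (by decide)
    | exact (hbad6 hα hβ hγ hA hB).elim
    | exact (hbad hα hA hβ hB hγ).elim
    | exact (hbad' hβ hB hα hA hγ).elim
    | exact (hbad2 hα hB hA hβ hγ).elim
    | exact (hbad2' hβ hA hB hα hγ).elim
    | exact ⟨ι, e, Or.inl
        { toBase := B, tz := hγ, na := hA, nb := hB, nta := hα, ntb := hβ }⟩
    | exact ⟨ι, e, Or.inr
        { toBase := B, na := hA, nb := hB, bax := e.bax hL hα hβ hγ hA hB hcz }⟩
    | (obtain ⟨ε, hεa, hεb, hεz⟩ := hL.eps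
       have e' := e.twist_emb ε
       refine ⟨e.twist ε, e', Or.inr { toBase := e'.base h hno, na := ?_, nb := ?_, bax := ?_ }⟩
       · rw [e.twist_neg hεa]; exact hα
       · rw [e.twist_neg hεb]; exact hβ
       refine e'.bax hL ?_ ?_ ?_ ?_ ?_ ?_
       · rw [e.twist_neg hεa, ← mul_assoc, e.t2, one_mul]; exact hA
       · rw [e.twist_neg hεb, ← mul_assoc, e.t2, one_mul]; exact hB
       · rw [e.twist_pos hεz]; exact hγ
       · rw [e.twist_neg hεa]; exact hα
       · rw [e.twist_neg hεb]; exact hβ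
       · rw [e.twist_pos hεz]; exact hcz)

end Emb

end Cfsg.Agent.InvolTimesSym
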