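import Mathlib

/-!
# The counting form of the transfer at an involution

If `G` has no subgroup of index `2`, every permutation action of `G` is by even permutations.
Applied to the cosets of `N ≤ H`, `|H| = 2|N|`, this gives: `2|H|` divides
`|C(t)|` times the number of conjugates of the involution `t` in `H \ N`.
-/

set_option autoImplicit false

namespace Cfsg.Agent.InvolTimesSym

variable {G : Type*} [Group G] [Finite G]

/-- Conjugates of `t` in a subgroup `X`. -/
noncomputable def conjCount (t : G) (X : Set G) : ℕ := Nat.card {s : G // s ∈ X ∧ IsConj t s}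

omit [Finite G] in
theorem sign_toPerm_eq_one (hno : ¬ ∃ H : Subgroup G, H.index = 2) {Ω : Type*} [Fintype Ω]
    [DecidableEq Ω] [MulAction G Ω] (g : G) :
    Equiv.Perm.sign (MulAction.toPermHom G Ω g) = 1 := by
  by_contra hg
  let φ : G →* ℤˣ := Equiv.Perm.sign.comp (MulAction.toPermHom G Ω)
  refine hno ⟨φ.ker, ?_⟩
  rw [Subgroup.index_ker]
  have hs : Function.Surjective φ := by
    intro u
    rcases Int.units_eq_one_or u with rfl | rfl
    · exact ⟨1, map_one φ⟩
    · exact ⟨g, (Int.units_eq_one_or _).resolve_left hg⟩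
  rw [MonoidHom.range_eq_top.mpr hs, Subgroup.card_top]
  simp [Nat.card_eq_fintype_card]

omit [Finite G] in
theorem card_conjugators (t s : G) (hs : IsConj t s) :
    Nat.card {g : G // g * t * g⁻¹ = s} = Nat.card (Subgroup.centralizer ({t} : Set G)) := by
  obtain ⟨c, hc⟩ := isConj_iff.mp hs
  refine Nat.card_congr ⟨fun g => ⟨c⁻¹ * g.1, ?_⟩, fun x => ⟨c * x.1, ?_⟩, fun g => ?_, fun x => ?_⟩
  · rw [Subgroup.mem_centralizer_singleton_iff]
    have := g.2.trans hc.symm
    calc c⁻¹ * g.1 * t = c⁻¹ * (g.1 * t * g.1⁻¹) * g.1 := by group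
      _ = c⁻¹ * (c * t * c⁻¹) * g.1 := by rw [this]
      _ = t * (c⁻¹ * g.1) := by group
  · have hx := Subgroup.mem_centralizer_singleton_iff.mp x.2
    calc c * x.1 * t * (c * x.1)⁻¹ = c * (x.1 * t) * x.1⁻¹ * c⁻¹ := by group
      _ = c * (t * x.1) * x.1⁻¹ * c⁻¹ := by rw [hx]
      _ = s := by rw [← hc]; group
  · ext; simp
  · ext; simp

theorem card_conj_mem (t : G) (X : Set G) :
    Nat.card {g : G // g * t * g⁻¹ ∈ X} =
      Nat.card (Subgroup.centralizer ({t} : Set G)) * conjCount t X := by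
  classical
  have := Fintype.ofFinite G
  let f : {g : G // g * t * g⁻¹ ∈ X} → {s : G // s ∈ X ∧ IsConj t s} :=
    fun g => ⟨g.1 * t * g.1⁻¹, g.2, isConj_iff.mpr ⟨g.1, rfl⟩⟩
  rw [← Nat.card_congr (Equiv.sigmaFiberEquiv f), Nat.card_sigma]
  have hf : ∀ s, Nat.card {g // f g = s} = Nat.card (Subgroup.centralizer ({t} : Set G)) := by
    intro s
    rw [← card_conjugators t s.1 s.2.2]
    exact Nat.card_congr
      { toFun := fun g => ⟨g.1.1, congrArg Subtype.val g.2⟩
        invFun := fun g => ⟨⟨g.1, g.2.symm ▸ s.2.1⟩, Subtype.ext g.2⟩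
        left_inv := fun g => by ext; rfl
        right_inv := fun g => by ext; rfl }
  simp only [hf, Finset.sum_const, Finset.card_univ, smul_eq_mul]
  rw [mul_comm, conjCount, Nat.card_eq_fintype_card (α := {s : G // s ∈ X ∧ IsConj t s})]

theorem card_fixed_mul (t : G) (X : Subgroup G) :
    Nat.card {q : G ⧸ X // t • q = q} * Nat.card X =
      Nat.card (Subgroup.centralizer ({t} : Set G)) * conjCount t (X : Set G) := by
  rw [← card_conj_mem, ← Nat.card_prod]
  refine Nat.card_congr ?_
  let e := Subgroup.groupEquivQuotientProdSubgroup (s := X)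
  have key : ∀ g : G, g⁻¹ * t * g⁻¹⁻¹ ∈ X ↔ t • (QuotientGroup.mk g : G ⧸ X) = QuotientGroup.mk g := by
    intro g
    rw [inv_inv, MulAction.Quotient.smul_mk, smul_eq_mul, QuotientGroup.eq]
    have h : (t * g)⁻¹ * g = (g⁻¹ * t * g)⁻¹ := by group
    rw [h, inv_mem_iff]
  have h1 : {g : G // g * t * g⁻¹ ∈ X} ≃ {g : G // t • (QuotientGroup.mk g : G ⧸ X) = QuotientGroup.mk g} :=
    (Equiv.subtypeEquiv (Equiv.inv G) fun g => by
      rw [← key]; simp)
  have h2 : ∀ g : G, (e g).1 = QuotientGroup.mk g := fun g => rfl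
  have h3 : {g : G // t • (QuotientGroup.mk g : G ⧸ X) = QuotientGroup.mk g} ≃
      {q : G ⧸ X // t • q = q} × X :=
    (Equiv.subtypeEquiv e fun g => by rw [h2]).trans
      (Equiv.prodSubtypeFstEquivSubtypeProd (p := fun q : G ⧸ X => t • q = q))
  exact (h1.trans h3).symm

theorem index_sub_fixed (hno : ¬ ∃ H : Subgroup G, H.index = 2) {t : G} (ht : t * t = 1)
    (X : Subgroup G) : ∃ k, X.index = Nat.card {q : G ⧸ X // t • q = q} + 4 * k := by
  classical
  have := Fintype.ofFinite (G ⧸ X)
  let σ : Equiv.Perm (G ⧸ X) := MulAction.toPermHom G (G ⧸ X) t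
  have hσ : σ ^ 2 = 1 := by rw [← map_pow, pow_two, ht, map_one]
  have h1 := sign_toPerm_eq_one (Ω := G ⧸ X) hno t
  change Equiv.Perm.sign σ = 1 at h1
  rw [Equiv.Perm.sign_of_pow_two_eq_one hσ] at h1
  have heven := (neg_one_pow_eq_one_iff_even (by decide : (-1 : ℤˣ) ≠ 1)).mp h1
  obtain ⟨k, hk⟩ := heven
  obtain ⟨m, hm⟩ := Equiv.Perm.two_dvd_card_support hσ
  refine ⟨k, ?_⟩
  have e1 : Nat.card {q : G ⧸ X // t • q = q} = Fintype.card (Function.fixedPoints ⇑σ) := by
    rw [Nat.card_eq_fintype_card]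
    exact Fintype.card_congr (Equiv.refl _)
  have e2 : X.index = Fintype.card (G ⧸ X) := by
    rw [Subgroup.index, Nat.card_eq_fintype_card]
  have e3 : σ.support.card + Fintype.card (Function.fixedPoints ⇑σ) = Fintype.card (G ⧸ X) := by
    have hs : σ.support = Finset.univ.filter (fun q => ¬ σ q = q) := by
      ext q; simp [Equiv.Perm.mem_support]
    have hf : Fintype.card (Function.fixedPoints ⇑σ) =
        (Finset.univ.filter (fun q => σ q = q)).card := by
      rw [← Fintype.card_subtype]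
      exact Fintype.card_congr (Equiv.refl _)
    rw [hs, hf, add_comm, Finset.card_filter_add_card_filter_not]
    simp
  omega

/-- The counting lemma. -/
theorem two_mul_card_dvd (hno : ¬ ∃ H : Subgroup G, H.index = 2) {t : G} (ht : t * t = 1)
    {H N : Subgroup G} (hNH : N ≤ H) (hcard : Nat.card H = 2 * Nat.card N) :
    2 * Nat.card H ∣
      Nat.card (Subgroup.centralizer ({t} : Set G)) *
        conjCount t ((H : Set G) \ (N : Set G)) := by
  classical
  obtain ⟨a, ha⟩ := index_sub_fixed hno ht H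
  obtain ⟨b, hb⟩ := index_sub_fixed hno ht N
  have hH := card_fixed_mul t H
  have hN := card_fixed_mul t N
  set fH := Nat.card {q : G ⧸ H // t • q = q}
  set fN := Nat.card {q : G ⧸ N // t • q = q}
  have hidx : N.index = 2 * H.index := by
    have h1 := H.card_mul_index
    have h2 := N.card_mul_index
    have hpos : 0 < Nat.card N := Nat.card_pos
    rw [hcard] at h1
    apply Nat.eq_of_mul_eq_mul_left hpos
    rw [h2, ← h1]; ring
  have hsplit : conjCount t (H : Set G) = conjCount t (N : Set G) +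
      conjCount t ((H : Set G) \ (N : Set G)) := by
    have := Fintype.ofFinite G
    simp only [conjCount, Nat.card_eq_fintype_card, Fintype.card_subtype]
    rw [← Finset.card_union_of_disjoint]
    · congr 1
      ext s
      simp only [Finset.mem_filter, Finset.mem_univ, true_and, Finset.mem_union, Set.mem_sdiff,
        SetLike.mem_coe]
      constructor
      · rintro ⟨h, hc⟩
        by_cases hs : s ∈ N
        · exact Or.inl ⟨hs, hc⟩
        · exact Or.inr ⟨⟨h, hs⟩, hc⟩
      · rintro (⟨h, hc⟩ | ⟨⟨h, -⟩, hc⟩)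
        · exact ⟨hNH h, hc⟩
        · exact ⟨h, hc⟩
    · rw [Finset.disjoint_filter]
      intro s _ h1 h2
      exact h2.1.2 h1.1
  set D := conjCount t ((H : Set G) \ (N : Set G))
  set C := Nat.card (Subgroup.centralizer ({t} : Set G))
  rw [hcard] at hH
  rw [hsplit, mul_add, ← hN] at hH
  -- `2 * fH * |N| = fN * |N| + C * D`
  rw [hcard]
  obtain ⟨d, hd⟩ : ∃ d, 2 * fH = fN + 4 * d ∨ fN = 2 * fH + 4 * d := by
    rcases Nat.le_total fN (2 * fH) with h | h
    · exact ⟨(2 * fH - fN) / 4, Or.inl (by omega)⟩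
    · exact ⟨(fN - 2 * fH) / 4, Or.inr (by omega)⟩
  rcases hd with hd | hd
  · refine ⟨d, ?_⟩
    have e : fH * (2 * Nat.card N) = (2 * fH) * Nat.card N := by ring
    rw [e, hd, add_mul] at hH
    have := Nat.add_left_cancel hH
    rw [← this]; ring
  · rcases Nat.eq_zero_or_pos d with rfl | hd0
    · refine ⟨0, ?_⟩
      have e : fH * (2 * Nat.card N) = fN * Nat.card N := by rw [hd]; ring
      rw [e] at hH
      omega
    · exfalso
      have e : fN * Nat.card N = fH * (2 * Nat.card N) + 4 * d * Nat.card N := by rw [hd]; ring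
      have : 0 < 4 * d * Nat.card N := Nat.mul_pos (by omega) Nat.card_pos
      omega

end Cfsg.Agent.InvolTimesSym
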