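import Cfsg.Agent.Lib.InvolTimesSym.Count

/-!
# Elementary tools: adjoining an element, subgroups of index two, finite conjugation actions,
counting conjugates coset by coset
-/

set_option autoImplicit false

namespace Cfsg.Agent.InvolTimesSym

open Subgroup

section Adjoin

variable {G : Type*} [Group G] [Finite G]

omit [Finite G] in
/-- `x⁻¹` lies in the coset `x X` when `x * x ∈ X`. -/
theorem mem_sup_zpowers {X : Subgroup G} {x : G} (h2 : x * x ∈ X)
    (hn : ∀ y ∈ X, x * y * x⁻¹ ∈ X) {g : G} :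
    g ∈ X ⊔ zpowers x ↔ g ∈ X ∨ x⁻¹ * g ∈ X := by
  have hn' : ∀ y ∈ X, x⁻¹ * y * x ∈ X := by
    intro y hy
    have h := X.mul_mem (X.mul_mem (X.inv_mem h2) (hn y hy)) h2
    have e : x⁻¹ * y * x = (x * x)⁻¹ * (x * y * x⁻¹) * (x * x) := by group
    rwa [e]
  let S : Subgroup G :=
    { carrier := {g | g ∈ X ∨ x⁻¹ * g ∈ X}
      one_mem' := Or.inl X.one_mem
      mul_mem' := by
        rintro g k (hg | hg) (hk | hk)
        · exact Or.inl (X.mul_mem hg hk)
        · refine Or.inr ?_
          have e : x⁻¹ * (g * k) = x⁻¹ * g * x * (x⁻¹ * k) := by group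
          rw [e]; exact X.mul_mem (hn' g hg) hk
        · refine Or.inr ?_
          rw [← mul_assoc]; exact X.mul_mem hg hk
        · refine Or.inl ?_
          have e : g * k = x * (x⁻¹ * g) * x⁻¹ * (x * x) * (x⁻¹ * k) := by group
          rw [e]; exact X.mul_mem (X.mul_mem (hn _ hg) h2) hk
      inv_mem' := by
        rintro g (hg | hg)
        · exact Or.inl (X.inv_mem hg)
        · refine Or.inr ?_
          have e : x⁻¹ * g⁻¹ = x⁻¹ * (x⁻¹ * g)⁻¹ * x * (x * x)⁻¹ := by group
          rw [e]; exact X.mul_mem (hn' _ (X.inv_mem hg)) (X.inv_mem h2) }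
  constructor
  · intro hg
    have hle : X ⊔ zpowers x ≤ S := sup_le (fun y hy => Or.inl hy)
      (by rw [zpowers_le]; exact Or.inr (by rw [inv_mul_cancel]; exact X.one_mem))
    exact hle hg
  · rintro (hg | hg)
    · exact mem_sup_left hg
    · have e : g = x * (x⁻¹ * g) := by group
      rw [e]
      exact (X ⊔ zpowers x).mul_mem (mem_sup_right (mem_zpowers x)) (mem_sup_left hg)

theorem card_sup_zpowers_le {X : Subgroup G} {x : G} (h2 : x * x ∈ X)
    (hn : ∀ y ∈ X, x * y * x⁻¹ ∈ X) : Nat.card (X ⊔ zpowers x : Subgroup G) ≤ 2 * Nat.card X := by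
  classical
  let f : X ⊕ X → (X ⊔ zpowers x : Subgroup G) := fun s =>
    match s with
    | .inl y => ⟨y, mem_sup_left y.2⟩
    | .inr y => ⟨x * y, (X ⊔ zpowers x).mul_mem (mem_sup_right (mem_zpowers x)) (mem_sup_left y.2)⟩
  have hf : Function.Surjective f := by
    rintro ⟨g, hg⟩
    rcases (mem_sup_zpowers h2 hn).mp hg with h | h
    · exact ⟨.inl ⟨g, h⟩, rfl⟩
    · exact ⟨.inr ⟨_, h⟩, Subtype.ext (mul_inv_cancel_left x g)⟩
  refine (Nat.card_le_card_of_surjective f hf).trans ?_
  rw [Nat.card_sum]; omega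

theorem card_sup_zpowers {X : Subgroup G} {x : G} (hx : x ∉ X) (h2 : x * x ∈ X)
    (hn : ∀ y ∈ X, x * y * x⁻¹ ∈ X) : Nat.card (X ⊔ zpowers x : Subgroup G) = 2 * Nat.card X := by
  apply le_antisymm (card_sup_zpowers_le h2 hn)
  let f : X ⊕ X → (X ⊔ zpowers x : Subgroup G) := fun s =>
    match s with
    | .inl y => ⟨y, mem_sup_left y.2⟩
    | .inr y => ⟨x * y, (X ⊔ zpowers x).mul_mem (mem_sup_right (mem_zpowers x)) (mem_sup_left y.2)⟩
  have hf : Function.Injective f := by
    rintro (y | y) (y' | y') h <;> simp only [f, Subtype.mk.injEq] at h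
    · rw [Subtype.ext h]
    · exact absurd (by
        have e : x = (y : G) * (y' : G)⁻¹ := by rw [h, mul_inv_cancel_right]
        rw [e]; exact X.mul_mem y.2 (X.inv_mem y'.2)) hx
    · exact absurd (by
        have e : x = (y' : G) * (y : G)⁻¹ := by rw [← h, mul_inv_cancel_right]
        rw [e]; exact X.mul_mem y'.2 (X.inv_mem y.2)) hx
    · rw [Subtype.ext (mul_left_cancel h)]
  refine le_trans ?_ (Nat.card_le_card_of_injective f hf)
  rw [Nat.card_sum]; omega

/-- A subgroup with an element outside mapping it onto its complement has index two. -/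
theorem card_eq_two_mul {H N : Subgroup G} (hNH : N ≤ H) {x : G} (hx : x ∈ H) (hxN : x ∉ N)
    (h : ∀ g ∈ H, g ∈ N ∨ x⁻¹ * g ∈ N) : Nat.card H = 2 * Nat.card N := by
  let f : N ⊕ N → H := fun s =>
    match s with
    | .inl y => ⟨y, hNH y.2⟩
    | .inr y => ⟨x * y, H.mul_mem hx (hNH y.2)⟩
  have hf : Function.Bijective f := by
    constructor
    · rintro (y | y) (y' | y') h <;> simp only [f, Subtype.mk.injEq] at h
      · rw [Subtype.ext h]
      · exact absurd (by
          have e : x = (y : G) * (y' : G)⁻¹ := by rw [h, mul_inv_cancel_right]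
          rw [e]; exact N.mul_mem y.2 (N.inv_mem y'.2)) hxN
      · exact absurd (by
          have e : x = (y' : G) * (y : G)⁻¹ := by rw [← h, mul_inv_cancel_right]
          rw [e]; exact N.mul_mem y'.2 (N.inv_mem y.2)) hxN
      · rw [Subtype.ext (mul_left_cancel h)]
    · rintro ⟨g, hg⟩
      rcases h g hg with hg' | hg'
      · exact ⟨.inl ⟨g, hg'⟩, rfl⟩
      · exact ⟨.inr ⟨_, hg'⟩, Subtype.ext (mul_inv_cancel_left x g)⟩
  rw [← Nat.card_eq_of_bijective f hf, Nat.card_sum]; omega

end Adjoin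

section PermHom

variable {G : Type*} [Group G] {α : Type*} {m : ℕ}

/-- Hypotheses for the permutation representation of `H` on the points `pts`. -/
structure ActsOn (H : Subgroup G) (act : G → α → α) (pts : Fin m → α) : Prop where
  act_one : ∀ x, act 1 x = x
  act_mul : ∀ g k x, act (g * k) x = act g (act k x)
  inj : Function.Injective pts
  maps : ∀ g ∈ H, ∀ i, ∃ j, act g (pts i) = pts j

variable {H : Subgroup G} {act : G → α → α} {pts : Fin m → α}

/-- The index of the image of a point. -/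
noncomputable def ActsOn.img (h : ActsOn H act pts) (g : H) (i : Fin m) : Fin m :=
  Classical.choose (h.maps g g.2 i)

theorem ActsOn.img_spec (h : ActsOn H act pts) (g : H) (i : Fin m) :
    act g (pts i) = pts (h.img g i) := Classical.choose_spec (h.maps g g.2 i)

/-- The permutation representation. -/
noncomputable def ActsOn.hom (h : ActsOn H act pts) : H →* Equiv.Perm (Fin m) where
  toFun g :=
    { toFun := h.img g
      invFun := h.img g⁻¹
      left_inv := fun i => h.inj (by
        rw [← h.img_spec, ← h.img_spec, ← h.act_mul, ← Subgroup.coe_mul, inv_mul_cancel,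
          Subgroup.coe_one, h.act_one])
      right_inv := fun i => h.inj (by
        rw [← h.img_spec, ← h.img_spec, ← h.act_mul, ← Subgroup.coe_mul, mul_inv_cancel,
          Subgroup.coe_one, h.act_one]) }
  map_one' := Equiv.ext fun i => h.inj (by
    change pts (h.img 1 i) = pts i
    rw [← h.img_spec, Subgroup.coe_one, h.act_one])
  map_mul' g k := Equiv.ext fun i => h.inj (by
    change pts (h.img (g * k) i) = pts (h.img g (h.img k i))
    rw [← h.img_spec, ← h.img_spec, ← h.img_spec, Subgroup.coe_mul, h.act_mul])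

theorem ActsOn.hom_spec (h : ActsOn H act pts) (g : H) (i : Fin m) :
    act g (pts i) = pts (h.hom g i) := h.img_spec g i

theorem ActsOn.hom_eq (h : ActsOn H act pts) (g : H) (i j : Fin m)
    (e : act g (pts i) = pts j) : h.hom g i = j := h.inj (by rw [← h.hom_spec, e])

/-- Conjugation. -/
def conjAct (g x : G) : G := g * x * g⁻¹

theorem conjAct_one (x : G) : conjAct 1 x = x := by simp [conjAct]

theorem conjAct_mul (g k x : G) : conjAct (g * k) x = conjAct g (conjAct k x) := by
  simp [conjAct, mul_assoc]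

end PermHom

section Sum

variable {G : Type*} [Group G] [Finite G]

/-- Conjugates of `t` in the left coset `g X`. -/
noncomputable def cosetCount (t : G) (X : Subgroup G) (g : G) : ℕ :=
  conjCount t {s | g⁻¹ * s ∈ X}

omit [Finite G] in
theorem cosetCount_congr (t : G) (X : Subgroup G) {g g' : G} (h : g⁻¹ * g' ∈ X) :
    cosetCount t X g' = cosetCount t X g := by
  unfold cosetCount
  congr 1
  ext s
  constructor <;> intro hs
  · have e : g⁻¹ * s = g⁻¹ * g' * (g'⁻¹ * s) := by group
    exact show _ ∈ X by rw [e]; exact X.mul_mem h hs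
  · have e : g'⁻¹ * s = (g⁻¹ * g')⁻¹ * (g⁻¹ * s) := by group
    exact show _ ∈ X by rw [e]; exact X.mul_mem (X.inv_mem h) hs

theorem cosetCount_conj (t : G) (X : Subgroup G) {n : G} (hn : ∀ x, x ∈ X ↔ n * x * n⁻¹ ∈ X)
    (g : G) : cosetCount t X (n * g * n⁻¹) = cosetCount t X g := by
  refine (Nat.card_congr (Equiv.subtypeEquiv (MulAut.conj n).toEquiv fun s => ?_)).symm
  have hc : IsConj s (n * s * n⁻¹) := isConj_iff.mpr ⟨n, rfl⟩
  have e : (n * g * n⁻¹)⁻¹ * (n * s * n⁻¹) = n * (g⁻¹ * s) * n⁻¹ := by group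
  change g⁻¹ * s ∈ X ∧ IsConj t s ↔
    (n * g * n⁻¹)⁻¹ * (n * s * n⁻¹) ∈ X ∧ IsConj t (n * s * n⁻¹)
  rw [e, ← hn]
  exact ⟨fun ⟨h1, h2⟩ => ⟨h1, h2.trans hc⟩, fun ⟨h1, h2⟩ => ⟨h1, h2.trans hc.symm⟩⟩

/-- Sum over cosets: if `ρ` on `H` has fibres the cosets of `E` and the involutions of the set `S`
land in `F`, the conjugates in `S` are counted coset by coset. -/
theorem conjCount_eq_sum {β : Type*} [Group β] [DecidableEq β] {H E : Subgroup G} (ρ : H →* β)
    (hker : ∀ g : H, ρ g = 1 ↔ (g : G) ∈ E) (hEH : E ≤ H) (t : G) (S : Set G) (F : Finset β)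
    (lift : β → G) (hlift : ∀ x ∈ F, ∃ h : lift x ∈ H, ρ ⟨lift x, h⟩ = x)
    (hS : ∀ s : H, IsConj t (s : G) → ((s : G) ∈ S ↔ ρ s ∈ F)) (hSH : S ⊆ (H : Set G)) :
    conjCount t S = ∑ x ∈ F, cosetCount t E (lift x) := by
  classical
  have := Fintype.ofFinite G
  simp only [cosetCount, conjCount, Nat.card_eq_fintype_card, Fintype.card_subtype]
  rw [← Finset.card_biUnion]
  · congr 1
    ext s
    simp only [Finset.mem_filter, Finset.mem_univ, true_and, Finset.mem_biUnion, Set.mem_ofPred_eq]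
    constructor
    · rintro ⟨hs, hc⟩
      have hx := (hS ⟨s, hSH hs⟩ hc).mp hs
      refine ⟨_, hx, ?_, hc⟩
      obtain ⟨hl, hr⟩ := hlift _ hx
      have := (hker (⟨_, hl⟩⁻¹ * ⟨s, hSH hs⟩)).mp (by rw [map_mul, map_inv, hr, inv_mul_cancel])
      simpa using this
    · rintro ⟨x, hx, hs, hc⟩
      obtain ⟨hl, hr⟩ := hlift x hx
      have hsH : s ∈ H := by
        have e : s = lift x * ((lift x)⁻¹ * s) := by group
        rw [e]; exact H.mul_mem hl (hEH hs)
      refine ⟨(hS ⟨s, hsH⟩ hc).mpr ?_, hc⟩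
      have := (hker (⟨_, hl⟩⁻¹ * ⟨s, hsH⟩)).mpr (by simpa using hs)
      rw [map_mul, map_inv, hr, inv_mul_eq_one] at this
      rw [← this]; exact hx
  · intro x hx y hy hxy
    simp only [Function.onFun]
    rw [Finset.disjoint_filter]
    rintro s - ⟨h1, -⟩ ⟨h2, -⟩
    obtain ⟨hl, hr⟩ := hlift x hx
    obtain ⟨hl', hr'⟩ := hlift y hy
    have hm : (lift x)⁻¹ * lift y ∈ E := by
      have e : (lift x)⁻¹ * lift y = ((lift x)⁻¹ * s) * ((lift y)⁻¹ * s)⁻¹ := by group
      rw [e]; exact E.mul_mem h1 (E.inv_mem h2)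
    have := (hker (⟨_, hl⟩⁻¹ * ⟨_, hl'⟩)).mpr (by simpa using hm)
    rw [map_mul, map_inv, hr, hr', inv_mul_eq_one] at this
    exact hxy this

end Sum

end Cfsg.Agent.InvolTimesSym
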