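import Cfsg.Agent.Lib.InvolTimesSym.Model
import Cfsg.Agent.Lib.InvolTimesSym.Tools

/-!
# The centraliser `⟨t⟩ × Sₙ` seen inside `G`

`U = ⟨p, z, a⟩`, `E = ⟨t⟩U`, `M = U⟨q⟩`, `T = ⟨t⟩M`; symmetric in `(p, a, σ) ↔ (q, b, τ)`.
-/

set_option autoImplicit false

namespace Cfsg.Agent.InvolTimesSym

open Subgroup

variable {G : Type*} [Group G]

/-- `X ∪ t X`. -/
def tList (t : G) (X : List G) : List G := X ++ X.map (t * ·)

theorem mem_tList {t : G} {X : List G} {g : G} :
    g ∈ tList t X ↔ g ∈ X ∨ t⁻¹ * g ∈ X := by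
  simp only [tList, List.mem_append, List.mem_map]
  exact or_congr Iff.rfl
    ⟨fun ⟨x, hx, e⟩ => by rwa [← e, inv_mul_cancel_left],
      fun h => ⟨_, h, mul_inv_cancel_left t g⟩⟩

/-- One of the two sides of the picture. -/
structure Side (t p q a b z σ : G) : Prop where
  tp : t * p = p * t
  tq : t * q = q * t
  ta : t * a = a * t
  tσ : t * σ = σ * t
  p2 : p * p = 1
  a2 : a * a = 1
  z2 : z * z = 1
  pa : p * a = a * p
  qa : q * a = a * q
  pz : p * z = z * p
  za : z * a = a * z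
  az : a * z = b
  qpq : q * p * q = p * z
  sp : σ * p = p * z * σ
  spz : σ * (p * z) = a * σ
  sa : σ * a = p * σ
  nodup : (tList t (mList p q z a)).Nodup
  nodupN : (tList t (nList p q z a σ)).Nodup
  subM : mList p q z a ⊆ mList q p z b
  invM : ∀ m ∈ mList p q z a, m * m = 1 → m ∈ uList p z a ∨ m ∈ uList q z b
  mixed : ∀ u ∈ uList p z a, ∀ v ∈ uList q z b, u * v = v * u →
    u ∈ uList q z b ∨ v ∈ uList p z a
  cent : ∀ g, g * t = t * g → g * p = p * g → g * z = z * g → g * a = a * g →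
    g ∈ tList t (uList p z a)
  norm : ∀ g, g * t = t * g → g * p * g⁻¹ ∈ tList t (uList p z a) →
    g * z * g⁻¹ ∈ tList t (uList p z a) → g * a * g⁻¹ ∈ tList t (uList p z a) →
    g ∈ tList t (nList p q z a σ)
  notConj : ∀ g, g * t = t * g → ¬ (g * p * g⁻¹ ∈ tList t (uList q z b) ∧
    g * z * g⁻¹ ∈ tList t (uList q z b) ∧ g * a * g⁻¹ ∈ tList t (uList q z b))
  qb : ∃ c, c * t = t * c ∧ c * z * c⁻¹ = q * a

/-- The centraliser of the involution `t`, and `G` has no subgroup of index two. -/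
structure Base (t p q a b z σ τ : G) : Prop where
  left : Side t p q a b z σ
  right : Side t q p b a z τ
  normM : ∀ g, g * t = t * g → g * p * g⁻¹ ∈ tList t (mList p q z a) →
    g * q * g⁻¹ ∈ tList t (mList p q z a) → g * a * g⁻¹ ∈ tList t (mList p q z a) →
    g ∈ tList t (mList p q z a)
  normM' : ∀ g, g * t = t * g → g * q * g⁻¹ ∈ tList t (mList q p z b) →
    g * p * g⁻¹ ∈ tList t (mList q p z b) → g * b * g⁻¹ ∈ tList t (mList q p z b) →
    g ∈ tList t (mList q p z b)
  card : ∃ m, Odd m ∧ Nat.card (centralizer ({t} : Set G)) = 32 * m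
  no : ¬ ∃ H : Subgroup G, H.index = 2
  t2 : t * t = 1
  t1 : t ≠ 1

theorem Base.symm {t p q a b z σ τ : G} (h : Base t p q a b z σ τ) : Base t q p b a z τ σ where
  left := h.right
  right := h.left
  normM := h.normM'
  normM' := h.normM
  card := h.card
  no := h.no
  t2 := h.t2
  t1 := h.t1

/-- `⟨p, z, a⟩`. -/
def uG (p z a : G) : Subgroup G := zpowers p ⊔ zpowers z ⊔ zpowers a
/-- `⟨t, p, z, a⟩`. -/
def eG (t p z a : G) : Subgroup G := uG p z a ⊔ zpowers t
/-- `⟨p, q, z, a⟩`. -/
def mG (p q z a : G) : Subgroup G := uG p z a ⊔ zpowers q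
/-- `⟨t, p, q, z, a⟩`. -/
def tG (t p q z a : G) : Subgroup G := mG p q z a ⊔ zpowers t

/-- The conjugate `g X g⁻¹`. -/
def cmap (g : G) (X : Subgroup G) : Subgroup G := X.map (MulAut.conj g).toMonoidHom

theorem mem_cmap {g x : G} {X : Subgroup G} : x ∈ cmap g X ↔ g⁻¹ * x * g ∈ X := by
  simp only [cmap, Subgroup.mem_map_equiv, MulAut.conj_symm_apply]

theorem conj_mem_cmap {g x : G} {X : Subgroup G} (h : x ∈ X) : g * x * g⁻¹ ∈ cmap g X := by
  rw [mem_cmap]; simpa [mul_assoc] using h

theorem cmap_mul (g k : G) (X : Subgroup G) : cmap (g * k) X = cmap g (cmap k X) := by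
  ext x; simp only [mem_cmap, mul_inv_rev, mul_assoc]

theorem cmap_one (X : Subgroup G) : cmap 1 X = X := by
  ext x; simp [mem_cmap]

theorem cmap_mono {g : G} {X Y : Subgroup G} (h : X ≤ Y) : cmap g X ≤ cmap g Y :=
  fun _ hx => mem_cmap.mpr (h (mem_cmap.mp hx))

theorem card_cmap (g : G) (X : Subgroup G) : Nat.card (cmap g X) = Nat.card X :=
  Subgroup.card_map_of_injective (MulAut.conj g).injective

theorem mem_normalizer_iff_cmap {g : G} {X : Subgroup G} :
    g ∈ normalizer (X : Set G) ↔ cmap g X = X := by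
  rw [Subgroup.mem_normalizer_iff_map_conj_eq]; rfl

theorem eq_of_card [Finite G] {X Y : Subgroup G} (h : X ≤ Y) (hc : Nat.card X = Nat.card Y) :
    X = Y := Subgroup.eq_of_le_of_card_ge h hc.ge

theorem inv_of_sq {x : G} (h : x * x = 1) : x⁻¹ = x := inv_eq_of_mul_eq_one_right h

theorem conj_of_comm' {g x : G} (h : g * x = x * g) : g * x * g⁻¹ = x := by
  rw [h, mul_inv_cancel_right]

theorem comm_of_conj {g x : G} (h : g * x * g⁻¹ = x) : g * x = x * g := by
  conv_rhs => rw [← h]
  group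

/-- The elements of `⟨p, z, a⟩` indexed by bit masks. -/
def uAt (p z a : G) (i : Fin 8) : G :=
  p ^ (i.val % 2) * z ^ (i.val / 2 % 2) * a ^ (i.val / 4)

/-- Addition of bit masks. -/
def xr (i j : Fin 8) : Fin 8 := i ^^^ j

/-- The linear map of bit masks with given images of `1`, `2`, `4`. -/
def lin (i j k n : Fin 8) : Fin 8 :=
  xr (xr (if n.val % 2 = 1 then i else 0) (if n.val / 2 % 2 = 1 then j else 0))
    (if n.val / 4 = 1 then k else 0)

theorem pow_mod_two {x : G} (h : x * x = 1) (n : ℕ) : x ^ n = x ^ (n % 2) := by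
  conv_lhs => rw [← Nat.div_add_mod n 2]
  rw [pow_add, pow_mul, pow_two, h, one_pow, one_mul]

namespace Side

variable [Finite G] {t p q a b z σ : G} (S : Side t p q a b z σ)
include S

omit [Finite G] in
theorem zt : t * z = z * t := by
  have hq : Commute t q := S.tq
  have hp : Commute t p := S.tp
  have e : z = p * (q * p * q) := by rw [S.qpq, ← mul_assoc, S.p2, one_mul]
  rw [e]
  exact (hp.mul_right ((hq.mul_right hp).mul_right hq)).eq

theorem mem_uG {g : G} : g ∈ uG p z a ↔ g ∈ uList p z a := by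
  have hp : ∀ g, g ∈ zpowers p ↔ g = 1 ∨ g = p := by
    intro g
    have h := mem_sup_zpowers (X := (⊥ : Subgroup G)) (x := p) (g := g)
      (by simp [S.p2]) (by intro y hy; simp_all)
    rw [bot_sup_eq] at h
    rw [h, mem_bot, mem_bot, inv_mul_eq_one, eq_comm (a := p)]
  have hpz : ∀ g, g ∈ zpowers p ⊔ zpowers z ↔ g = 1 ∨ g = p ∨ g = z ∨ g = p * z := by
    intro g
    rw [mem_sup_zpowers (by rw [S.z2]; exact one_mem _)
      (by intro y hy
          rcases (hp y).mp hy with rfl | rfl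
          · simp
          · rw [← S.pz, mul_inv_cancel_right]; exact mem_zpowers _), hp, hp,
      inv_mul_eq_one, inv_mul_eq_iff_eq_mul, S.pz, eq_comm (a := z)]
    tauto
  unfold uG
  rw [mem_sup_zpowers (by rw [S.a2]; exact one_mem _)
    (by intro y hy
        have hza : Commute a z := S.za.symm
        have hpa : Commute a p := S.pa.symm
        rcases (hpz y).mp hy with rfl | rfl | rfl | rfl
        · simp
        · rw [hpa.eq, mul_inv_cancel_right]; exact mem_sup_left (mem_zpowers _)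
        · rw [hza.eq, mul_inv_cancel_right]; exact mem_sup_right (mem_zpowers _)
        · rw [(hpa.mul_right hza).eq, mul_inv_cancel_right]
          exact mul_mem (mem_sup_left (mem_zpowers _)) (mem_sup_right (mem_zpowers _))),
    hpz, hpz, inv_mul_eq_one, inv_mul_eq_iff_eq_mul, inv_mul_eq_iff_eq_mul,
    inv_mul_eq_iff_eq_mul, eq_comm (a := a)]
  have e1 : a * (p * z) = p * z * a := by
    rw [← mul_assoc, ← S.pa, mul_assoc, ← S.za, ← mul_assoc]
  rw [e1, S.za.symm.trans rfl, ← S.pa]
  simp only [uList, List.mem_cons, List.not_mem_nil, or_false, or_assoc]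

omit [Finite G] in
theorem uAt_mul (i j : Fin 8) : uAt p z a i * uAt p z a j = uAt p z a (xr i j) := by
  have c1 : Commute p z := S.pz
  have c2 : Commute p a := S.pa
  have c3 : Commute z a := S.za
  obtain ⟨e1, e2, e3⟩ : (xr i j).val % 2 = (i.val % 2 + j.val % 2) % 2 ∧
      (xr i j).val / 2 % 2 = (i.val / 2 % 2 + j.val / 2 % 2) % 2 ∧
      (xr i j).val / 4 = (i.val / 4 + j.val / 4) % 2 := by revert i j; decide
  simp only [uAt]
  rw [e1, e2, e3, ← pow_mod_two S.p2 (_ + _), ← pow_mod_two S.z2 (_ + _),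
    ← pow_mod_two S.a2 (_ + _), pow_add, pow_add,
    pow_add]
  generalize hP : p ^ (i.val % 2) = P
  generalize hP' : p ^ (j.val % 2) = P'
  generalize hZ : z ^ (i.val / 2 % 2) = Z
  generalize hZ' : z ^ (j.val / 2 % 2) = Z'
  generalize hA : a ^ (i.val / 4) = A
  generalize hA' : a ^ (j.val / 4) = A'
  have d1 : Commute A P' := hA ▸ hP' ▸ (c2.pow_pow _ _).symm
  have d2 : Commute Z P' := hZ ▸ hP' ▸ (c1.pow_pow _ _).symm
  have d3 : Commute A Z' := hA ▸ hZ' ▸ (c3.pow_pow _ _).symm
  calc P * Z * A * (P' * Z' * A') = P * Z * (A * P') * (Z' * A') := by group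
    _ = P * (Z * P') * (A * Z') * A' := by rw [d1.eq]; group
    _ = P * P' * (Z * Z') * (A * A') := by rw [d2.eq, d3.eq]; group

omit [Finite G] in
theorem conj_uAt {g : G} {i j k : Fin 8} (hp : g * p * g⁻¹ = uAt p z a i)
    (hz : g * z * g⁻¹ = uAt p z a j) (ha : g * a * g⁻¹ = uAt p z a k) (n : Fin 8) :
    g * uAt p z a n * g⁻¹ = uAt p z a (lin i j k n) := by
  have h0 : uAt p z a 0 = 1 := by simp [uAt]
  have hm : ∀ x y : G, g * (x * y) * g⁻¹ = (g * x * g⁻¹) * (g * y * g⁻¹) := fun x y => by group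
  have hpow : ∀ (x : G) (m : ℕ) (l : Fin 8), m < 2 → g * x * g⁻¹ = uAt p z a l →
      g * x ^ m * g⁻¹ = uAt p z a (if m = 1 then l else 0) := by
    intro x m l hm' hx
    interval_cases m
    · simp [h0]
    · simpa using hx
  conv_lhs => rw [uAt]
  rw [hm, hm, hpow p _ i (Nat.mod_lt _ (by norm_num)) hp,
    hpow z _ j (Nat.mod_lt _ (by norm_num)) hz, hpow a _ k (by omega) ha, S.uAt_mul, S.uAt_mul]
  rfl

omit [Finite G] in
theorem uAt_list : uList p z a = List.ofFn (uAt p z a) := by
  simp [List.ofFn_succ, uList, uAt]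

omit [Finite G] in
theorem mem_uList_iff {g : G} : g ∈ uList p z a ↔ ∃ i, uAt p z a i = g := by
  rw [S.uAt_list, List.mem_ofFn]

omit [Finite G] in
theorem uAt_inj : Function.Injective (uAt p z a) := by
  have h : (uList p z a).Nodup := S.nodup.of_append_left.of_append_left
  rw [S.uAt_list, List.nodup_ofFn] at h
  exact h

omit [Finite G] S in
theorem p_mem : p ∈ uG p z a := mem_sup_left (mem_sup_left (mem_zpowers p))
omit [Finite G] S in
theorem z_mem : z ∈ uG p z a := mem_sup_left (mem_sup_right (mem_zpowers z))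
omit [Finite G] S in
theorem a_mem : a ∈ uG p z a := mem_sup_right (mem_zpowers a)

omit [Finite G] in
theorem t_comm_u {g : G} (hg : g ∈ uG p z a) : t * g = g * t := by
  have : uG p z a ≤ centralizer ({t} : Set G) := by
    simp only [uG, sup_le_iff, zpowers_le, mem_centralizer_singleton_iff]
    exact ⟨⟨S.tp.symm, S.zt.symm⟩, S.ta.symm⟩
  exact (mem_centralizer_singleton_iff.mp (this hg)).symm

theorem mem_eG (ht : t * t = 1) {g : G} : g ∈ eG t p z a ↔ g ∈ tList t (uList p z a) := by
  rw [eG, mem_sup_zpowers (by rw [ht]; exact one_mem _)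
    (fun y hy => by rw [S.t_comm_u hy, mul_inv_cancel_right]; exact hy), mem_tList, S.mem_uG,
    S.mem_uG]

end Side

namespace Base

variable [Finite G] {t p q a b z σ τ : G} (B : Base t p q a b z σ τ)
include B

omit [Finite G] in
theorem qz : q * z = z * q := B.right.pz

omit [Finite G] in
theorem conj_q_uG : ∀ y ∈ uG p z a, q * y * q⁻¹ ∈ uG p z a := by
  intro y hy
  have hle : uG p z a ≤ cmap q⁻¹ (uG p z a) := by
    simp only [uG, sup_le_iff, zpowers_le, mem_cmap, inv_inv]
    refine ⟨⟨?_, ?_⟩, ?_⟩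
    · rw [inv_of_sq B.right.p2, B.left.qpq]
      exact mul_mem Side.p_mem Side.z_mem
    · rw [B.qz, mul_inv_cancel_right]; exact Side.z_mem
    · rw [B.left.qa, mul_inv_cancel_right]; exact Side.a_mem
  have := mem_cmap.mp (hle hy)
  rwa [inv_inv] at this

theorem mem_mG {g : G} : g ∈ mG p q z a ↔ g ∈ mList p q z a := by
  rw [mG, mem_sup_zpowers (by rw [B.right.p2]; exact one_mem _) B.conj_q_uG, B.left.mem_uG,
    B.left.mem_uG, mList, List.mem_append, List.mem_map]
  exact or_congr Iff.rfl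
    ⟨fun h => ⟨_, h, mul_inv_cancel_left q g⟩,
      fun ⟨x, hx, e⟩ => by rwa [← e, inv_mul_cancel_left]⟩

omit [Finite G] in
theorem t_comm_m {g : G} (hg : g ∈ mG p q z a) : t * g = g * t := by
  have : mG p q z a ≤ centralizer ({t} : Set G) := by
    simp only [mG, sup_le_iff, zpowers_le, mem_centralizer_singleton_iff]
    exact ⟨fun x hx => mem_centralizer_singleton_iff.mpr (B.left.t_comm_u hx).symm,
      B.left.tq.symm⟩
  exact (mem_centralizer_singleton_iff.mp (this hg)).symm

theorem mem_tG {g : G} : g ∈ tG t p q z a ↔ g ∈ tList t (mList p q z a) := by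
  rw [tG, mem_sup_zpowers (by rw [B.t2]; exact one_mem _)
    (fun y hy => by rw [B.t_comm_m hy, mul_inv_cancel_right]; exact hy), mem_tList, B.mem_mG,
    B.mem_mG]

theorem mG_symm : mG q p z b = mG p q z a := by
  ext g
  rw [B.mem_mG, B.symm.mem_mG]
  exact ⟨fun h => B.right.subM h, fun h => B.left.subM h⟩

theorem tG_symm : tG t q p z b = tG t p q z a := by rw [tG, tG, B.mG_symm]

omit [Finite G] B in
theorem card_of_list {X : Subgroup G} {l : List G} (h : ∀ g, g ∈ X ↔ g ∈ l) (hl : l.Nodup) :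
    Nat.card X = l.length := by
  classical
  have e : Nat.card X = Nat.card {g : G // g ∈ l.toFinset} :=
    Nat.card_congr (Equiv.subtypeEquivRight fun g => by rw [List.mem_toFinset]; exact h g)
  rw [e, Nat.card_eq_fintype_card, Fintype.card_coe, List.toFinset_card_of_nodup hl]

theorem card_uG : Nat.card (uG p z a) = 8 := by
  rw [card_of_list (fun g => B.left.mem_uG) ((B.left.nodup.of_append_left).of_append_left)]; rfl

theorem card_mG : Nat.card (mG p q z a) = 16 := by
  rw [card_of_list (fun g => B.mem_mG) B.left.nodup.of_append_left]; rfl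

theorem card_tG : Nat.card (tG t p q z a) = 32 := by
  rw [card_of_list (fun g => B.mem_tG) B.left.nodup]; rfl

theorem t_not_mem_mG : t ∉ mG p q z a := fun h => by
  have h1 := B.card_tG
  have h2 : tG t p q z a = mG p q z a := sup_eq_left.mpr (zpowers_le.mpr h)
  rw [h2, B.card_mG] at h1
  omega

omit [Finite G] B in
theorem uG_le_mG : uG p z a ≤ mG p q z a := le_sup_left

omit [Finite G] B in
theorem mG_le_tG : mG p q z a ≤ tG t p q z a := le_sup_left

omit [Finite G] B in
theorem eG_le_tG : eG t p z a ≤ tG t p q z a := sup_le_sup_right uG_le_mG _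

theorem card_eG : Nat.card (eG t p z a) = 16 := by
  have h := card_sup_zpowers (X := uG p z a) (x := t) (fun h => B.t_not_mem_mG (uG_le_mG h))
    (by rw [B.t2]; exact one_mem _)
    (fun y hy => by rw [B.left.t_comm_u hy, mul_inv_cancel_right]; exact hy)
  rw [eG, h, B.card_uG]

omit [Finite G] B in
theorem t_mem_eG : t ∈ eG t p z a := mem_sup_right (mem_zpowers t)

omit [Finite G] in
theorem tG_le : tG t p q z a ≤ centralizer ({t} : Set G) :=
  sup_le (fun _ hx => mem_centralizer_singleton_iff.mpr (B.t_comm_m hx).symm)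
    (zpowers_le.mpr (mem_centralizer_singleton_iff.mpr rfl))

omit [Finite G] in
theorem eG_le : eG t p z a ≤ centralizer ({t} : Set G) := le_trans eG_le_tG B.tG_le

/-- A `2`-subgroup of the centraliser of `t` is conjugate into `T`. -/
theorem conj_into_T {X : Subgroup G} (hX : X ≤ centralizer ({t} : Set G)) {k : ℕ}
    (hk : Nat.card X = 2 ^ k) : ∃ c, c * t = t * c ∧ cmap c X ≤ tG t p q z a := by
  have : Fact (Nat.Prime 2) := ⟨Nat.prime_two⟩
  set C := centralizer ({t} : Set G)
  obtain ⟨m, hm, hC⟩ := B.card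
  have hXp : IsPGroup 2 (X.subgroupOf C) := by
    refine IsPGroup.of_card (n := k) ?_
    rw [Nat.card_congr (Subgroup.subgroupOfEquivOfLe hX).toEquiv, hk]
  obtain ⟨P, hP⟩ := hXp.exists_le_sylow
  have hTc : Nat.card ((tG t p q z a).subgroupOf C) = 2 ^ (Nat.card C).factorization 2 := by
    rw [Nat.card_congr (Subgroup.subgroupOfEquivOfLe B.tG_le).toEquiv, B.card_tG, hC,
      show (32 : ℕ) = 2 ^ 5 by norm_num, Nat.factorization_mul (by norm_num)
        (Nat.pos_iff_ne_zero.mp hm.pos), Finsupp.add_apply, Nat.Prime.factorization_pow Nat.prime_two,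
      Finsupp.single_eq_same, Nat.factorization_eq_zero_of_not_dvd (by
        intro h; exact (Nat.not_even_iff_odd.mpr hm) (even_iff_two_dvd.mpr h))]
  let Q : Sylow 2 C := Sylow.ofCard _ hTc
  obtain ⟨c, hc⟩ := MulAction.exists_smul_eq C P Q
  refine ⟨c, mem_centralizer_singleton_iff.mp c.2, ?_⟩
  intro y hy
  rw [mem_cmap] at hy
  have hyC : (c : G)⁻¹ * y * c ∈ C := hX hy
  have h1 : (⟨_, hyC⟩ : C) ∈ (P : Subgroup C) := hP hy
  have h2 : c * ⟨_, hyC⟩ * c⁻¹ ∈ (Q : Subgroup C) := by
    rw [← hc, Sylow.coe_subgroup_smul]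
    exact ⟨_, h1, rfl⟩
  have h3 : ((c * ⟨_, hyC⟩ * c⁻¹ : C) : G) ∈ tG t p q z a := h2
  simpa [mul_assoc] using h3

/-- Every subgroup of order `32` of the centraliser of a conjugate `s` of `t` is `g T g⁻¹` for
some `g` taking `t` to `s`. -/
theorem sylow_adjust {s : G} (hs : IsConj t s) {X : Subgroup G}
    (hX : X ≤ centralizer ({s} : Set G)) (hc : Nat.card X = 32) :
    ∃ g, g * t * g⁻¹ = s ∧ cmap g (tG t p q z a) = X := by
  obtain ⟨g₀, hg₀⟩ := isConj_iff.mp hs
  have hle : cmap g₀⁻¹ X ≤ centralizer ({t} : Set G) := by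
    intro y hy
    rw [mem_cmap, inv_inv] at hy
    have h := mem_centralizer_singleton_iff.mp (hX hy)
    rw [mem_centralizer_singleton_iff]
    rw [← hg₀] at h
    have h' := congrArg (fun w => g₀⁻¹ * w * g₀) h
    simpa [mul_assoc] using h'
  obtain ⟨c, hc1, hc2⟩ := B.conj_into_T hle (k := 5) (by rw [card_cmap, hc]; norm_num)
  have he := eq_of_card hc2 (by rw [card_cmap, card_cmap, hc, B.card_tG])
  refine ⟨g₀ * c⁻¹, ?_, ?_⟩
  · have h1 : c⁻¹ * t * c = t := by rw [mul_assoc, ← hc1, inv_mul_cancel_left]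
    calc g₀ * c⁻¹ * t * (g₀ * c⁻¹)⁻¹ = g₀ * (c⁻¹ * t * c) * g₀⁻¹ := by group
      _ = s := by rw [h1, hg₀]
  · rw [← he, ← cmap_mul, ← cmap_mul]
    simp [cmap_one]

omit [Finite G] B in
theorem exp_two_comm {A : Subgroup G} (h : ∀ x ∈ A, x * x = 1) {x y : G} (hx : x ∈ A) (hy : y ∈ A) :
    x * y = y * x := by
  have h3 := inv_of_sq (h _ (A.mul_mem hx hy))
  rw [mul_inv_rev, inv_of_sq (h x hx), inv_of_sq (h y hy)] at h3
  exact h3.symm

/-- The elementary abelian subgroups of order `16` of `T`. -/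
theorem elem_le_T {A : Subgroup G} (hA : A ≤ tG t p q z a) (hc : Nat.card A = 16)
    (h2 : ∀ x ∈ A, x * x = 1) : A = eG t p z a ∨ A = eG t q z b := by
  have hsplit : ∀ x ∈ A, x ∈ eG t p z a ∨ x ∈ eG t q z b := by
    intro x hx
    rw [B.left.mem_eG B.t2, B.right.mem_eG B.t2]
    rcases mem_tList.mp (B.mem_tG.mp (hA hx)) with h | h
    · exact (B.left.invM x h (h2 x hx)).imp (fun h => mem_tList.mpr (Or.inl h))
        fun h => mem_tList.mpr (Or.inl h)
    · have hxt : t⁻¹ * x * (t⁻¹ * x) = 1 := by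
        have hc : Commute t x :=
          (mem_centralizer_singleton_iff.mp (B.tG_le (hA hx))).symm
        rw [inv_of_sq B.t2, hc.symm.mul_mul_mul_comm, B.t2, h2 x hx, one_mul]
      exact (B.left.invM _ h hxt).imp (fun h => mem_tList.mpr (Or.inr h))
        fun h => mem_tList.mpr (Or.inr h)
  by_cases hE : A ≤ eG t p z a
  · exact Or.inl (eq_of_card hE (by rw [hc, B.card_eG]))
  by_cases hE' : A ≤ eG t q z b
  · exact Or.inr (eq_of_card hE' (by rw [hc, B.symm.card_eG]))
  exfalso
  obtain ⟨x, hx, hxE⟩ := SetLike.not_le_iff_exists.mp hE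
  obtain ⟨y, hy, hyE⟩ := SetLike.not_le_iff_exists.mp hE'
  have hx' := (hsplit x hx).resolve_left hxE
  have hy' := (hsplit y hy).resolve_right hyE
  rcases hsplit _ (A.mul_mem hx hy) with h | h
  · exact hxE (by simpa using (eG t p z a).mul_mem h ((eG t p z a).inv_mem hy'))
  · exact hyE (by simpa using (eG t q z b).mul_mem ((eG t q z b).inv_mem hx') h)

theorem eG_sq {x : G} (hx : x ∈ eG t p z a) : x * x = 1 := by
  have hu : ∀ u ∈ uG p z a, u * u = 1 := by
    intro u hu
    rw [B.left.mem_uG] at hu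
    have c1 : Commute p z := B.left.pz
    have c2 : Commute p a := B.left.pa
    have c3 : Commute z a := B.left.za
    have e : ∀ {u v : G}, Commute u v → u * u = 1 → v * v = 1 → u * v * (u * v) = 1 := by
      intro u v huv h1 h2
      rw [huv.symm.mul_mul_mul_comm, h1, h2, one_mul]
    simp only [uList, List.mem_cons, List.not_mem_nil, or_false] at hu
    rcases hu with rfl | rfl | rfl | rfl | rfl | rfl | rfl | rfl
    · exact one_mul 1
    · exact B.left.p2
    · exact B.left.z2
    · exact e c1 B.left.p2 B.left.z2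
    · exact B.left.a2
    · exact e c2 B.left.p2 B.left.a2
    · exact e c3 B.left.z2 B.left.a2
    · exact e (c2.mul_left c3) (e c1 B.left.p2 B.left.z2) B.left.a2
  rw [B.left.mem_eG B.t2, mem_tList, ← B.left.mem_uG, ← B.left.mem_uG] at hx
  rcases hx with h | h
  · exact hu x h
  · have e : x = t * (t⁻¹ * x) := by group
    have hc : Commute t (t⁻¹ * x) := B.left.t_comm_u h
    rw [e, hc.symm.mul_mul_mul_comm, B.t2, hu _ h, one_mul]

/-- An elementary abelian subgroup of order `16` of the centraliser of `t` is conjugate to one of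
the two. -/
theorem elem_classify {A : Subgroup G} (hA : A ≤ centralizer ({t} : Set G))
    (hc : Nat.card A = 16) (h2 : ∀ x ∈ A, x * x = 1) :
    ∃ c, c * t = t * c ∧ (cmap c A = eG t p z a ∨ cmap c A = eG t q z b) := by
  obtain ⟨c, hc1, hc2⟩ := B.conj_into_T hA (k := 4) (by rw [hc]; norm_num)
  refine ⟨c, hc1, B.elem_le_T hc2 (by rw [card_cmap, hc]) ?_⟩
  intro x hx
  have := h2 _ (mem_cmap.mp hx)
  have e : x * x = c * (c⁻¹ * x * c * (c⁻¹ * x * c)) * c⁻¹ := by group
  rw [e, this]; simp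

theorem not_conj_eG {c : G} (hc : c * t = t * c) : cmap c (eG t p z a) ≠ eG t q z b := by
  intro h
  refine B.left.notConj c hc ⟨?_, ?_, ?_⟩ <;> rw [← B.right.mem_eG B.t2, ← h] <;>
    apply conj_mem_cmap <;> apply mem_sup_left
  exacts [Side.p_mem, Side.z_mem, Side.a_mem]

/-- `C(t) ∩ C(E) = E`. -/
theorem cent_eG {g : G} (hg : ∀ x ∈ eG t p z a, g * x = x * g) : g ∈ eG t p z a :=
  (B.left.mem_eG B.t2).mpr (B.left.cent g (hg t t_mem_eG)
    (hg p (mem_sup_left Side.p_mem)) (hg z (mem_sup_left Side.z_mem))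
    (hg a (mem_sup_left Side.a_mem)))

/-- `N(E) ∩ C(t)` as a list. -/
theorem mem_normC {g : G} :
    g ∈ normalizer (eG t p z a : Set G) ⊓ centralizer ({t} : Set G) ↔
      g ∈ tList t (nList p q z a σ) := by
  constructor
  · rintro ⟨h1, h2⟩
    have h1' := mem_normalizer_iff_cmap.mp h1
    refine B.left.norm g (mem_centralizer_singleton_iff.mp h2) ?_ ?_ ?_ <;>
      rw [← B.left.mem_eG B.t2, ← h1'] <;> apply conj_mem_cmap <;> apply mem_sup_left
    exacts [Side.p_mem, Side.z_mem, Side.a_mem]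
  · have hC : ∀ x : G, x * t = t * x → cmap x (eG t p z a) = eG t p z a →
        x ∈ normalizer (eG t p z a : Set G) ⊓ centralizer ({t} : Set G) :=
      fun x h1 h2 => ⟨mem_normalizer_iff_cmap.mpr h2, mem_centralizer_singleton_iff.mpr h1⟩
    set N := normalizer (eG t p z a : Set G) ⊓ centralizer ({t} : Set G)
    have hσ : σ ∈ N := by
      refine hC σ B.left.tσ.symm (eq_of_card ?_ (card_cmap _ _))
      simp only [eG, uG, cmap, Subgroup.map_sup, MonoidHom.map_zpowers, sup_le_iff, zpowers_le,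
        MulEquiv.coe_toMonoidHom, MulAut.conj_apply]
      have hp : σ * p * σ⁻¹ = p * z := by rw [B.left.sp, mul_inv_cancel_right]
      have ha : σ * a * σ⁻¹ = p := by rw [B.left.sa, mul_inv_cancel_right]
      have hpz : σ * (p * z) * σ⁻¹ = a := by rw [B.left.spz, mul_inv_cancel_right]
      have hz : σ * z * σ⁻¹ = (p * z)⁻¹ * a := by
        rw [← hp, ← hpz]; group
      refine ⟨⟨⟨?_, ?_⟩, ?_⟩, ?_⟩
      · rw [hp]; exact mem_sup_left (mul_mem Side.p_mem Side.z_mem)
      · rw [hz]; exact mem_sup_left (mul_mem (inv_mem (mul_mem Side.p_mem Side.z_mem)) Side.a_mem)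
      · rw [ha]; exact mem_sup_left Side.p_mem
      · rw [← B.left.tσ, mul_inv_cancel_right]; exact t_mem_eG
    have hq : q ∈ N := by
      refine hC q B.left.tq.symm (eq_of_card ?_ (card_cmap _ _))
      intro x hx
      rw [mem_cmap] at hx
      have hn : ∀ y ∈ uG p z a, q * y * q⁻¹ ∈ uG p z a := B.conj_q_uG
      rw [eG, mem_sup_zpowers (by rw [B.t2]; exact one_mem _)
        (fun y hy => by rw [B.left.t_comm_u hy, mul_inv_cancel_right]; exact hy)] at hx ⊢
      rcases hx with h | h
      · exact Or.inl (by simpa [mul_assoc] using hn _ h)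
      · refine Or.inr ?_
        have h' := hn _ h
        have hqt : q * t⁻¹ = t⁻¹ * q := (Commute.inv_right (show Commute q t from B.left.tq.symm)).eq
        have e : q * (t⁻¹ * (q⁻¹ * x * q)) * q⁻¹ = t⁻¹ * x := by
          rw [← mul_assoc q, hqt]; group
        rwa [e] at h'
    have hE : eG t p z a ≤ N :=
      le_inf Subgroup.le_normalizer B.eG_le
    have hu : ∀ x ∈ mList p q z a, x ∈ N := by
      intro x hx
      rw [← B.mem_mG] at hx
      exact (sup_le (le_trans le_sup_left hE) (zpowers_le.mpr hq)) hx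
    have hn : ∀ x ∈ nList p q z a σ, x ∈ N := by
      intro x hx
      simp only [nList, List.mem_append, List.mem_map] at hx
      rcases hx with (hx | ⟨y, hy, rfl⟩) | ⟨y, hy, rfl⟩
      · exact hu x hx
      · exact mul_mem hσ (hu y hy)
      · exact mul_mem (mul_mem hσ hσ) (hu y hy)
    intro hg
    rcases mem_tList.mp hg with h | h
    · exact hn g h
    · rw [← mul_inv_cancel_left t g]
      exact mul_mem (hE t_mem_eG) (hn _ h)

theorem card_normC :
    Nat.card (normalizer (eG t p z a : Set G) ⊓ centralizer ({t} : Set G) : Subgroup G) = 96 := by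
  rw [card_of_list (fun g => B.mem_normC) B.left.nodupN]; rfl

/-- For a conjugate `u` of `t` centralising `E`, `C(u) ∩ N(E)` has order `96`. -/
theorem card_stab {u : G} (hu : IsConj t u) (hE : eG t p z a ≤ centralizer ({u} : Set G)) :
    Nat.card (normalizer (eG t p z a : Set G) ⊓ centralizer ({u} : Set G) : Subgroup G) = 96 := by
  obtain ⟨g, hg⟩ := isConj_iff.mp hu
  have hle : cmap g⁻¹ (eG t p z a) ≤ centralizer ({t} : Set G) := by
    intro y hy
    rw [mem_cmap, inv_inv] at hy
    have h := mem_centralizer_singleton_iff.mp (hE hy)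
    rw [mem_centralizer_singleton_iff]
    rw [← hg] at h
    simpa [mul_assoc] using congrArg (fun w => g⁻¹ * w * g) h
  obtain ⟨c, hc, hcases⟩ := B.elem_classify hle (by rw [card_cmap, B.card_eG]) (fun x hx => by
    rw [mem_cmap, inv_inv] at hx
    have e : x * x = g⁻¹ * ((g * x * g⁻¹) * (g * x * g⁻¹)) * g := by group
    rw [e, B.eG_sq hx]; simp)
  rw [← cmap_mul] at hcases
  set k := c * g⁻¹
  have hku : k * u * k⁻¹ = t := by
    rw [← hg]
    calc c * g⁻¹ * (g * t * g⁻¹) * (c * g⁻¹)⁻¹ = c * t * c⁻¹ := by group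
      _ = t := by rw [hc, mul_inv_cancel_right]
  have key : ∀ Y : Subgroup G, cmap k (eG t p z a) = Y →
      cmap k (normalizer (eG t p z a : Set G) ⊓ centralizer ({u} : Set G)) =
        normalizer (Y : Set G) ⊓ centralizer ({t} : Set G) := by
    intro Y hY
    ext x
    rw [mem_cmap, mem_inf, mem_inf, mem_normalizer_iff_cmap, mem_normalizer_iff_cmap,
      mem_centralizer_singleton_iff, mem_centralizer_singleton_iff]
    have hx : cmap x Y = cmap k (cmap (k⁻¹ * x * k) (eG t p z a)) := by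
      rw [← hY, ← cmap_mul, ← cmap_mul]; congr 1; group
    constructor
    · rintro ⟨h1, h2⟩
      refine ⟨by rw [hx, h1, hY], ?_⟩
      rw [← hku]; simpa [mul_assoc] using congrArg (fun w => k * w * k⁻¹) h2
    · rintro ⟨h1, h2⟩
      refine ⟨?_, ?_⟩
      · have h3 : cmap k (cmap (k⁻¹ * x * k) (eG t p z a)) = cmap k (eG t p z a) := by
          rw [← hx, h1, hY]
        have h4 := congrArg (cmap k⁻¹) h3
        simpa only [← cmap_mul, inv_mul_cancel, inv_mul_cancel_left, cmap_one] using h4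
      · rw [← hku] at h2; simpa [mul_assoc] using congrArg (fun w => k⁻¹ * w * k) h2
  rw [← card_cmap k]
  rcases hcases with h | h
  · rw [key _ h, B.card_normC]
  · rw [key _ h, B.symm.card_normC]

/-- `N(T) ∩ C(t) = T`. -/
theorem normC_T {g : G} (hg : g * t = t * g) (h : cmap g (tG t p q z a) = tG t p q z a) :
    g ∈ tG t p q z a := by
  refine B.mem_tG.mpr (B.normM g hg ?_ ?_ ?_) <;> rw [← B.mem_tG, ← h] <;> apply conj_mem_cmap
  · exact mG_le_tG (uG_le_mG Side.p_mem)
  · exact mG_le_tG (mem_sup_right (mem_zpowers q))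
  · exact mG_le_tG (uG_le_mG Side.a_mem)

end Base

end Cfsg.Agent.InvolTimesSym
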