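import Mathlib

/-!
# The facts about `S₆` and `S₇` used for involution centralisers `2 × Sₙ`

In `Sₙ`: `p = (01)`, `q = (02)(13)(45)`, `a = (45)`, `b = (01)(23)(45)`, `z = (01)(23)`.
`U = ⟨p, pz, a⟩`, `U' = ⟨q, qz, b⟩` are the elementary abelian subgroups of order `8` of the Sylow
subgroup `M = ⟨p, q, a⟩` of `S₆`.  All facts are symmetric under `(p, a) ↔ (q, b)`.
-/

set_option autoImplicit false

namespace Cfsg.Agent.InvolTimesSym

variable {L : Type*} [Group L]

/-- The elements of `⟨p, z, a⟩`. -/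
def uList (p z a : L) : List L := [1, p, z, p * z, a, p * a, z * a, p * z * a]

/-- The elements of `⟨p, q, a⟩`. -/
def mList (p q z a : L) : List L := uList p z a ++ (uList p z a).map (q * ·)

/-- The normaliser of `⟨p, z, a⟩`. -/
def nList (p q z a σ : L) : List L :=
  mList p q z a ++ (mList p q z a).map (σ * ·) ++ (mList p q z a).map (σ * σ * ·)

/-- The facts used for one of the two elementary abelian subgroups. -/
structure Half (p q a b z σ : L) : Prop where
  p2 : p * p = 1
  a2 : a * a = 1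
  z2 : z * z = 1
  pa : p * a = a * p
  qa : q * a = a * q
  pz : p * z = z * p
  za : z * a = a * z
  az : a * z = b
  qpq : q * p * q = p * z
  nodup : (mList p q z a).Nodup
  nodupN : (nList p q z a σ).Nodup
  subM : mList p q z a ⊆ mList q p z b
  invM : ∀ m ∈ mList p q z a, m * m = 1 → m ∈ uList p z a ∨ m ∈ uList q z b
  mixed : ∀ u ∈ uList p z a, ∀ v ∈ uList q z b, u * v = v * u →
    u ∈ uList q z b ∨ v ∈ uList p z a
  cent : ∀ l, l * p = p * l → l * z = z * l → l * a = a * l → l ∈ uList p z a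
  norm : ∀ l, l * p * l⁻¹ ∈ uList p z a → l * z * l⁻¹ ∈ uList p z a →
    l * a * l⁻¹ ∈ uList p z a → l ∈ nList p q z a σ
  notConj : ∀ l, ¬ (l * p * l⁻¹ ∈ uList q z b ∧ l * z * l⁻¹ ∈ uList q z b ∧
    l * a * l⁻¹ ∈ uList q z b)
  sp : σ * p = p * z * σ
  spz : σ * (p * z) = a * σ
  sa : σ * a = p * σ
  qb : IsConj z (q * a)

/-- The facts about the Sylow subgroup and both elementary abelian subgroups. -/
structure LFacts (p q a b z σ τ : L) : Prop where
  left : Half p q a b z σ
  right : Half q p b a z τ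
  normM : ∀ l, l * p * l⁻¹ ∈ mList p q z a → l * q * l⁻¹ ∈ mList p q z a →
    l * a * l⁻¹ ∈ mList p q z a → l ∈ mList p q z a
  normM' : ∀ l, l * q * l⁻¹ ∈ mList q p z b → l * p * l⁻¹ ∈ mList q p z b →
    l * b * l⁻¹ ∈ mList q p z b → l ∈ mList q p z b
  card : ∃ m, Odd m ∧ Nat.card L = 16 * m

theorem LFacts.symm {p q a b z σ τ : L} (h : LFacts p q a b z σ τ) : LFacts q p b a z τ σ where
  left := h.right
  right := h.left
  normM := h.normM'
  normM' := h.normM
  card := h.card

/-- The conjugacy classes of involutions and the sign. -/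
structure LClasses (a b z : L) : Prop where
  invol : ∀ l : L, l * l = 1 → l = 1 ∨ IsConj a l ∨ IsConj b l ∨ IsConj z l
  ab : ¬ IsConj a b
  az : ¬ IsConj a z
  bz : ¬ IsConj b z
  oddA : Odd (Nat.card {l : L // IsConj a l})
  oddB : Odd (Nat.card {l : L // IsConj b l})
  oddZ : Odd (Nat.card {l : L // IsConj z l})
  eps : ∃ ε : L →* ℤˣ, ε a = -1 ∧ ε b = -1 ∧ ε z = 1

end Cfsg.Agent.InvolTimesSym
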