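import Cfsg.Agent.Lib.InvolTimesSym.Perms

/-!
# `LFacts` and `LClasses` in `S6`
-/

set_option autoImplicit false

namespace Cfsg.Agent.InvolTimesSym.Six

open Equiv

/-- `(01)`. -/
def p : Perm (Fin 6) := swap 0 1
/-- `(02)(13)(45)`. -/
def q : Perm (Fin 6) := swap 0 2 * swap 1 3 * swap 4 5
/-- `(45)`. -/
def a : Perm (Fin 6) := swap 4 5
/-- `(01)(23)(45)`. -/
def b : Perm (Fin 6) := swap 0 1 * swap 2 3 * swap 4 5
/-- `(01)(23)`. -/
def z : Perm (Fin 6) := swap 0 1 * swap 2 3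
/-- `(024)(135)`. -/
def σ : Perm (Fin 6) := swap 0 4 * swap 0 2 * (swap 1 5 * swap 1 3)
/-- `(123)`. -/
def τ : Perm (Fin 6) := swap 1 3 * swap 1 2

/-- Images of `⟨p, z, a⟩`. -/
def IU : List (List (Fin 6)) := [[0,1,2,3,4,5],
  [1,0,2,3,4,5],
  [1,0,3,2,4,5],
  [0,1,3,2,4,5],
  [0,1,2,3,5,4],
  [1,0,2,3,5,4],
  [1,0,3,2,5,4],
  [0,1,3,2,5,4]]
/-- Images of `⟨q, z, b⟩`. -/
def IV : List (List (Fin 6)) := [[0,1,2,3,4,5],
  [2,3,0,1,5,4],
  [1,0,3,2,4,5],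
  [3,2,1,0,5,4],
  [1,0,3,2,5,4],
  [3,2,1,0,4,5],
  [0,1,2,3,5,4],
  [2,3,0,1,4,5]]
/-- Images of `⟨p, q, a⟩`. -/
def IM : List (List (Fin 6)) := [[0,1,2,3,4,5],
  [1,0,2,3,4,5],
  [1,0,3,2,4,5],
  [0,1,3,2,4,5],
  [0,1,2,3,5,4],
  [1,0,2,3,5,4],
  [1,0,3,2,5,4],
  [0,1,3,2,5,4],
  [2,3,0,1,5,4],
  [3,2,0,1,5,4],
  [3,2,1,0,5,4],
  [2,3,1,0,5,4],
  [2,3,0,1,4,5],
  [3,2,0,1,4,5],
  [3,2,1,0,4,5],
  [2,3,1,0,4,5]]
/-- Images of the normaliser of `⟨p, z, a⟩`. -/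
def INU : List (List (Fin 6)) := [[0,1,2,3,4,5],
  [1,0,2,3,4,5],
  [1,0,3,2,4,5],
  [0,1,3,2,4,5],
  [0,1,2,3,5,4],
  [1,0,2,3,5,4],
  [1,0,3,2,5,4],
  [0,1,3,2,5,4],
  [2,3,0,1,5,4],
  [3,2,0,1,5,4],
  [3,2,1,0,5,4],
  [2,3,1,0,5,4],
  [2,3,0,1,4,5],
  [3,2,0,1,4,5],
  [3,2,1,0,4,5],
  [2,3,1,0,4,5],
  [2,3,4,5,0,1],
  [3,2,4,5,0,1],
  [3,2,5,4,0,1],
  [2,3,5,4,0,1],
  [2,3,4,5,1,0],
  [3,2,4,5,1,0],
  [3,2,5,4,1,0],
  [2,3,5,4,1,0],
  [4,5,2,3,1,0],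
  [5,4,2,3,1,0],
  [5,4,3,2,1,0],
  [4,5,3,2,1,0],
  [4,5,2,3,0,1],
  [5,4,2,3,0,1],
  [5,4,3,2,0,1],
  [4,5,3,2,0,1],
  [4,5,0,1,2,3],
  [5,4,0,1,2,3],
  [5,4,1,0,2,3],
  [4,5,1,0,2,3],
  [4,5,0,1,3,2],
  [5,4,0,1,3,2],
  [5,4,1,0,3,2],
  [4,5,1,0,3,2],
  [0,1,4,5,3,2],
  [1,0,4,5,3,2],
  [1,0,5,4,3,2],
  [0,1,5,4,3,2],
  [0,1,4,5,2,3],
  [1,0,4,5,2,3],
  [1,0,5,4,2,3],
  [0,1,5,4,2,3]]
/-- Images of the normaliser of `⟨q, z, b⟩`. -/
def INV : List (List (Fin 6)) := [[0,1,2,3,4,5],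
  [2,3,0,1,5,4],
  [1,0,3,2,4,5],
  [3,2,1,0,5,4],
  [1,0,3,2,5,4],
  [3,2,1,0,4,5],
  [0,1,2,3,5,4],
  [2,3,0,1,4,5],
  [1,0,2,3,4,5],
  [2,3,1,0,5,4],
  [0,1,3,2,4,5],
  [3,2,0,1,5,4],
  [0,1,3,2,5,4],
  [3,2,0,1,4,5],
  [1,0,2,3,5,4],
  [2,3,1,0,4,5],
  [0,2,3,1,4,5],
  [3,1,0,2,5,4],
  [2,0,1,3,4,5],
  [1,3,2,0,5,4],
  [2,0,1,3,5,4],
  [1,3,2,0,4,5],
  [0,2,3,1,5,4],
  [3,1,0,2,4,5],
  [2,0,3,1,4,5],
  [3,1,2,0,5,4],
  [0,2,1,3,4,5],
  [1,3,0,2,5,4],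
  [0,2,1,3,5,4],
  [1,3,0,2,4,5],
  [2,0,3,1,5,4],
  [3,1,2,0,4,5],
  [0,3,1,2,4,5],
  [1,2,0,3,5,4],
  [3,0,2,1,4,5],
  [2,1,3,0,5,4],
  [3,0,2,1,5,4],
  [2,1,3,0,4,5],
  [0,3,1,2,5,4],
  [1,2,0,3,4,5],
  [3,0,1,2,4,5],
  [1,2,3,0,5,4],
  [0,3,2,1,4,5],
  [2,1,0,3,5,4],
  [0,3,2,1,5,4],
  [2,1,0,3,4,5],
  [3,0,1,2,5,4],
  [1,2,3,0,4,5]]

set_option maxRecDepth 100000
set_option synthInstance.maxSize 4000

theorem basicL : p * p = 1 ∧ a * a = 1 ∧ z * z = 1 ∧ p * a = a * p ∧ q * a = a * q ∧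
    p * z = z * p ∧ z * a = a * z ∧ a * z = b ∧ q * p * q = p * z ∧
    σ * p = p * z * σ ∧ σ * (p * z) = a * σ ∧ σ * a = p * σ := by decide +kernel

theorem basicR : q * q = 1 ∧ b * b = 1 ∧ z * z = 1 ∧ q * b = b * q ∧ p * b = b * p ∧
    q * z = z * q ∧ z * b = b * z ∧ b * z = a ∧ p * q * p = q * z ∧
    τ * q = q * z * τ ∧ τ * (q * z) = b * τ ∧ τ * b = q * τ := by decide +kernel

theorem nodupL : (mList p q z a).Nodup := by decide +kernel
theorem nodupR : (mList q p z b).Nodup := by decide +kernel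
theorem subL : mList p q z a ⊆ mList q p z b := by decide +kernel
theorem subR : mList q p z b ⊆ mList p q z a := by decide +kernel
theorem IU_eq : (uList p z a).map imgs = IU := by decide +kernel
theorem IV_eq : (uList q z b).map imgs = IV := by decide +kernel
theorem IM_eq : (mList p q z a).map imgs = IM := by decide +kernel
theorem INU_eq : (nList p q z a σ).map imgs = INU := by decide +kernel
theorem INV_eq : (nList q p z b τ).map imgs = INV := by decide +kernel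
theorem imgs_a : imgs a = [0,1,2,3,5,4] := by decide +kernel
theorem imgs_p : imgs p = [1,0,2,3,4,5] := by decide +kernel
theorem imgs_z : imgs z = [1,0,3,2,4,5] := by decide +kernel
theorem imgs_q : imgs q = [2,3,0,1,5,4] := by decide +kernel

theorem chkInv : ∀ A ∈ IM, cmp A A = [0,1,2,3,4,5] → A ∈ IU ∨ A ∈ IV := by
  decide +kernel
theorem chkMixed : ∀ A ∈ IU, ∀ B ∈ IV, cmp A B = cmp B A → A ∈ IV ∨ B ∈ IU := by decide +kernel
theorem chkClosedU : ∀ A ∈ IU, ∀ B ∈ IU, cmp A B ∈ IU := by decide +kernel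
theorem chkClosedV : ∀ A ∈ IV, ∀ B ∈ IV, cmp A B ∈ IV := by decide +kernel
theorem chkClosedM : ∀ A ∈ IM, ∀ B ∈ IM, cmp A B ∈ IM := by decide +kernel

theorem mem_U {m : Perm (Fin 6)} : imgs m ∈ IU ↔ m ∈ uList p z a :=
  ⟨fun h => mem_of_imgs (IU_eq ▸ h), fun h => IU_eq ▸ imgs_mem_map h⟩
theorem mem_V {m : Perm (Fin 6)} : imgs m ∈ IV ↔ m ∈ uList q z b :=
  ⟨fun h => mem_of_imgs (IV_eq ▸ h), fun h => IV_eq ▸ imgs_mem_map h⟩
theorem mem_M {m : Perm (Fin 6)} : imgs m ∈ IM ↔ m ∈ mList p q z a :=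
  ⟨fun h => mem_of_imgs (IM_eq ▸ h), fun h => IM_eq ▸ imgs_mem_map h⟩

theorem imgs_one : imgs (1 : Perm (Fin 6)) = [0,1,2,3,4,5] := by decide +kernel

theorem invL : ∀ m ∈ mList p q z a, m * m = 1 → m ∈ uList p z a ∨ m ∈ uList q z b :=
  fun m hm h => (chkInv _ (mem_M.mpr hm) (by rw [← imgs_mul, h, imgs_one])).imp mem_U.mp mem_V.mp
theorem invR : ∀ m ∈ mList q p z b, m * m = 1 → m ∈ uList q z b ∨ m ∈ uList p z a :=
  fun m hm h => (invL m (subR hm) h).symm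
theorem mixedL : ∀ u ∈ uList p z a, ∀ v ∈ uList q z b, u * v = v * u →
    u ∈ uList q z b ∨ v ∈ uList p z a :=
  fun u hu v hv h => (chkMixed _ (mem_U.mpr hu) _ (mem_V.mpr hv)
    (by rw [← imgs_mul, ← imgs_mul, h])).imp mem_V.mp mem_U.mp
theorem closedU : ∀ u ∈ uList p z a, ∀ v ∈ uList p z a, u * v ∈ uList p z a :=
  fun u hu v hv => mem_U.mp (imgs_mul u v ▸ chkClosedU _ (mem_U.mpr hu) _ (mem_U.mpr hv))
theorem closedV : ∀ u ∈ uList q z b, ∀ v ∈ uList q z b, u * v ∈ uList q z b :=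
  fun u hu v hv => mem_V.mp (imgs_mul u v ▸ chkClosedV _ (mem_V.mpr hu) _ (mem_V.mpr hv))
theorem closedM : ∀ u ∈ mList p q z a, ∀ v ∈ mList p q z a, u * v ∈ mList p q z a :=
  fun u hu v hv => mem_M.mp (imgs_mul u v ▸ chkClosedM _ (mem_M.mpr hu) _ (mem_M.mpr hv))

set_option maxHeartbeats 0 in
theorem chkNormU : ∀ x4 x5, imgs (swap x4 x5) ∈ IU → ∀ x0 x1, imgs (swap x0 x1) ∈ IU →
    ∀ x2 x3, imgs (swap x0 x1 * swap x2 x3) ∈ IU → [x0, x1, x2, x3, x4, x5].Nodup →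
    [x0, x1, x2, x3, x4, x5] ∈ INU := by decide +kernel

set_option maxHeartbeats 0 in
theorem chkNormV : ∀ x4 x5, imgs (swap x4 x5) ∈ IV → ∀ x0 x1 x2 x3,
    imgs (swap x0 x1 * swap x2 x3) ∈ IV → [x0, x1, x2, x3, x4, x5].Nodup →
    imgs (swap x0 x2 * swap x1 x3 * swap x4 x5) ∈ IV →
    [x0, x1, x2, x3, x4, x5] ∈ INV := by decide +kernel

set_option maxHeartbeats 0 in
theorem chkNormM : ∀ x4 x5, imgs (swap x4 x5) ∈ IM → ∀ x0 x1, imgs (swap x0 x1) ∈ IM →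
    ∀ x2 x3, imgs (swap x0 x1 * swap x2 x3) ∈ IM → [x0, x1, x2, x3, x4, x5].Nodup →
    imgs (swap x0 x2 * swap x1 x3 * swap x4 x5) ∈ IM →
    [x0, x1, x2, x3, x4, x5] ∈ IM := by decide +kernel

set_option maxHeartbeats 0 in
theorem chkCentU : ∀ x4 x5, imgs (swap x4 x5) = [0,1,2,3,5,4] → ∀ x0 x1, imgs (swap x0 x1) = [1,0,2,3,4,5] →
    ∀ x2 x3, imgs (swap x0 x1 * swap x2 x3) = [1,0,3,2,4,5] → [x0, x1, x2, x3, x4, x5].Nodup →
    [x0, x1, x2, x3, x4, x5] ∈ IU := by decide +kernel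

set_option maxHeartbeats 0 in
theorem chkCentV : ∀ x4 x5, imgs (swap x4 x5) = [0,1,2,3,5,4] → ∀ x0 x1 x2 x3,
    imgs (swap x0 x1 * swap x2 x3) = [1,0,3,2,4,5] → [x0, x1, x2, x3, x4, x5].Nodup →
    imgs (swap x0 x2 * swap x1 x3 * swap x4 x5) = [2,3,0,1,5,4] →
    [x0, x1, x2, x3, x4, x5] ∈ IV := by decide +kernel

set_option maxHeartbeats 0 in
theorem chkNotConjU : ∀ x4 x5, imgs (swap x4 x5) ∈ IV → ∀ x0 x1, imgs (swap x0 x1) ∈ IV →
    ¬ [x0, x1, x4, x5].Nodup := by decide +kernel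

set_option maxHeartbeats 0 in
theorem chkNotConjV : ∀ x4 x5, imgs (swap x4 x5) ∈ IU → ∀ x0 x1 x2 x3,
    imgs (swap x0 x1 * swap x2 x3) ∈ IU → [x0, x1, x2, x3, x4, x5].Nodup →
    ¬ imgs (swap x0 x2 * swap x1 x3 * swap x4 x5) ∈ IU := by decide +kernel

theorem nodupNU : (nList p q z a σ).Nodup := List.Nodup.of_map imgs (INU_eq ▸ (by decide +kernel))
theorem nodupNV : (nList q p z b τ).Nodup := List.Nodup.of_map imgs (INV_eq ▸ (by decide +kernel))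

theorem imgs_eq (l : Perm (Fin 6)) :
    imgs l = [l 0, l 1, l 2, l 3, l 4, l 5] := by
  simp [imgs, List.ofFn_succ]

theorem nodup_images (l : Perm (Fin 6)) : [l 0, l 1, l 2, l 3, l 4, l 5].Nodup := by
  rw [← imgs_eq]; exact List.nodup_ofFn.mpr l.injective

theorem conj_a (l : Perm (Fin 6)) : l * a * l⁻¹ = swap (l 4) (l 5) := conj_swap l 4 5
theorem conj_p (l : Perm (Fin 6)) : l * p * l⁻¹ = swap (l 0) (l 1) := conj_swap l 0 1
theorem conj_z (l : Perm (Fin 6)) : l * z * l⁻¹ = swap (l 0) (l 1) * swap (l 2) (l 3) :=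
  conj_two l 0 1 2 3
theorem conj_q (l : Perm (Fin 6)) :
    l * q * l⁻¹ = swap (l 0) (l 2) * swap (l 1) (l 3) * swap (l 4) (l 5) :=
  conj_three l 0 2 1 3 4 5

theorem conj_of_comm {l x : Perm (Fin 6)} (h : l * x = x * l) : l * x * l⁻¹ = x := by
  rw [h, mul_inv_cancel_right]

theorem bz : b * z = a := basicR.2.2.2.2.2.2.2.1

theorem normU (l : Perm (Fin 6)) (hp : l * p * l⁻¹ ∈ uList p z a)
    (hz : l * z * l⁻¹ ∈ uList p z a) (ha : l * a * l⁻¹ ∈ uList p z a) :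
    l ∈ nList p q z a σ := by
  apply mem_of_imgs
  rw [INU_eq, imgs_eq]
  exact chkNormU _ _ (by rw [← conj_a, ← IU_eq]; exact imgs_mem_map ha) _ _ (by rw [← conj_p, ← IU_eq]; exact imgs_mem_map hp) _ _
    (by rw [← conj_z, ← IU_eq]; exact imgs_mem_map hz) (nodup_images l)

theorem normV (l : Perm (Fin 6)) (hq : l * q * l⁻¹ ∈ uList q z b)
    (hz : l * z * l⁻¹ ∈ uList q z b) (hb : l * b * l⁻¹ ∈ uList q z b) :
    l ∈ nList q p z b τ := by
  have ha := conj_mul_mem closedV hb hz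
  rw [bz] at ha
  apply mem_of_imgs
  rw [INV_eq, imgs_eq]
  exact chkNormV _ _ (by rw [← conj_a, ← IV_eq]; exact imgs_mem_map ha) _ _ _ _
    (by rw [← conj_z, ← IV_eq]; exact imgs_mem_map hz) (nodup_images l) (by rw [← conj_q, ← IV_eq]; exact imgs_mem_map hq)

theorem normM (l : Perm (Fin 6)) (hp : l * p * l⁻¹ ∈ mList p q z a)
    (hq : l * q * l⁻¹ ∈ mList p q z a) (ha : l * a * l⁻¹ ∈ mList p q z a) :
    l ∈ mList p q z a := by
  have hz := conj_mul_mem closedM (conj_mul_mem closedM (conj_mul_mem closedM hp hq) hp) hq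
  rw [show p * q * p * q = z by rw [basicR.2.2.2.2.2.2.2.2.1, mul_assoc, ← basicR.2.2.2.2.2.1,
    ← mul_assoc, basicR.1, one_mul]] at hz
  apply mem_of_imgs
  rw [IM_eq, imgs_eq]
  exact chkNormM _ _ (by rw [← conj_a, ← IM_eq]; exact imgs_mem_map ha) _ _ (by rw [← conj_p, ← IM_eq]; exact imgs_mem_map hp) _ _
    (by rw [← conj_z, ← IM_eq]; exact imgs_mem_map hz) (nodup_images l) (by rw [← conj_q, ← IM_eq]; exact imgs_mem_map hq)

theorem normM' (l : Perm (Fin 6)) (hq : l * q * l⁻¹ ∈ mList q p z b)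
    (hp : l * p * l⁻¹ ∈ mList q p z b) (hb : l * b * l⁻¹ ∈ mList q p z b) :
    l ∈ mList q p z b := by
  have hp' := subR hp
  have hq' := subR hq
  have hz := conj_mul_mem closedM (conj_mul_mem closedM (conj_mul_mem closedM hp' hq') hp') hq'
  rw [show p * q * p * q = z by rw [basicR.2.2.2.2.2.2.2.2.1, mul_assoc, ← basicR.2.2.2.2.2.1,
    ← mul_assoc, basicR.1, one_mul]] at hz
  have ha := conj_mul_mem closedM (subR hb) hz
  rw [bz] at ha
  exact subL (normM l hp' hq' ha)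

theorem centU (l : Perm (Fin 6)) (hp : l * p = p * l) (hz : l * z = z * l)
    (ha : l * a = a * l) : l ∈ uList p z a := by
  apply mem_of_imgs
  rw [IU_eq, imgs_eq]
  exact chkCentU _ _ (by rw [← conj_a, conj_of_comm ha, imgs_a]) _ _
    (by rw [← conj_p, conj_of_comm hp, imgs_p]) _ _
    (by rw [← conj_z, conj_of_comm hz, imgs_z]) (nodup_images l)

theorem centV (l : Perm (Fin 6)) (hq : l * q = q * l) (hz : l * z = z * l)
    (hb : l * b = b * l) : l ∈ uList q z b := by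
  have ha : l * a = a * l := by rw [← bz, ← mul_assoc, hb, mul_assoc, hz, mul_assoc]
  apply mem_of_imgs
  rw [IV_eq, imgs_eq]
  exact chkCentV _ _ (by rw [← conj_a, conj_of_comm ha, imgs_a]) _ _ _ _
    (by rw [← conj_z, conj_of_comm hz, imgs_z]) (nodup_images l)
    (by rw [← conj_q, conj_of_comm hq, imgs_q])

theorem notConjU (l : Perm (Fin 6)) : ¬ (l * p * l⁻¹ ∈ uList q z b ∧
    l * z * l⁻¹ ∈ uList q z b ∧ l * a * l⁻¹ ∈ uList q z b) := by
  rintro ⟨hp, -, ha⟩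
  refine chkNotConjU _ _ (by rw [← conj_a, ← IV_eq]; exact imgs_mem_map ha) _ _
    (by rw [← conj_p, ← IV_eq]; exact imgs_mem_map hp) ?_
  have h := nodup_images l
  exact (List.Nodup.sublist (by simp) h)

theorem notConjV (l : Perm (Fin 6)) : ¬ (l * q * l⁻¹ ∈ uList p z a ∧
    l * z * l⁻¹ ∈ uList p z a ∧ l * b * l⁻¹ ∈ uList p z a) := by
  rintro ⟨hq, hz, hb⟩
  have ha := conj_mul_mem closedU hb hz
  rw [bz] at ha
  exact chkNotConjV _ _ (by rw [← conj_a, ← IU_eq]; exact imgs_mem_map ha) _ _ _ _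
    (by rw [← conj_z, ← IU_eq]; exact imgs_mem_map hz) (nodup_images l) (by rw [← conj_q, ← IU_eq]; exact imgs_mem_map hq)

theorem qa_conj : IsConj z (q * a) :=
  isConj_iff.mpr ⟨swap 1 2, by decide +kernel⟩

theorem pb_conj : IsConj z (p * b) :=
  isConj_iff.mpr ⟨σ, by decide +kernel⟩

/-- The facts in `S6`. -/
theorem facts : LFacts p q a b z σ τ where
  left :=
    { p2 := basicL.1, a2 := basicL.2.1, z2 := basicL.2.2.1, pa := basicL.2.2.2.1,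
      qa := basicL.2.2.2.2.1, pz := basicL.2.2.2.2.2.1, za := basicL.2.2.2.2.2.2.1,
      az := basicL.2.2.2.2.2.2.2.1, qpq := basicL.2.2.2.2.2.2.2.2.1, nodup := nodupL, nodupN := nodupNU,
      subM := subL, invM := invL, mixed := mixedL, cent := centU, norm := normU,
      notConj := notConjU, sp := basicL.2.2.2.2.2.2.2.2.2.1,
      spz := basicL.2.2.2.2.2.2.2.2.2.2.1, sa := basicL.2.2.2.2.2.2.2.2.2.2.2,
      qb := qa_conj }
  right :=
    { p2 := basicR.1, a2 := basicR.2.1, z2 := basicR.2.2.1, pa := basicR.2.2.2.1,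
      qa := basicR.2.2.2.2.1, pz := basicR.2.2.2.2.2.1, za := basicR.2.2.2.2.2.2.1,
      az := basicR.2.2.2.2.2.2.2.1, qpq := basicR.2.2.2.2.2.2.2.2.1, nodup := nodupR, nodupN := nodupNV,
      subM := subR, invM := invR,
      mixed := fun u hu v hv h => (mixedL v hv u hu h.symm).symm,
      cent := centV, norm := normV,
      notConj := notConjV, sp := basicR.2.2.2.2.2.2.2.2.2.1,
      spz := basicR.2.2.2.2.2.2.2.2.2.2.1, sa := basicR.2.2.2.2.2.2.2.2.2.2.2,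
      qb := pb_conj }
  normM := normM
  normM' := normM'
  card := ⟨45, by decide, by
    rw [Nat.card_eq_fintype_card, Fintype.card_perm, Fintype.card_fin]; rfl⟩

theorem type_of_card (l : Perm (Fin 6)) (hl : l * l = 1) (k : ℕ) (hk : l.support.card = 2 * k) :
    l.cycleType = Multiset.replicate k 2 := by
  obtain ⟨j, -, hj⟩ := cycleType_involution hl
  have := Equiv.Perm.sum_cycleType l
  rw [hj, Multiset.sum_replicate, smul_eq_mul] at this
  rw [hj, show j = k by omega]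

theorem type_a : (a : Perm (Fin 6)).cycleType = Multiset.replicate 1 2 := by
  have h : a.support.card = 2 := by decide +kernel
  exact type_of_card _ basicL.2.1 1 h

theorem type_b : (b : Perm (Fin 6)).cycleType = Multiset.replicate 3 2 :=
  type_of_card _ basicR.2.1 3 (by decide +kernel)

theorem type_z : (z : Perm (Fin 6)).cycleType = Multiset.replicate 2 2 :=
  type_of_card _ basicL.2.2.1 2 (by decide +kernel)

theorem card_class (l : Perm (Fin 6)) (k : ℕ) (h : l.cycleType = Multiset.replicate k 2)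
    (hk : 2 * k ≤ 6) : Nat.card {m : Perm (Fin 6) // IsConj l m} =
      (6 : ℕ).factorial / ((6 - 2 * k).factorial * 2 ^ k * k.factorial) := by
  have e : Nat.card {m : Perm (Fin 6) // IsConj l m} = Nat.card {m | IsConj l m} := rfl
  rw [e, Equiv.Perm.card_isConj_eq, h]
  rcases Nat.eq_zero_or_pos k with rfl | hk0
  · simp
  · simp [Multiset.toFinset_replicate, hk0.ne', Multiset.count_replicate, mul_comm]

/-- The classes of involutions of `S6`. -/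
theorem classes : LClasses a b z where
  invol l hl := by
    obtain ⟨k, hk, hl'⟩ := cycleType_involution hl
    simp only [Equiv.Perm.isConj_iff_cycleType_eq, type_a, type_b, type_z, hl']
    have : k = 0 ∨ k = 1 ∨ k = 3 ∨ k = 2 := by omega
    rcases this with rfl | rfl | rfl | rfl
    · left; exact Equiv.Perm.cycleType_eq_zero.mp (by simpa using hl')
    · right; left; rfl
    · right; right; left; rfl
    · right; right; right; rfl
  ab := by rw [Equiv.Perm.isConj_iff_cycleType_eq, type_a, type_b]; decide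
  az := by rw [Equiv.Perm.isConj_iff_cycleType_eq, type_a, type_z]; decide
  bz := by rw [Equiv.Perm.isConj_iff_cycleType_eq, type_b, type_z]; decide
  oddA := by rw [card_class a 1 type_a (by omega)]; decide
  oddB := by rw [card_class b 3 type_b (by omega)]; decide
  oddZ := by rw [card_class z 2 type_z (by omega)]; decide
  eps := ⟨Equiv.Perm.sign, by decide +kernel, by decide +kernel, by decide +kernel⟩

end Cfsg.Agent.InvolTimesSym.Six
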