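import Cfsg.Agent.Lib.InvolTimesSym.Centre

/-!
# Fusion patterns on the elementary abelian subgroups
-/

set_option autoImplicit false

namespace Cfsg.Agent.InvolTimesSym

open Subgroup

variable {G : Type*} [Group G] [Finite G] {t p q a b z σ τ : G}

omit [Finite G] in
theorem isConj_conj (t g x : G) : IsConj t (g * x * g⁻¹) ↔ IsConj t x :=
  ⟨fun h => h.trans (isConj_iff.mpr ⟨g, rfl⟩).symm, fun h => h.trans (isConj_iff.mpr ⟨g, rfl⟩)⟩

/-- Representative of the class of an index. -/
def rep (n : Fin 8) : Fin 8 := ![0, 4, 2, 4, 4, 2, 6, 2] n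

namespace Base

variable (B : Base t p q a b z σ τ)
include B

omit [Finite G] in
theorem conj_σ_uAt (n : Fin 8) : σ * uAt p z a n * σ⁻¹ = uAt p z a (lin 3 7 1 n) := by
  obtain ⟨-, h1, -, h3, h4, -, -, h7⟩ := B.uAt_vals
  have hp : σ * p * σ⁻¹ = p * z := by rw [B.left.sp, mul_inv_cancel_right]
  have ha : σ * a * σ⁻¹ = p := by rw [B.left.sa, mul_inv_cancel_right]
  have hpz : σ * (p * z) * σ⁻¹ = a := by rw [B.left.spz, mul_inv_cancel_right]
  refine B.left.conj_uAt (by rw [h3, hp]) ?_ (by rw [h1, ha]) n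
  have hz : σ * z * σ⁻¹ = (σ * p * σ⁻¹)⁻¹ * (σ * (p * z) * σ⁻¹) := by group
  have c : Commute p z := B.left.pz
  rw [h7, hz, hp, hpz, mul_inv_rev, inv_of_sq B.left.p2, inv_of_sq B.left.z2, c.eq]

omit [Finite G] in
theorem zero_one {s : G} : s * uAt p z a 0 = s := by rw [B.uAt_vals.1, mul_one]

/-- Conjugacy of the elements of `E` to `t` only depends on the type. -/
theorem conj_class {s : G} (hs : σ * s = s * σ) (n : Fin 8) :
    IsConj t (s * uAt p z a n) ↔ IsConj t (s * uAt p z a (rep n)) := by
  have step : ∀ m, IsConj t (s * uAt p z a (lin 3 7 1 m)) ↔ IsConj t (s * uAt p z a m) := by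
    intro m
    rw [← B.conj_σ_uAt, ← isConj_conj t σ (s * uAt p z a m)]
    have e : σ * (s * uAt p z a m) * σ⁻¹ = s * (σ * uAt p z a m * σ⁻¹) := by
      rw [← mul_assoc σ s, hs]; group
    rw [e]
  have key := (by decide : ∀ m : Fin 8, m = rep m ∨ m = lin 3 7 1 (rep m) ∨
    m = lin 3 7 1 (lin 3 7 1 (rep m))) n
  rcases key with h | h | h
  · rw [← h]
  · conv_lhs => rw [h]
    rw [step]
  · conv_lhs => rw [h]
    rw [step, step]

theorem conj_class_t (n : Fin 8) :
    IsConj t (t * uAt p z a n) ↔ IsConj t (t * uAt p z a (rep n)) :=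
  B.conj_class B.left.tσ.symm n

theorem conj_class_one (n : Fin 8) :
    IsConj t (uAt p z a n) ↔ IsConj t (uAt p z a (rep n)) := by
  simpa using B.conj_class (Commute.one_right σ).eq n

omit [Finite G] in
theorem not_conj_one : ¬ IsConj t 1 := fun h => B.t1 (isConj_one_right.mp h.symm)

theorem mem_E_iff {x : G} :
    x ∈ eG t p z a ↔ ∃ n, uAt p z a n = x ∨ t * uAt p z a n = x := by
  rw [B.left.mem_eG B.t2, mem_tList, B.left.mem_uList_iff, B.left.mem_uList_iff]
  constructor
  · rintro (⟨n, h⟩ | ⟨n, h⟩)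
    · exact ⟨n, Or.inl h⟩
    · exact ⟨n, Or.inr (by rw [h, mul_inv_cancel_left])⟩
  · rintro ⟨n, h | h⟩
    · exact Or.inl ⟨n, h⟩
    · exact Or.inr ⟨n, by rw [← h, inv_mul_cancel_left]⟩

omit [Finite G] in
theorem a_central_mem : a ∈ tG t p q z a ∧ b ∈ tG t p q z a := by
  have ha : a ∈ tG t p q z a := mG_le_tG (uG_le_mG Side.a_mem)
  exact ⟨ha, by rw [B.b_eq]; exact mul_mem ha (mG_le_tG (uG_le_mG Side.z_mem))⟩

omit [Finite G] in
theorem mem_four {x : G} (hx : x ∈ tList t [1, z, a, b]) :
    x = 1 ∨ x = z ∨ x = a ∨ x = b ∨ x = t ∨ x = t * z ∨ x = t * a ∨ x = t * b := by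
  rcases mem_tList.mp hx with h | h
  · simp only [List.mem_cons, List.not_mem_nil, or_false] at h
    tauto
  · simp only [List.mem_cons, List.not_mem_nil, or_false, inv_mul_eq_iff_eq_mul, mul_one] at h
    rcases h with h | h | h | h
    · exact Or.inr (Or.inr (Or.inr (Or.inr (Or.inl h))))
    · tauto
    · tauto
    · tauto

omit [Finite G] in
theorem p_not_central : p * q ≠ q * p := by
  intro h
  have h1 : q * p * q = p := by rw [← h, mul_assoc, B.right.p2, mul_one]
  rw [B.left.qpq] at h1
  exact B.z_ne_one (mul_eq_left.mp h1)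

omit [Finite G] in
theorem t_ne_ta : t ≠ t * a := by
  intro h
  have h1 : uAt p z a 4 = uAt p z a 0 := by
    rw [B.uAt_vals.2.2.2.2.1, B.uAt_vals.1]; exact mul_eq_left.mp h.symm
  exact absurd (B.left.uAt_inj h1) (by decide)

theorem t_ne_b : t ≠ b := fun h =>
  B.t_not_mem_mG (by rw [h, B.b_eq]; exact uG_le_mG (mul_mem Side.a_mem Side.z_mem))

theorem cmap_normC {g : G} (hg : g ∈ tG t p q z a) : cmap g (eG t p z a) = eG t p z a := by
  have h : tG t p q z a ≤ normalizer (eG t p z a : Set G) := by
    intro x hx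
    refine ((B.mem_normC).mpr ?_).1
    rw [B.mem_tG, mem_tList] at hx
    rw [mem_tList]
    refine hx.imp (fun h => ?_) (fun h => ?_) <;>
      exact List.mem_append_left _ (List.mem_append_left _ h)
  exact mem_normalizer_iff_cmap.mp (h hg)

theorem eG_swap {g : G} (hg : cmap g (tG t p q z a) = tG t p q z a) :
    cmap g (eG t p z a) = eG t p z a ∨ cmap g (eG t p z a) = eG t q z b :=
  B.elem_le_T (le_of_le_of_eq (cmap_mono eG_le_tG) hg) (by rw [card_cmap, B.card_eG]) fun x hx => by
    have := B.eG_sq (mem_cmap.mp hx)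
    have e : x * x = g * ((g⁻¹ * x * g) * (g⁻¹ * x * g)) * g⁻¹ := by group
    rw [e, this]; simp

theorem e2_ne : eG t q z b ≠ eG t p z a := fun h => B.not_conj_eG (c := 1) (by simp)
  (by rw [cmap_one, h])

/-- The pattern `{t, ta, a}` on the centre of `T` is impossible. -/
theorem no_pattern_a (hta : IsConj t (t * a)) (_ha : IsConj t a) (htb : ¬ IsConj t (t * b))
    (hb : ¬ IsConj t b) (htz : ¬ IsConj t (t * z)) : False := by
  have hz := B.not_conj_z
  obtain ⟨g, hg, hT⟩ := B.exists_normT hta (central_mul B.central_t B.central_a)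
  obtain ⟨v0, v1, v2, -, v4, v5, v6, -⟩ := B.uAt_vals
  rcases B.eG_swap hT with hE | hE
  · have htp : IsConj t (t * p) := by
      have := B.conj_class_t 1
      rw [v1, show rep 1 = 4 from rfl, v4] at this
      exact this.mpr hta
    set y := g⁻¹ * (t * p) * g
    have hy : y ∈ eG t p z a := by
      rw [← mem_cmap, hE]; exact mul_mem t_mem_eG (mem_sup_left Side.p_mem)
    have hyK : IsConj t y := by
      rw [← isConj_conj t g]; simpa [y, mul_assoc] using htp
    have hty : y ≠ t := by
      intro h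
      have h1 : t * p = t * a := by
        calc t * p = g * y * g⁻¹ := by simp [y, mul_assoc]
          _ = t * a := by rw [h, hg]
      have h2 : uAt p z a 1 = uAt p z a 4 := by rw [v1, v4]; exact mul_left_cancel h1
      exact absurd (B.left.uAt_inj h2) (by decide)
    have htyK : IsConj t (t * y) := by
      obtain ⟨n, h | h⟩ := B.mem_E_iff.mp hy
      · rw [← h] at hyK hty ⊢
        rw [B.conj_class_one] at hyK
        rw [B.conj_class_t]
        have hr := (by decide : ∀ m : Fin 8, rep m = 0 ∨ rep m = 2 ∨ rep m = 4 ∨ rep m = 6) n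
        rcases hr with hr | hr | hr | hr <;> rw [hr] at hyK ⊢
        · rw [v0] at hyK; exact absurd hyK B.not_conj_one
        · rw [v2] at hyK; exact absurd hyK hz
        · rw [v4]; exact hta
        · rw [v6] at hyK; exact absurd hyK hb
      · rw [← h] at hyK hty
        rw [← h, ← mul_assoc, B.t2, one_mul, B.conj_class_one]
        rw [B.conj_class_t] at hyK
        have hr := (by decide : ∀ m : Fin 8, m = 0 ∨ rep m = 2 ∨ rep m = 4 ∨ rep m = 6) n
        rcases hr with hr | hr | hr | hr
        · exact absurd (by rw [hr, v0, mul_one]) hty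
        · rw [hr, v2] at hyK; exact absurd hyK htz
        · rw [hr, v4]; exact _ha
        · rw [hr, v6] at hyK; exact absurd hyK htb
    rw [← isConj_conj t g] at htyK
    have e : g * (t * y) * g⁻¹ = uAt p z a 5 := by
      have hcomm : t * a = a * t := B.left.ta
      calc g * (t * y) * g⁻¹ = (g * t * g⁻¹) * (t * p) := by simp only [y]; group
        _ = a * (t * t) * p := by rw [hg, hcomm]; group
        _ = p * a := by rw [B.t2, mul_one, B.left.pa]
        _ = _ := v5.symm
    rw [e, B.conj_class_one, show rep 5 = 2 from rfl, v2] at htyK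
    exact hz htyK
  · -- `g p g⁻¹` lies in `K ∩ E'`, so it is central in `T`
    have hp : IsConj t p := by
      have := B.conj_class_one 1
      rw [v1, show rep 1 = 4 from rfl, v4] at this
      exact this.mpr _ha
    have hx : g * p * g⁻¹ ∈ eG t q z b := by
      rw [← hE]; exact conj_mem_cmap (mem_sup_left Side.p_mem)
    have hxK : IsConj t (g * p * g⁻¹) := (isConj_conj t g p).mpr hp
    obtain ⟨w0, -, w2, -, w4, -, w6, -⟩ := B.symm.uAt_vals
    have hcen : ∀ x ∈ tG t p q z a, g * p * g⁻¹ * x = x * (g * p * g⁻¹) := by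
      obtain ⟨n, h | h⟩ := B.symm.mem_E_iff.mp hx <;> rw [← h] at hxK ⊢
      · rw [B.symm.conj_class_one] at hxK
        have hr := (by decide : ∀ m : Fin 8, rep m = 0 ∨ rep m = 2 ∨ rep m = 4 ∨ m = 6) n
        rcases hr with hr | hr | hr | hr
        · rw [hr, w0] at hxK; exact absurd hxK B.not_conj_one
        · rw [hr, w2] at hxK; exact absurd hxK hz
        · rw [hr, w4] at hxK; exact absurd hxK hb
        · rw [hr, w6]; exact B.central_a
      · rw [B.symm.conj_class_t] at hxK
        have hr := (by decide : ∀ m : Fin 8, m = 0 ∨ rep m = 2 ∨ rep m = 4 ∨ m = 6) n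
        rcases hr with hr | hr | hr | hr
        · rw [hr, w0, mul_one]; exact B.central_t
        · rw [hr, w2] at hxK; exact absurd hxK htz
        · rw [hr, w4] at hxK; exact absurd hxK htb
        · rw [hr, w6]; exact central_mul B.central_t B.central_a
    have hqT : g * q * g⁻¹ ∈ tG t p q z a := by
      rw [← hT]; exact conj_mem_cmap (mG_le_tG (mem_sup_right (mem_zpowers q)))
    have h := congrArg (fun w => g⁻¹ * w * g) (hcen _ hqT)
    exact B.p_not_central (by simpa [mul_assoc] using h)

/-- The pattern `{t, ta, b}` on the centre of `T` is impossible. -/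
theorem no_pattern_b (hta : IsConj t (t * a)) (hb : IsConj t b) (ha : ¬ IsConj t a)
    (htb : ¬ IsConj t (t * b)) (htz : ¬ IsConj t (t * z)) : False := by
  have hz := B.not_conj_z
  obtain ⟨g, hg, hT⟩ := B.exists_normT hb B.central_b
  have hO : ∀ u ∈ tG t p q z a, (∀ x ∈ tG t p q z a, u * x = x * u) → IsConj t u →
      g * u * g⁻¹ = t ∨ g * u * g⁻¹ = t * a ∨ g * u * g⁻¹ = b := by
    intro u hu hc hK
    have hK' := (isConj_conj t g u).mpr hK
    rcases mem_four B (B.conj_centre hT hu hc) with h | h | h | h | h | h | h | h <;>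
      rw [h] at hK' ⊢
    · exact absurd hK' B.not_conj_one
    · exact absurd hK' hz
    · exact absurd hK' ha
    · exact Or.inr (Or.inr rfl)
    · exact Or.inl rfl
    · exact absurd hK' htz
    · exact Or.inr (Or.inl rfl)
    · exact absurd hK' htb
  have hinj : ∀ u v : G, g * u * g⁻¹ = g * v * g⁻¹ → u = v := fun u v h =>
    mul_left_cancel (mul_right_cancel h)
  have hta_mem : t * a ∈ tG t p q z a :=
    mul_mem (mem_sup_right (mem_zpowers t)) B.a_central_mem.1
  have htac : ∀ x ∈ tG t p q z a, t * a * x = x * (t * a) := central_mul B.central_t B.central_a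
  have hne_tab : t * a ≠ b := by
    intro h
    exact B.t_not_mem_mG (by
      rw [eq_mul_inv_of_mul_eq h, B.b_eq]
      exact mul_mem (uG_le_mG (mul_mem Side.a_mem Side.z_mem)) (inv_mem (uG_le_mG Side.a_mem)))
  have hfix : g * (t * a) * g⁻¹ ≠ t * a := by
    intro h
    have hgT := B.normT_fix hT hta htac h
    exact B.t_ne_b (by rw [← hg, ← B.central_t g hgT, mul_inv_cancel_right])
  have hgta : g * (t * a) * g⁻¹ = t := by
    rcases hO _ hta_mem htac hta with h | h | h
    · exact h
    · exact absurd h hfix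
    · exact absurd (hinj _ _ (h.trans hg.symm)).symm B.t_ne_ta
  have hgb : g * b * g⁻¹ = t * a := by
    rcases hO _ B.a_central_mem.2 B.central_b hb with h | h | h
    · exact absurd (hinj _ _ (h.trans hgta.symm)).symm hne_tab
    · exact h
    · exact absurd (hinj _ _ (h.trans hg.symm)).symm B.t_ne_b
  have hE : cmap g (eG t p z a) = eG t p z a := by
    rcases B.eG_swap hT with h | h
    · exact h
    · exfalso
      have h3 : g * g * g * t = t * (g * g * g) := comm_of_conj (by
        calc g * g * g * t * (g * g * g)⁻¹ = g * (g * (g * t * g⁻¹) * g⁻¹) * g⁻¹ := by group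
          _ = t := by rw [hg, hgb, hgta])
      have hmem := B.normC_T h3 (by rw [cmap_mul, cmap_mul, hT, hT, hT])
      have hc3 := B.cmap_normC hmem
      have h2 : cmap g (eG t q z b) = eG t p z a := by
        have hq : cmap g (tG t q p z b) = tG t q p z b := by rw [B.tG_symm, hT]
        rcases B.symm.eG_swap hq with h' | h'
        · exfalso
          have h'' := congrArg (cmap g⁻¹) (h'.trans h.symm)
          rw [← cmap_mul, ← cmap_mul, inv_mul_cancel, cmap_one, cmap_one] at h''
          exact B.e2_ne h''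
        · exact h'
      rw [cmap_mul, cmap_mul, h, h2, h] at hc3
      exact B.e2_ne hc3
  set N := normalizer (eG t p z a : Set G) ⊓ centralizer ({t} : Set G)
  set Nb := normalizer (eG t p z a : Set G) ⊓ centralizer ({b} : Set G)
  obtain ⟨v0, v1, -, -, v4, -, v6, -⟩ := B.uAt_vals
  have hσb : σ * b = b * σ := comm_of_conj (by
    have := B.conj_σ_uAt 6
    rwa [show lin 3 7 1 6 = 6 from by decide, v6] at this)
  have hgen : ∀ x ∈ N, x ∈ centralizer ({b} : Set G) := by
    have hT' : tG t p q z a ≤ centralizer ({b} : Set G) := fun x hx =>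
      mem_centralizer_singleton_iff.mpr (B.central_b x hx).symm
    have hσ : σ ∈ centralizer ({b} : Set G) := mem_centralizer_singleton_iff.mpr hσb
    have hm : ∀ y ∈ mList p q z a, y ∈ centralizer ({b} : Set G) := fun y hy =>
      hT' (mG_le_tG (B.mem_mG.mpr hy))
    have hn : ∀ x ∈ nList p q z a σ, x ∈ centralizer ({b} : Set G) := by
      intro x hx
      simp only [nList, List.mem_append, List.mem_map] at hx
      rcases hx with (hx | ⟨y, hy, rfl⟩) | ⟨y, hy, rfl⟩
      · exact hm x hx
      · exact mul_mem hσ (hm y hy)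
      · exact mul_mem (mul_mem hσ hσ) (hm y hy)
    intro x hx
    rcases mem_tList.mp (B.mem_normC.mp hx) with h | h
    · exact hn x h
    · rw [← mul_inv_cancel_left t x]
      exact mul_mem (hT' (mem_sup_right (mem_zpowers t))) (hn _ h)
  have hle : N ≤ Nb := fun x hx => ⟨hx.1, hgen x hx⟩
  have hbE : eG t p z a ≤ centralizer ({b} : Set G) := fun x hx =>
    mem_centralizer_singleton_iff.mpr (B.central_b x (eG_le_tG hx)).symm
  have heq : N = Nb := eq_of_card hle (by rw [B.card_stab hb hbE]; exact B.card_normC)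
  have hσN : σ ∈ N := B.mem_normC.mpr (mem_tList.mpr (Or.inl (by
    refine List.mem_append_left _ (List.mem_append_right _ ?_)
    exact List.mem_map.mpr ⟨1, List.mem_append_left _ (by simp [uList]), mul_one σ⟩)))
  -- pull `σ` back
  have hσ' : g⁻¹ * σ * g ∈ N := by
    have hσb' : σ ∈ Nb := heq ▸ hσN
    refine Subgroup.mem_inf.mpr ⟨?_, ?_⟩
    · rw [mem_normalizer_iff_cmap, cmap_mul, cmap_mul, hE,
        mem_normalizer_iff_cmap.mp hσb'.1]
      conv_lhs => rw [← hE]
      rw [← cmap_mul, inv_mul_cancel, cmap_one]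
    · rw [mem_centralizer_singleton_iff]
      have h := mem_centralizer_singleton_iff.mp hσb'.2
      rw [← hg] at h
      simpa [mul_assoc] using congrArg (fun w => g⁻¹ * w * g) h
  have h := mem_centralizer_singleton_iff.mp (hgen _ hσ')
  have h2 : σ * (t * a) = t * a * σ := by
    rw [← hgb]; simpa [mul_assoc] using congrArg (fun w => g * w * g⁻¹) h
  have h4 : σ * a * σ⁻¹ = a := by
    apply conj_of_comm'
    have ht : σ * t = t * σ := B.left.tσ.symm
    rw [← mul_assoc, ht, mul_assoc, mul_assoc] at h2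
    exact mul_left_cancel h2
  rw [← v4, B.conj_σ_uAt] at h4
  exact absurd (B.left.uAt_inj h4) (by decide)

/-- All five of `ta, tb, tz, a, b` conjugate to `t` is impossible. -/
theorem no_pattern_six (hta : IsConj t (t * a)) (htb : IsConj t (t * b))
    (htz : IsConj t (t * z)) (ha : IsConj t a) (hb : IsConj t b) : False := by
  have hz := B.not_conj_z
  obtain ⟨g, hg, hT⟩ := B.exists_normT htz (central_mul B.central_t B.central_z)
  have hgz := B.conj_z hT
  have hm : ∀ u v : G, g * (u * v) * g⁻¹ = (g * u * g⁻¹) * (g * v * g⁻¹) := fun u v => by group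
  have hgg : g * g * t = t * (g * g) := comm_of_conj (by
    calc g * g * t * (g * g)⁻¹ = g * (g * t * g⁻¹) * g⁻¹ := by group
      _ = t := by rw [hg, hm, hg, hgz, mul_assoc, B.left.z2, mul_one])
  have hggT := B.normC_T hgg (by rw [cmap_mul, hT, hT])
  have hfix : ∀ u, (∀ x ∈ tG t p q z a, u * x = x * u) → IsConj t u → g * u * g⁻¹ ≠ u := by
    intro u hc hK h
    have hgT := B.normT_fix hT hK hc h
    have h1 : t * z = t := by rw [← hg, ← B.central_t g hgT, mul_inv_cancel_right]
    exact B.z_ne_one (mul_eq_left.mp h1)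
  have h2a : g * (g * a * g⁻¹) * g⁻¹ = a := by
    calc g * (g * a * g⁻¹) * g⁻¹ = g * g * a * (g * g)⁻¹ := by group
      _ = a := by rw [← B.central_a _ hggT, mul_inv_cancel_right]
  have hzt : Commute t z := B.left.zt
  have hza : Commute z a := B.left.za
  have hta' : Commute t a := B.left.ta
  have hab : a ≠ b := by
    intro h
    exact B.z_ne_one (mul_eq_left.mp (B.b_eq.symm.trans h.symm))
  have hinj : ∀ u v : G, g * u * g⁻¹ = g * v * g⁻¹ → u = v := fun u v h =>
    mul_left_cancel (mul_right_cancel h)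
  rcases mem_four B (B.conj_centre hT B.a_central_mem.1 B.central_a) with
    h | h | h | h | h | h | h | h
  · exact B.not_conj_one (h ▸ (isConj_conj t g a).mpr ha)
  · exact hz (h ▸ (isConj_conj t g a).mpr ha)
  · exact hfix a B.central_a ha h
  · refine hfix _ (central_mul B.central_t B.central_a) hta ?_
    rw [hm, hg, h, B.b_eq, mul_assoc, ← mul_assoc z a z, hza.eq, mul_assoc a z z, B.left.z2,
      mul_one]
  · rw [h, hg] at h2a
    exact B.t_not_mem_mG (by
      rw [eq_mul_inv_of_mul_eq h2a]
      exact mul_mem (uG_le_mG Side.a_mem) (inv_mem (uG_le_mG Side.z_mem)))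
  · exact B.t_ne_ta.symm (by
      have h' : g * a * g⁻¹ = g * t * g⁻¹ := h.trans hg.symm
      exact absurd (hinj _ _ h') (fun e => B.t_not_mem_mG (e ▸ uG_le_mG Side.a_mem)))
  · rw [h, hm, hg, h] at h2a
    have e : t * z * (t * a) = b := by
      rw [B.b_eq, mul_assoc, ← mul_assoc z t a, ← hzt.eq, mul_assoc t z a, ← mul_assoc t t,
        B.t2, one_mul, hza.eq]
    exact hab (h2a.symm.trans e)
  · rw [h, B.b_eq, hm, hg, hm, h, hgz] at h2a
    have e : t * z * (t * b * z) = b := by
      have ebz : b * z = a := B.right.az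
      rw [mul_assoc t b z, ebz, B.b_eq, mul_assoc, ← mul_assoc z t a, ← hzt.eq, mul_assoc t z a,
        ← mul_assoc t t, B.t2, one_mul, hza.eq]
    exact hab (h2a.symm.trans e)

end Base

end Cfsg.Agent.InvolTimesSym
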