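import Cfsg.Agent.Lib.InvolTimesSym.Model

/-!
# Tools for checking `LFacts` in a symmetric group by kernel computation
-/

set_option autoImplicit false

namespace Cfsg.Agent.InvolTimesSym

open Equiv

variable {n : ℕ}

/-- The images of a permutation, as a list. -/
def imgs (l : Perm (Fin n)) : List (Fin n) := List.ofFn l

theorem imgs_injective : Function.Injective (imgs (n := n)) := fun a b h => by
  ext i
  have := congrArg (fun L : List (Fin n) => L[(i : ℕ)]?) h
  simp [imgs] at this
  exact congrArg Fin.val this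

theorem mem_of_imgs {l : Perm (Fin n)} {S : List (Perm (Fin n))} (h : imgs l ∈ S.map imgs) :
    l ∈ S := by
  obtain ⟨m, hm, he⟩ := List.mem_map.mp h
  exact imgs_injective he ▸ hm

theorem conj_swap (l : Perm (Fin n)) (x y : Fin n) :
    l * swap x y * l⁻¹ = swap (l x) (l y) := (Equiv.swap_apply_apply l x y).symm

theorem conj_two (l : Perm (Fin n)) (x y u v : Fin n) :
    l * (swap x y * swap u v) * l⁻¹ = swap (l x) (l y) * swap (l u) (l v) := by
  rw [← conj_swap, ← conj_swap]; group

theorem conj_three (l : Perm (Fin n)) (x y u v r s : Fin n) :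
    l * (swap x y * swap u v * swap r s) * l⁻¹ =
      swap (l x) (l y) * swap (l u) (l v) * swap (l r) (l s) := by
  rw [← conj_swap, ← conj_swap, ← conj_swap]; group

theorem imgs_mem_map {l : Perm (Fin n)} {S : List (Perm (Fin n))} (h : l ∈ S) :
    imgs l ∈ S.map imgs := List.mem_map_of_mem h

theorem conj_mul_mem {L : Type*} [Group L] {S : List L} (hS : ∀ u ∈ S, ∀ v ∈ S, u * v ∈ S)
    {l x y : L} (hx : l * x * l⁻¹ ∈ S) (hy : l * y * l⁻¹ ∈ S) : l * (x * y) * l⁻¹ ∈ S := by
  have h : l * (x * y) * l⁻¹ = l * x * l⁻¹ * (l * y * l⁻¹) := by group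
  exact h ▸ hS _ hx _ hy

/-- Composition of image lists. -/
def cmp (A B : List (Fin n)) : List (Fin n) := B.map fun i => A.getD i.1 i

theorem imgs_mul (u v : Perm (Fin n)) : imgs (u * v) = cmp (imgs u) (imgs v) := by
  apply List.ext_getElem (by simp [imgs, cmp])
  intro i h1 h2
  simp [imgs, cmp, List.getD_eq_getElem?_getD, List.getElem?_ofFn]

theorem cycleType_involution {σ : Perm (Fin n)} (hσ : σ * σ = 1) :
    ∃ k, 2 * k ≤ n ∧ σ.cycleType = Multiset.replicate k 2 := by
  haveI : Fact (Nat.Prime 2) := ⟨Nat.prime_two⟩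
  refine ⟨_, ?_, Equiv.Perm.cycleType_of_pow_prime_eq_one (by rw [pow_two, hσ])⟩
  have h1 := Equiv.Perm.sum_cycleType σ
  rw [Equiv.Perm.cycleType_of_pow_prime_eq_one (p := 2) (by rw [pow_two, hσ]),
    Multiset.sum_replicate, smul_eq_mul] at h1
  have h2 := σ.support.card_le_univ
  rw [Fintype.card_fin] at h2
  omega

end Cfsg.Agent.InvolTimesSym
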