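import Cfsg.Agent.Lib.InvolTimesSym.Config
import Cfsg.Agent.Lib.InvolTimesSym.FourPoints

/-!
# The configuration `t·({1} ∪ double transpositions)`

`N(E)` permutes the four points of `t^G ∩ E` as `S₄`; exactly twelve conjugates of `t` in it are odd.
-/

set_option autoImplicit false

namespace Cfsg.Agent.InvolTimesSym

open Subgroup Equiv

/-- The transpositions of four points. -/
def transp4 : Finset (Perm (Fin 4)) :=
  {swap 0 1, swap 0 2, swap 0 3, swap 1 2, swap 1 3, swap 2 3}

theorem transp4_odd : ∀ π : Perm (Fin 4), π * π = 1 → (π ∈ transp4 ↔ Perm.sign π ≠ 1) := by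
  decide +kernel

theorem transp4_conj : ∀ x ∈ transp4, ∃ π : Perm (Fin 4), π * swap 2 3 * π⁻¹ = x := by
  decide +kernel

variable {G : Type*} [Group G] [Finite G] {t p q a b z σ τ : G}

namespace TwoCfg

variable (h : TwoCfg t p q a b z σ τ)
include h

theorem mem_four_iff {x : G} (hx : x ∈ eG t p z a) :
    IsConj t x ↔ ∃ i, fourPts t p z a i = x := by
  have B := h.toBase
  obtain ⟨v0, -, v2, -, v4, -, v6, -⟩ := B.uAt_vals
  constructor
  · intro hK
    obtain ⟨n, hn | hn⟩ := B.mem_E_iff.mp hx
    · rw [← hn, B.conj_class_one] at hK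
      have hr := (by decide : ∀ m : Fin 8, rep m = 0 ∨ rep m = 2 ∨ rep m = 4 ∨ rep m = 6) n
      rcases hr with hr | hr | hr | hr <;> rw [hr] at hK
      · exact absurd (v0 ▸ hK) B.not_conj_one
      · exact absurd (v2 ▸ hK) B.not_conj_z
      · exact absurd (v4 ▸ hK) h.na
      · exact absurd (v6 ▸ hK) h.nb
    · rw [← hn, B.conj_class_t] at hK
      have hr := (by decide : ∀ m : Fin 8, (∃ i, four i = m) ∨ rep m = 4 ∨ rep m = 6) n
      rcases hr with ⟨i, hi⟩ | hr | hr
      · exact ⟨i, by rw [fourPts, hi, hn]⟩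
      · rw [hr, v4] at hK; exact absurd hK h.nta
      · rw [hr, v6] at hK; exact absurd hK h.ntb
  · rintro ⟨i, rfl⟩
    rw [fourPts, B.conj_class_t]
    rcases (by decide : ∀ j : Fin 4, rep (four j) = 0 ∨ rep (four j) = 2) i with hr | hr
    · rw [hr, v0, mul_one]
    · rw [hr, v2]; exact h.tz

theorem acts : ActsOn (normalizer (eG t p z a : Set G)) conjAct (fourPts t p z a) := by
  refine h.toBase.actsFour fun g hg i => ?_
  have hx := (cmap_mem_iff hg _).mp (h.toBase.fourPts_mem i)
  obtain ⟨j, hj⟩ := (h.mem_four_iff hx).mp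
    ((isConj_conj t g _).mpr ((h.mem_four_iff (h.toBase.fourPts_mem i)).mpr ⟨i, rfl⟩))
  exact ⟨j, hj.symm⟩

theorem count_q : cosetCount t (eG t p z a) q = 2 := by
  have B := h.toBase
  obtain ⟨v0, -, v2, -, v4, -, v6, -⟩ := B.uAt_vals
  obtain ⟨w0, w1, w2, w3, w4, w5, w6, w7⟩ := B.symm.uAt_vals
  have hqa : q * a = uAt q z b 7 := by
    rw [w7, B.b_eq, mul_assoc q z, ← mul_assoc z a z, B.left.za, mul_assoc a z z, B.left.z2,
      mul_one]
  have hqb : q * b = uAt q z b 5 := w5.symm
  have hset : {s | s ∈ ({x | q⁻¹ * x ∈ eG t p z a} : Set G) ∧ IsConj t s} =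
      ({t * (q * a), t * (q * b)} : Set G) := by
    ext s
    simp only [Set.mem_ofPred_eq, Set.mem_insert_iff, Set.mem_singleton_iff]
    constructor
    · rintro ⟨hs, hK⟩
      obtain ⟨g, hg⟩ := isConj_iff.mp hK
      have hs2 : s * s = 1 := by
        rw [← hg]
        calc g * t * g⁻¹ * (g * t * g⁻¹) = g * (t * t) * g⁻¹ := by group
          _ = 1 := by rw [B.t2]; group
      -- `s = q e` with `e` fixed by `q`
      obtain ⟨n, hn⟩ := B.mem_E_iff.mp hs
      have hfix : lin 3 2 4 n = n := by
        have key : ∀ u : G, u * u = 1 → q * u * (q * u) = 1 → q * u * q⁻¹ = u := fun u hu h' => by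
          calc q * u * q⁻¹ = (q * u * (q * u)) * u⁻¹ * (q * q)⁻¹ := by group
            _ = u := by rw [h', B.right.p2, inv_of_sq hu, one_mul, inv_one, mul_one]
        have hu2 : uAt p z a n * uAt p z a n = 1 := B.eG_sq (B.uAt_mem n)
        rcases hn with hn | hn <;> rw [eq_comm, inv_mul_eq_iff_eq_mul] at hn <;> rw [hn] at hs2
        · have := key _ hu2 hs2
          rw [B.conj_q_uAt] at this
          exact B.left.uAt_inj this
        · have := key _ (B.eG_sq (B.t_uAt_mem n)) hs2
          rw [conj_prod, conj_of_comm' B.left.tq.symm, B.conj_q_uAt] at this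
          exact B.t_uAt_inj this
      have hW := (by decide : ∀ m : Fin 8, lin 3 2 4 m = m → m = 0 ∨ m = 2 ∨ m = 4 ∨ m = 6) n hfix
      have hqn : ∀ m, (m = 0 ∨ m = 2 ∨ m = 4 ∨ m = 6) →
          q * uAt p z a m = uAt q z b 1 ∨ q * uAt p z a m = uAt q z b 3 ∨
          q * uAt p z a m = q * a ∨ q * uAt p z a m = q * b := by
        rintro m (rfl | rfl | rfl | rfl)
        · exact Or.inl (by rw [v0, mul_one, w1])
        · exact Or.inr (Or.inl (by rw [v2, w3]))
        · exact Or.inr (Or.inr (Or.inl (by rw [v4])))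
        · exact Or.inr (Or.inr (Or.inr (by rw [v6])))
      rcases hn with hn | hn <;> rw [eq_comm, inv_mul_eq_iff_eq_mul] at hn
      · exfalso
        rw [hn] at hK
        rcases hqn n hW with h' | h' | h' | h' <;> rw [h'] at hK
        · exact h.nb (by rw [B.symm.conj_class_one, show rep 1 = 4 from rfl, w4] at hK; exact hK)
        · exact h.nb (by rw [B.symm.conj_class_one, show rep 3 = 4 from rfl, w4] at hK; exact hK)
        · rw [hqa, B.symm.conj_class_one, show rep 7 = 2 from rfl, w2] at hK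
          exact B.not_conj_z hK
        · rw [hqb, B.symm.conj_class_one, show rep 5 = 2 from rfl, w2] at hK
          exact B.not_conj_z hK
      · have hn' : s = t * (q * uAt p z a n) := by
          rw [hn, ← mul_assoc, ← B.left.tq, mul_assoc]
        rw [hn'] at hK ⊢
        rcases hqn n hW with h' | h' | h' | h' <;> rw [h'] at hK ⊢
        · exfalso; rw [B.symm.conj_class_t, show rep 1 = 4 from rfl, w4] at hK; exact h.ntb hK
        · exfalso; rw [B.symm.conj_class_t, show rep 3 = 4 from rfl, w4] at hK; exact h.ntb hK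
        · exact Or.inl rfl
        · exact Or.inr rfl
    · have hin : ∀ u, u ∈ eG t p z a → q⁻¹ * (t * (q * u)) ∈ eG t p z a := by
        intro u hu
        have e : q⁻¹ * (t * (q * u)) = t * u := by
          rw [← mul_assoc t, B.left.tq, ← mul_assoc, ← mul_assoc, inv_mul_cancel, one_mul]
        rw [e]; exact mul_mem Base.t_mem_eG hu
      rintro (rfl | rfl)
      · refine ⟨hin _ (mem_sup_left Side.a_mem), ?_⟩
        rw [hqa, B.symm.conj_class_t, show rep 7 = 2 from rfl, w2]; exact h.tz
      · refine ⟨hin _ (by have := B.uAt_mem 6; rwa [v6] at this), ?_⟩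
        rw [hqb, B.symm.conj_class_t, show rep 5 = 2 from rfl, w2]; exact h.tz
  have hne : t * (q * a) ≠ t * (q * b) := fun e => by
    have := mul_left_cancel (mul_left_cancel e)
    rw [← v4, ← v6] at this
    exact absurd (B.left.uAt_inj this) (by decide)
  calc cosetCount t (eG t p z a) q
      = Set.ncard {s | s ∈ ({x | q⁻¹ * x ∈ eG t p z a} : Set G) ∧ IsConj t s} :=
        Nat.card_coe_set_eq _
    _ = 2 := by rw [hset, Set.ncard_pair hne]

theorem exists_index_two (hC : 2 * 384 ∣ Nat.card (centralizer ({t} : Set G)) * 12 → False) :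
    False := by
  have B := h.toBase
  have ha := h.acts
  have hs := B.four_surjective ha (B.exists_move (n := 2) (by decide) (by
    rw [B.uAt_vals.2.2.1]; exact h.tz))
  set H := normalizer (eG t p z a : Set G)
  set φ := Perm.sign.comp ha.hom
  set N := φ.ker.map H.subtype
  have hmem : ∀ g : H, (g : G) ∈ N ↔ Perm.sign (ha.hom g) = 1 := by
    intro g
    constructor
    · rintro ⟨g', hg', e⟩
      rw [← Subtype.ext e]; exact hg'
    · exact fun e => ⟨g, e, rfl⟩
  have hq : φ ⟨q, (B.q_mem_normC).1⟩ = -1 := by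
    change Perm.sign (ha.hom _) = -1
    rw [B.four_q ha, Perm.sign_swap (by decide)]
  have hle : N ≤ H := Subgroup.map_subtype_le _
  have hcard : Nat.card H = 2 * Nat.card N := by
    refine card_eq_two_mul hle (x := q) (B.q_mem_normC).1 (fun e => ?_) fun g hg => ?_
    · exact absurd (((hmem ⟨q, (B.q_mem_normC).1⟩).mp e).symm.trans hq) (by decide)
    · rcases Int.units_eq_one_or (φ ⟨g, hg⟩) with e | e
      · exact Or.inl ((hmem ⟨g, hg⟩).mpr e)
      · refine Or.inr ((hmem (⟨q, (B.q_mem_normC).1⟩⁻¹ * ⟨g, hg⟩)).mpr ?_)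
        change φ _ = 1
        rw [map_mul, map_inv, e, hq]; rfl
  have hd := two_mul_card_dvd B.no B.t2 hle hcard
  rw [B.four_card ha hs] at hd
  classical
  let lift : Perm (Fin 4) → G := fun π => (hs π).choose
  have hN1 : conjCount t ((H : Set G) \ (N : Set G)) = 12 := by
    rw [conjCount_eq_sum ha.hom (B.four_ker ha) Subgroup.le_normalizer t _ transp4 lift
      (fun π _ => ⟨(hs π).choose.2, (hs π).choose_spec⟩) ?_ Set.sdiff_subset]
    · have : ∀ π ∈ transp4, cosetCount t (eG t p z a) (lift π) = 2 := by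
        intro π hπ
        obtain ⟨ξ, hξ⟩ := transp4_conj π hπ
        obtain ⟨n, hn⟩ := hs ξ
        have hmE : ((n * ⟨q, (B.q_mem_normC).1⟩ * n⁻¹ : H) : G)⁻¹ * lift π ∈ eG t p z a := by
          have := (B.four_ker ha ((n * ⟨q, (B.q_mem_normC).1⟩ * n⁻¹)⁻¹ * (hs π).choose)).mp (by
            rw [map_mul, map_inv, map_mul, map_mul, map_inv, hn, B.four_q ha, hξ,
              (hs π).choose_spec, inv_mul_cancel])
          simpa using this
        rw [cosetCount_congr t _ hmE, Subgroup.coe_mul, Subgroup.coe_mul, Subgroup.coe_inv,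
          cosetCount_conj t _ (cmap_mem_iff n.2), h.count_q]
      rw [Finset.sum_congr rfl this, Finset.sum_const]
      rfl
    · intro s hK
      have hs2 : ha.hom s * ha.hom s = 1 := by
        obtain ⟨g, hg⟩ := isConj_iff.mp hK
        rw [← map_mul, show s * s = 1 from Subtype.ext (by
          rw [Subgroup.coe_mul, ← hg, Subgroup.coe_one]
          calc g * t * g⁻¹ * (g * t * g⁻¹) = g * (t * t) * g⁻¹ := by group
            _ = 1 := by rw [B.t2]; group), map_one]
      rw [transp4_odd _ hs2]
      simp only [Set.mem_sdiff, SetLike.mem_coe, s.2, true_and, hmem]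
  rw [hN1] at hd
  exact hC hd

end TwoCfg

end Cfsg.Agent.InvolTimesSym
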